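import Groth.Agent.MTImage.Cartan
import Groth.Agent.SubGen.SpreadBase
import Groth.Agent.HensPair.Sigma
import Groth.Agent.MTBridge.Charts

/-!
# Maximal tori over disjoint unions

A family of maximal tori of the base changes of a group gives a maximal torus over the disjoint union of the bases.
-/

set_option autoImplicit false
set_option linter.style.haveILetI false
set_option backward.isDefEq.respectTransparency false
set_option maxHeartbeats 1000000
set_option synthInstance.maxHeartbeats 400000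

universe u

noncomputable section

open CategoryTheory Limits MonoidalCategory CartesianMonoidalCategory MonObj GrpObj AlgebraicGeometry
open scoped CategoryTheory.Obj

namespace Groth.Agent.MTImage

open Groth.Agent.MTBridge Groth.Agent.Chev Groth.Agent.Chev.MaxTorusExt

variable {S : Scheme.{u}} {ei : Type u} {U : ei → Scheme.{u}}

/-- The counit of pullback along a component. -/
def counit (i : ei) (X : Over (∐ U)) : (Over.map (Sigma.ι U i)).obj (Red.bc (Sigma.ι U i) X) ⟶ X :=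
  Over.homMk (pullback.fst X.hom (Sigma.ι U i)) pullback.condition

/-- Morphisms over a disjoint union are determined on the components. -/
theorem hom_ext_components {X Z : Over (∐ U)} (a b : X ⟶ Z) (h : ∀ i, counit i X ≫ a = counit i X ≫ b) : a = b :=
  Over.OverMorphism.ext (Scheme.Cover.hom_ext ((sigmaOpenCover U).pullback₁ X.hom) _ _ fun i =>
    congrArg (fun w => w.left) (h i))

/-- A compact open is the image of a compact open under a covering map. -/
theorem exists_compact_cover {X Y : Scheme.{u}} (f : X ⟶ Y)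
    (h : ∀ V : Y.Opens, IsAffineOpen V → ∃ W : X.Opens, IsCompact (W : Set X) ∧ f.base '' (W : Set X) = (V : Set Y))
    (V : Y.Opens) (hV : IsCompact (V : Set Y)) :
    ∃ W : X.Opens, IsCompact (W : Set X) ∧ f.base '' (W : Set X) = (V : Set Y) := by
  have hcov : ∀ x : V, ∃ A : Y.Opens, IsAffineOpen A ∧ x.1 ∈ A ∧ A ≤ V := fun x => by
    obtain ⟨_, ⟨A, hA, rfl⟩, hx, hAV⟩ := Y.isBasis_affineOpens.exists_subset_of_mem_open x.2 V.2
    exact ⟨A, hA, hx, hAV⟩
  choose A hA hxA hAV using hcov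
  obtain ⟨t, ht⟩ := hV.elim_finite_subcover (fun x => (A x : Set Y)) (fun x => (A x).2)
    (fun z hz => Set.mem_iUnion.2 ⟨⟨z, hz⟩, hxA ⟨z, hz⟩⟩)
  choose W hW hWA using fun x => h (A x) (hA x)
  refine ⟨⨆ x ∈ t, W x, ?_, ?_⟩
  · simp only [TopologicalSpace.Opens.coe_iSup]
    exact t.finite_toSet.isCompact_biUnion fun x _ => hW x
  · simp only [TopologicalSpace.Opens.coe_iSup, Set.image_iUnion, hWA]
    exact subset_antisymm (Set.iUnion₂_subset fun x _ => hAV x) ht

/-- Covering maps on the components give a covering map of the disjoint unions. -/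
theorem exists_compact_cover_sigma {U' : ei → Scheme.{u}} (f : ∀ i, U' i ⟶ U i)
    (h : ∀ i, ∀ V : (U i).Opens, IsAffineOpen V →
      ∃ W : (U' i).Opens, IsCompact (W : Set (U' i)) ∧ (f i).base '' (W : Set (U' i)) = (V : Set (U i)))
    (V : (∐ U).Opens) (hV : IsAffineOpen V) :
    ∃ W : (∐ U').Opens, IsCompact (W : Set ↥(∐ U')) ∧
      (Limits.Sigma.map f).base '' (W : Set ↥(∐ U')) = (V : Set ↥(∐ U)) := by
  have hVc : IsCompact (V : Set ↥(∐ U)) := hV.isCompact
  have hcov : ∀ x : ↥(∐ U), ∃ i, ∃ y : U i, Sigma.ι U i y = x := fun x => (sigmaOpenCover U).exists_eq x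
  choose idx y hy using hcov
  obtain ⟨t, ht⟩ := hVc.elim_finite_subcover (fun i => Set.range (Sigma.ι U i))
    (fun i => (Sigma.ι U i).isOpenEmbedding.isOpen_range)
    (fun z _ => Set.mem_iUnion.2 ⟨idx z, y z, hy z⟩)
  have hW : ∀ i, ∃ W : (U' i).Opens, IsCompact (W : Set (U' i)) ∧
      (f i).base '' (W : Set (U' i)) = Sigma.ι U i ⁻¹' (V : Set ↥(∐ U)) := fun i => by
    haveI := HensPair.isClosedImmersion_ι (X := U) i
    exact exists_compact_cover (f i) (h i) (Sigma.ι U i ⁻¹ᵁ V)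
      ((Sigma.ι U i).isClosedEmbedding.isCompact_preimage hVc)
  choose W hWc hWV using hW
  refine ⟨⨆ i ∈ t, Sigma.ι U' i ''ᵁ W i, ?_, ?_⟩
  · simp only [TopologicalSpace.Opens.coe_iSup]
    exact t.finite_toSet.isCompact_biUnion fun i _ => (hWc i).image (Sigma.ι U' i).continuous
  · have e : ∀ i, ∀ z : U' i, Limits.Sigma.map f (Sigma.ι U' i z) = Sigma.ι U i (f i z) := fun i z => by
      rw [← Scheme.Hom.comp_apply, Limits.Sigma.ι_map, Scheme.Hom.comp_apply]
    simp only [TopologicalSpace.Opens.coe_iSup, Set.image_iUnion]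
    refine subset_antisymm (Set.iUnion₂_subset fun i _ => ?_) fun x hx => ?_
    · rintro _ ⟨_, ⟨z, hz, rfl⟩, rfl⟩
      show Limits.Sigma.map f (Sigma.ι U' i z) ∈ (V : Set ↥(∐ U))
      rw [e]
      exact (hWV i).le ⟨z, hz, rfl⟩
    · obtain ⟨i, hi, y', rfl⟩ := Set.mem_iUnion₂.1 (ht hx)
      obtain ⟨z, hz, rfl⟩ := (hWV i).ge hx
      exact Set.mem_iUnion₂.2 ⟨i, hi, _, ⟨z, hz, rfl⟩, e i z⟩

/-- A torus whose base change is maximal is maximal over the points in the image. -/
theorem isMaximalAt_of_bc {B V : Scheme.{u}} {G T : Over B} [GrpObj G] [GrpObj T] [LocallyOfFiniteType G.hom]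
    [QuasiCompact G.hom] (f : V ⟶ B) (i : T ⟶ G) [IsMonHom i] [Mono i] (hTt : Red.IsTorus T)
    (h : Red.IsMaximalTorus ((Over.pullback f).map i)) (x : V) :
    ∀ (T' : Over (Spec (CommRingCat.of (AlgebraicClosure (B.residueField (f x)))))) [GrpObj T']
      (j : T' ⟶ Red.geomFibre (f x) G) [IsMonHom j] [Mono j] (g : Red.geomFibre (f x) T ⟶ T'),
      Red.IsTorus T' → g ≫ j = (Over.pullback (Red.geomPt (f x))).map i → IsIso g := by
  haveI : LocallyOfFiniteType (Red.bc f G).hom := inferInstanceAs (LocallyOfFiniteType (pullback.snd G.hom f))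
  haveI : QuasiCompact (Red.bc f G).hom := inferInstanceAs (QuasiCompact (pullback.snd G.hom f))
  let K := AlgebraicClosure (V.residueField x)
  let κ := B.residueField (f x)
  let a := f.residueFieldMap x
  letI : Algebra κ K := ((algebraMap (V.residueField x) K).comp a.hom).toAlgebra
  let k := AlgebraicClosure κ
  let iota : k →ₐ[κ] K := IsAlgClosed.lift
  letI : Algebra k K := iota.toRingHom.toAlgebra
  let τ := Spec.map (CommRingCat.ofHom (algebraMap k K))
  have hτ : τ ≫ Red.geomPt (f x) = Red.geomPt x ≫ f := by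
    show Spec.map _ ≫ Spec.map _ ≫ B.fromSpecResidueField _ = (Spec.map _ ≫ V.fromSpecResidueField x) ≫ f
    rw [← Category.assoc, ← Spec.map_comp,
      show CommRingCat.ofHom (algebraMap κ k) ≫ CommRingCat.ofHom (algebraMap k K) =
        a ≫ CommRingCat.ofHom (algebraMap (V.residueField x) K) from CommRingCat.hom_ext (iota.comp_algebraMap),
      Spec.map_comp, Category.assoc, Category.assoc, Scheme.Hom.SpecMap_residueFieldMap_fromSpecResidueField]
  haveI : Subsingleton (Spec (CommRingCat.of k)) := inferInstanceAs (Subsingleton (PrimeSpectrum k))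
  haveI : Surjective τ := ⟨fun y => ⟨IsLocalRing.closedPoint K, Subsingleton.elim _ _⟩⟩
  haveI : Flat τ := (Flat.SpecMap_iff).2 (RingHom.flat_algebraMap_iff.2 inferInstance)
  let gam := Red.geomPt (f x)
  haveI : PreservesLimitsOfShape WalkingCospan (Over.pullback gam) :=
    (Adjunction.rightAdjoint_preservesLimits (Over.mapPullbackAdj gam)).preservesLimitsOfShape
  have h₀ := MaxTorusBC.isMaxTorus_pt ((Over.pullback f).map i) h (Red.geomPt x)
  obtain ⟨eT, heT, hT'⟩ := MaxTorusBC.exists_trIso (show Red.geomPt x ≫ f = Red.geomPt x ≫ f from rfl) T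
  obtain ⟨eG, heG, hG'⟩ := MaxTorusBC.exists_trIso (show Red.geomPt x ≫ f = Red.geomPt x ≫ f from rfl) G
  obtain ⟨eT₂, heT₂, hT₂'⟩ := MaxTorusBC.exists_trIso hτ T
  obtain ⟨eG₂, heG₂, hG₂'⟩ := MaxTorusBC.exists_trIso hτ G
  haveI : IsMonHom eT.hom := hT'
  haveI : IsMonHom eG.hom := hG'
  haveI : IsMonHom eT₂.hom := hT₂'
  haveI : IsMonHom eG₂.hom := hG₂'
  haveI : IsMonHom eT.symm.hom := inferInstanceAs (IsMonHom eT.inv)
  haveI : IsMonHom eG.symm.hom := inferInstanceAs (IsMonHom eG.inv)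
  have h₁ : AGF.IsMaxTorus ((Over.pullback (Red.geomPt x ≫ f)).map i) :=
    MaxTorusBC.isMaxTorus_of_iso eT.symm eG.symm _ _ (by
      show _ ≫ eG.inv = eT.inv ≫ _
      rw [Iso.eq_inv_comp, ← Category.assoc, Iso.comp_inv_eq, heT, heG, ← tr_naturality, Category.comp_id, ← tr_comp,
        Category.id_comp]) (Borel.isTorus_bc_scheme T _ hTt) h₀
  have h₂ : AGF.IsMaxTorus ((Over.pullback τ).map ((Over.pullback gam).map i)) :=
    MaxTorusBC.isMaxTorus_of_iso eT₂ eG₂ _ _ (by
      rw [heT₂, heG₂, ← tr_naturality, Category.comp_id, ← tr_comp, Category.id_comp])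
      (Borel.isTorus_bc_scheme _ τ (Borel.isTorus_bc_scheme T gam hTt)) h₁
  exact (MaxTorusBC.isMaxTorus_descend τ _ (Borel.isTorus_bc_scheme T gam hTt) h₂).2.2.2

/-- **Maximal tori on the components give a maximal torus on the disjoint union.** -/
theorem exists_maxTorus_sigma {G : Over S} [GrpObj G] [LocallyOfFiniteType G.hom] [QuasiCompact G.hom]
    (e : ∀ i, U i ⟶ S)
    (h : ∀ i, ∃ (T : Over (U i)) (_ : GrpObj T) (t : T ⟶ Red.bc (e i) G), Red.IsMaximalTorus t) :
    ∃ (T : Over (∐ U)) (_ : GrpObj T) (t : T ⟶ Red.bc (Sigma.desc e) G), Red.IsMaximalTorus t := by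
  choose Ti hTig ti hti using h
  let G' := Red.bc (Sigma.desc e) G
  haveI : LocallyOfFiniteType G'.hom := inferInstanceAs (LocallyOfFiniteType (pullback.snd G.hom (Sigma.desc e)))
  haveI : QuasiCompact G'.hom := inferInstanceAs (QuasiCompact (pullback.snd G.hom (Sigma.desc e)))
  have hψ : ∀ i, ∃ ψ : Red.bc (e i) G ≅ Red.bc (Sigma.ι U i) G', IsMonHom ψ.hom := fun i => by
    obtain ⟨ψ, -, hm⟩ := MaxTorusBC.exists_trIso (Sigma.ι_desc e i) G
    exact ⟨ψ, hm⟩
  choose ψ hψm using hψ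
  let A : ei → Scheme.{u} := fun i => (Ti i).left
  let T : Over (∐ U) := Over.mk (Limits.Sigma.map fun i => (Ti i).hom)
  let t : T ⟶ G' := Over.homMk
    (Sigma.desc fun i => (ti i).left ≫ (ψ i).hom.left ≫ pullback.fst G'.hom (Sigma.ι U i)) (by
      refine Sigma.hom_ext _ _ fun i => ?_
      show Sigma.ι A i ≫ Sigma.desc _ ≫ G'.hom = Sigma.ι A i ≫ Limits.Sigma.map _
      rw [Sigma.ι_desc_assoc, Limits.Sigma.ι_map, Category.assoc, Category.assoc, pullback.condition,
        ← reassoc_of% (Over.w (ti i)), ← reassoc_of% (Over.w (ψ i).hom)]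
      rfl)
  have sq : ∀ i, IsPullback (Sigma.ι A i) (Ti i).hom T.hom (Sigma.ι U i) := fun i =>
    HensPair.isPullback_sigmaMap (fun i => (Ti i).hom) i
  let φ : ∀ i, Ti i ≅ Red.bc (Sigma.ι U i) T := fun i => Over.isoMk (sq i).isoPullback (sq i).isoPullback_hom_snd
  have key : ∀ i, (φ i).hom ≫ (Over.pullback (Sigma.ι U i)).map t = ti i ≫ (ψ i).hom := fun i => by
    apply Over.OverMorphism.ext
    apply pullback.hom_ext
    · show ((sq i).isoPullback.hom ≫ ((Over.pullback (Sigma.ι U i)).map t).left) ≫ pullback.fst _ _ =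
        ((ti i).left ≫ (ψ i).hom.left) ≫ pullback.fst _ _
      simp only [Over.pullback_map_left, Category.assoc, pullback.lift_fst, IsPullback.isoPullback_hom_fst_assoc]
      exact Sigma.ι_desc _ i
    · show ((sq i).isoPullback.hom ≫ ((Over.pullback (Sigma.ι U i)).map t).left) ≫ pullback.snd _ _ =
        ((ti i).left ≫ (ψ i).hom.left) ≫ pullback.snd _ _
      simp only [Over.pullback_map_left, Category.assoc, pullback.lift_snd, IsPullback.isoPullback_hom_snd]
      exact ((congrArg ((ti i).left ≫ ·) (Over.w (ψ i).hom)).trans (Over.w (ti i))).symm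
  have hm : ∀ i, (Over.pullback (Sigma.ι U i)).map t = (φ i).inv ≫ ti i ≫ (ψ i).hom := fun i => by
    rw [← key, Iso.inv_hom_id_assoc]
  have hmono : ∀ i, Mono ((Over.pullback (Sigma.ι U i)).map t) := fun i => by
    haveI := (hti i).2.1
    rw [hm]
    infer_instance
  haveI : Mono t := ⟨fun a b hab => hom_ext_components a b fun i => toBC_inj (Sigma.ι U i) (by
    haveI := hmono i
    rw [← cancel_mono ((Over.pullback (Sigma.ι U i)).map t), ← toBC_comp, ← toBC_comp, Category.assoc,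
      Category.assoc, hab])⟩
  haveI : Mono t.left := inferInstance
  have hlift : ∀ {X : Over (∐ U)} (g : X ⟶ G'), (∀ i, ∃ y : Red.bc (Sigma.ι U i) X ⟶ Ti i,
      y ≫ ti i ≫ (ψ i).hom = toBC (Sigma.ι U i) (counit i X ≫ g)) → ∃ z, z ≫ t = g := by
    intro X g hg
    have ha : ∀ i, ∃ a : (Over.map (Sigma.ι U i)).obj (Red.bc (Sigma.ι U i) X) ⟶ T,
        a ≫ t = counit i X ≫ g := fun i => by
      obtain ⟨y, hy⟩ := hg i
      obtain ⟨a, ha⟩ := exists_toBC (Sigma.ι U i) (y ≫ (φ i).hom)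
      exact ⟨a, toBC_inj (Sigma.ι U i) (by rw [toBC_comp, ha, Category.assoc, key, hy])⟩
    choose a ha using ha
    let 𝒰 := (sigmaOpenCover U).pullback₁ X.hom
    have hcompat : ∀ i j, pullback.fst (𝒰.f i) (𝒰.f j) ≫ (a i).left = pullback.snd _ _ ≫ (a j).left := fun i j => by
      rw [← cancel_mono t.left, Category.assoc, Category.assoc, ← Over.comp_left, ← Over.comp_left, ha, ha]
      show _ ≫ (𝒰.f i ≫ g.left) = _ ≫ (𝒰.f j ≫ g.left)
      rw [pullback.condition_assoc]
    let z := Scheme.Cover.glueMorphisms 𝒰 (fun i => (a i).left) hcompat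
    have hz : ∀ i, 𝒰.f i ≫ z = (a i).left := fun i => Scheme.Cover.ι_glueMorphisms 𝒰 _ hcompat i
    refine ⟨Over.homMk z (Scheme.Cover.hom_ext 𝒰 _ _ fun i => ?_), Over.OverMorphism.ext
      (Scheme.Cover.hom_ext 𝒰 _ _ fun i => ?_)⟩
    · rw [reassoc_of% (hz i)]
      exact Over.w (a i) |>.trans pullback.condition.symm
    · show 𝒰.f i ≫ z ≫ t.left = _
      rw [reassoc_of% (hz i)]
      exact congrArg (fun w => w.left) (ha i)
  obtain ⟨hTg, htm⟩ := SubGen.Spread.exists_grpObj_of_div t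
    (hlift _ fun i => ⟨1, by
      haveI := (hti i).1; haveI := hψm i
      rw [MonObj.one_comp, show (η[G'] : 𝟙_ _ ⟶ G') = 1 by
        rw [Hom.one_def, toUnit_unit, Category.id_comp], MonObj.comp_one, MTKernel.toBC_one]⟩)
    (hlift _ fun i => ⟨((toBC (Sigma.ι U i) (counit i _ ≫ fst T T) ≫ (φ i).inv)⁻¹ *
        (toBC (Sigma.ι U i) (counit i _ ≫ snd T T) ≫ (φ i).inv)), by
      haveI := (hti i).1; haveI := hψm i
      rw [MonObj.mul_comp, GrpObj.inv_comp, MonObj.comp_mul, GrpObj.comp_inv, toBC_mul, toBC_inv, Category.assoc,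
        Category.assoc, ← hm, ← toBC_comp, ← toBC_comp, Category.assoc, Category.assoc]⟩)
  haveI := htm
  haveI : ∀ i, IsMonHom (φ i).hom := fun i => by
    haveI := (hti i).1; haveI := hψm i; haveI := hmono i
    exact MTSplit.isMonHom_of_comp_mono _ _ _ (key i)
  have hTt : Red.IsTorus T := by
    choose S' f hff hfs hfc hfl using fun i => (hti i).2.2.1
    have eF : ∀ i, Sigma.ι S' i ≫ Limits.Sigma.map f = f i ≫ Sigma.ι U i := Limits.Sigma.ι_map f
    refine ⟨∐ S', Limits.Sigma.map f, ?_, ?_, exists_compact_cover_sigma f hfc, ?_⟩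
    · have h' : ∀ i, Flat (f i ≫ Sigma.ι U i) := fun i => by haveI := hff i; infer_instance
      have hd := IsZariskiLocalAtSource.sigmaDesc (P := @Flat) h'
      convert hd using 1
      exact Sigma.hom_ext _ _ fun i => by rw [eF, Sigma.ι_desc]
    · refine ⟨fun x => ?_⟩
      obtain ⟨i, y, rfl⟩ : ∃ i, ∃ y : U i, Sigma.ι U i y = x := (sigmaOpenCover U).exists_eq x
      obtain ⟨z, rfl⟩ := (hfs i).surj y
      exact ⟨Sigma.ι S' i z, by rw [← Scheme.Hom.comp_apply, eF, Scheme.Hom.comp_apply]⟩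
    · intro x
      obtain ⟨i, z, rfl⟩ : ∃ i, ∃ z : S' i, Sigma.ι S' i z = x := (sigmaOpenCover S').exists_eq x
      obtain ⟨V, hzV, r, hsp⟩ := hfl i z
      refine ⟨Sigma.ι S' i ''ᵁ V, ⟨z, hzV, rfl⟩, r, ?_⟩
      obtain ⟨e'⟩ := nonempty_bc_split (H := Ti i) hsp ((Sigma.ι S' i).isoImage V).inv
      have heq : (((Sigma.ι S' i).isoImage V).inv ≫ V.ι ≫ f i) ≫ Sigma.ι U i =
          (Sigma.ι S' i ''ᵁ V).ι ≫ Limits.Sigma.map f := by
        rw [← (Sigma.ι S' i).isoImage_inv_ι V, Category.assoc, Category.assoc, Category.assoc, Category.assoc, eF]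
      exact ⟨bcCongr heq.symm T ≪≫ bcComp (Sigma.ι U i) (((Sigma.ι S' i).isoImage V).inv ≫ V.ι ≫ f i) T ≪≫
        bcMapIso _ (Grp.mkIso' (φ i)).symm ≪≫ e'⟩
  refine ⟨T, hTg, t, htm, inferInstance, hTt, fun x => ?_⟩
  obtain ⟨i, y, rfl⟩ : ∃ i, ∃ y : U i, Sigma.ι U i y = x := (sigmaOpenCover U).exists_eq x
  haveI := hψm i
  exact isMaximalAt_of_bc (Sigma.ι U i) t hTt (isMaximalTorus_iso (φ i) (ψ i) (ti i) _ (key i).symm
    (Borel.isTorus_bc_scheme T (Sigma.ι U i) hTt) (hti i)) y

end Groth.Agent.MTImage
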