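import Groth.Agent.MTImage.CartanFamily
import Groth.Agent.MTImage.Sigma

/-!
# Cartan subgroups exist etale locally and are conjugate
-/

set_option autoImplicit false
set_option linter.style.haveILetI false
set_option backward.isDefEq.respectTransparency false
set_option maxHeartbeats 1000000
set_option synthInstance.maxHeartbeats 400000

universe u

noncomputable section

open CategoryTheory Limits MonoidalCategory CartesianMonoidalCategory MonObj GrpObj AlgebraicGeometry
open scoped CategoryTheory.Obj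

namespace Groth.Agent.MTImage

open Groth.Agent.MTBridge Groth.Agent.Chev Groth.Agent.Chev.MaxTorusExt

variable {S : Scheme.{u}}

/-- Transport of a Cartan subgroup along isomorphisms. -/
theorem isCartan_iso {C G C' G' : Over S} [GrpObj C] [GrpObj G] [GrpObj C'] [GrpObj G'] (eC : C ≅ C') (eG : G ≅ G')
    [IsMonHom eC.hom] [IsMonHom eG.hom] (c : C ⟶ G) (c' : C' ⟶ G') (hsq : c ≫ eG.hom = eC.hom ≫ c')
    (h : SGA3x.IsCartan c) : SGA3x.IsCartan c' := by
  obtain ⟨hm, hmono, hs, hf⟩ := h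
  haveI := hm; haveI := hmono; haveI := hs
  have hc' : c' = eC.inv ≫ c ≫ eG.hom := by rw [hsq, Iso.inv_hom_id_assoc]
  refine ⟨by rw [hc']; infer_instance, by rw [hc']; exact mono_comp _ _, ?_, fun s => ?_⟩
  · rw [← Over.w eC.inv]
    haveI : IsIso eC.inv.left := ((Over.forget S).mapIso eC.symm).isIso_hom
    infer_instance
  · let F := Over.pullback (Red.geomPt s)
    haveI : IsMonHom (F.mapIso eC).hom := inferInstanceAs (IsMonHom (F.map eC.hom))
    haveI : IsMonHom (F.mapIso eG).hom := inferInstanceAs (IsMonHom (F.map eG.hom))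
    exact isCartanOver_iso (F.mapIso eC) (F.mapIso eG) _ _
      (show F.map c ≫ F.map eG.hom = F.map eC.hom ≫ F.map c' by rw [← F.map_comp, hsq, F.map_comp]) (hf s)

/-- An inclusion of Cartan subgroups is an isomorphism. -/
theorem isIso_of_isCartan_le {C C' G : Over S} [GrpObj C] [GrpObj C'] [GrpObj G] [LocallyOfFiniteType G.hom]
    [QuasiCompact G.hom] (c : C ⟶ G) (hc : SGA3x.IsCartan c) (c' : C' ⟶ G) (hc' : SGA3x.IsCartan c') (w : C ⟶ C')
    (hw : w ≫ c' = c) : IsIso w := by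
  haveI : Smooth C.hom := hc.2.2.1
  haveI : Smooth C'.hom := hc'.2.2.1
  haveI : IsIso w.left := FibCrit.isIso_of_fibres (Over.w w) fun t => by
    refine isIso_fibre_of_geom w t ?_
    let a := Red.geomPt t
    haveI : LocallyOfFiniteType (Red.bc a G).hom := inferInstanceAs (LocallyOfFiniteType (pullback.snd G.hom a))
    haveI : QuasiCompact (Red.bc a G).hom := inferInstanceAs (QuasiCompact (pullback.snd G.hom a))
    haveI : IsIso ((Over.pullback a).map w) :=
      isIso_of_cartan_le _ (hc.2.2.2 t) _ (hc'.2.2.2 t) _ (by rw [← Functor.map_comp, hw])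
    exact ((Over.forget _).mapIso (asIso ((Over.pullback a).map w))).isIso_hom
  exact (isIso_iff_of_reflects_iso w (Over.forget _)).1 ‹IsIso w.left›

/-- **The locus where a smooth subgroup with connected fibres is Cartan is open**, when the group acquires a Cartan
subgroup after a quasi-compact flat surjective base change. -/
theorem isOpen_cartan_locus {S' : Scheme.{u}} {G : Over S} [GrpObj G] [Smooth G.hom] [IsSeparated G.hom]
    [QuasiCompact G.hom] (hconn : ∀ s : S, _root_.IsConnected (G.hom.base ⁻¹' {s})) (f : S' ⟶ S) [Flat f]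
    [Surjective f] [QuasiCompact f] {C' : Over S'} [GrpObj C'] (c' : C' ⟶ Red.bc f G) (hc' : SGA3x.IsCartan c')
    {W : Scheme.{u}} (φ : W ⟶ S) {Z : Over W} [GrpObj Z] [Smooth Z.hom]
    (hZ : ∀ w : W, _root_.IsConnected (Z.hom.base ⁻¹' {w})) (z : Z ⟶ Red.bc φ G) [IsMonHom z] [Mono z] :
    IsOpen {w : W | SGA3x.IsCartanOver (AlgebraicClosure (W.residueField w))
      ((Over.pullback (Red.geomPt w)).map z)} := by
  haveI : Smooth (Red.bc φ G).hom := inferInstanceAs (Smooth (pullback.snd G.hom φ))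
  haveI : IsSeparated (Red.bc φ G).hom := inferInstanceAs (IsSeparated (pullback.snd G.hom φ))
  haveI : QuasiCompact (Red.bc φ G).hom := inferInstanceAs (QuasiCompact (pullback.snd G.hom φ))
  have hGW := isConnected_fibre_bc G hconn φ
  haveI : QuasiCompact Z.hom := Groth.Agent.S5324.result W Z (fun _ =>
    MorphismProperty.pullback_snd _ _ (inferInstanceAs (LocallyOfFiniteType Z.hom))) hZ
  let q : pullback φ f ⟶ W := pullback.fst φ f
  let q₂ : pullback φ f ⟶ S' := pullback.snd φ f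
  haveI : Surjective q := MorphismProperty.pullback_fst _ _ ‹Surjective f›
  haveI : Flat q := MorphismProperty.pullback_fst _ _ ‹Flat f›
  haveI : QuasiCompact q := MorphismProperty.pullback_fst _ _ ‹QuasiCompact f›
  let Gq := Red.bc q (Red.bc φ G)
  haveI : Smooth Gq.hom := inferInstanceAs (Smooth (pullback.snd (Red.bc φ G).hom q))
  haveI : IsSeparated Gq.hom := inferInstanceAs (IsSeparated (pullback.snd (Red.bc φ G).hom q))
  haveI : QuasiCompact Gq.hom := inferInstanceAs (QuasiCompact (pullback.snd (Red.bc φ G).hom q))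
  haveI : Smooth (Red.bc q Z).hom := inferInstanceAs (Smooth (pullback.snd Z.hom q))
  haveI : QuasiCompact (Red.bc q Z).hom := inferInstanceAs (QuasiCompact (pullback.snd Z.hom q))
  haveI : PreservesLimitsOfShape WalkingCospan (Over.pullback q) :=
    (Adjunction.rightAdjoint_preservesLimits (Over.mapPullbackAdj q)).preservesLimitsOfShape
  -- a Cartan subgroup over the pullback
  haveI : LocallyOfFiniteType (Red.bc f G).hom := inferInstanceAs (LocallyOfFiniteType (pullback.snd G.hom f))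
  haveI : QuasiCompact (Red.bc f G).hom := inferInstanceAs (QuasiCompact (pullback.snd G.hom f))
  obtain ⟨e₁, -, he₁⟩ := MaxTorusBC.exists_trIso (show q₂ ≫ f = q₂ ≫ f from rfl) G
  obtain ⟨e₂, -, he₂⟩ := MaxTorusBC.exists_trIso (show q ≫ φ = q₂ ≫ f from pullback.condition) G
  haveI : IsMonHom e₁.hom := he₁
  haveI : IsMonHom e₂.hom := he₂
  let eG : Red.bc q₂ (Red.bc f G) ≅ Gq := e₁.symm ≪≫ e₂
  haveI : IsMonHom eG.hom := inferInstanceAs (IsMonHom (e₁.inv ≫ e₂.hom))
  haveI : IsMonHom (Iso.refl (Red.bc q₂ C')).hom := inferInstanceAs (IsMonHom (𝟙 _))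
  have hc'' : SGA3x.IsCartan ((Over.pullback q₂).map c' ≫ eG.hom) :=
    isCartan_iso (Iso.refl _) eG _ _ (by rw [Iso.refl_hom, Category.id_comp]) (isCartan_bc c' hc' q₂)
  -- the preimage of the locus
  have hq : ∀ v : ↥(pullback φ f), SGA3x.IsCartanOver _ ((Over.pullback (Red.geomPt v)).map ((Over.pullback q).map z)) ↔
      SGA3x.IsCartanOver _ ((Over.pullback (Red.geomPt (q v))).map z) := fun v => by
    rw [isCartanOver_map_map_iff]
    refine (isCartanOver_geomPt_iff hGW z (Red.geomPt v ≫ q) ?_).symm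
    rw [Scheme.Hom.comp_apply]
    refine congrArg q ?_
    show (Spec.map _ ≫ (pullback φ f).fromSpecResidueField v) _ = v
    rw [Scheme.Hom.comp_apply]
    exact (pullback φ f).fromSpecResidueField_apply _ _
  rw [← (Flat.isQuotientMap_of_surjective q).isOpen_preimage]
  refine isOpen_iff_forall_mem_open.2 fun v hv => ?_
  obtain ⟨U, hvU, hU⟩ := exists_nhd_cartan (isConnected_fibre_bc (Red.bc φ G) hGW q) _ hc''
    (isConnected_fibre_bc Z hZ q) ((Over.pullback q).map z) v ((hq v).2 hv)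
  exact ⟨U, fun v' hv' => (hq v').1 (hU v' hv'), U.2, hvU⟩

/-- **Cartan subgroups exist on etale neighbourhoods**, when they exist after a quasi-compact flat surjective base
change. -/
theorem exists_cartan_etale_nhd (l : ℕ) (hl : l = 2 ∨ l = 3) (hu : IsUnit (l : Γ(S, ⊤))) {S' : Scheme.{u}}
    {G : Over S} [GrpObj G] [Smooth G.hom] [IsSeparated G.hom] [QuasiCompact G.hom]
    (hconn : ∀ s : S, _root_.IsConnected (G.hom.base ⁻¹' {s})) (f : S' ⟶ S) [Flat f]
    [Surjective f] [QuasiCompact f] {C' : Over S'} [GrpObj C'] (c' : C' ⟶ Red.bc f G) (hc' : SGA3x.IsCartan c')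
    (s : S) : ∃ (U : Scheme.{u}) (e : U ⟶ S), Etale e ∧ s ∈ Set.range e.base ∧
      ∃ (C : Over U) (_ : GrpObj C) (c : C ⟶ Red.bc e G), SGA3x.IsCartan c := by
  let x := Red.geomPt s
  let K := AlgebraicClosure (S.residueField s)
  haveI : Smooth (Red.bc x G).hom := inferInstanceAs (Smooth (pullback.snd G.hom x))
  haveI : IsSeparated (Red.bc x G).hom := inferInstanceAs (IsSeparated (pullback.snd G.hom x))
  haveI : QuasiCompact (Red.bc x G).hom := inferInstanceAs (QuasiCompact (pullback.snd G.hom x))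
  haveI : ConnectedSpace ↥(Red.bc x G).left := connectedSpace_bc_pt G hconn x
  obtain ⟨T, hTg, i, C, hCg, c, hi, hC, hCs, hCc, hcc, hc⟩ := exists_cartanOver (Red.bc x G)
  haveI := hi.1; haveI := hi.2.1; haveI := hC.1; haveI := hC.2.1; haveI := hCs; haveI := hcc
  haveI : Smooth T.hom := smooth_torus hi.2.2.1
  have hl1 : 1 < l := by rcases hl with rfl | rfl <;> norm_num
  have hlpos : 0 < l := by omega
  have hlK : (l : K) ≠ 0 := by
    have h := ((hu.map x.appTop.hom).map (Scheme.ΓSpecIso (CommRingCat.of K)).hom.hom)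
    rw [map_natCast, map_natCast] at h
    exact h.ne_zero
  obtain ⟨m, L, hL, hcent⟩ := exists_torsion_centralizer l hl1 hlK hi.2.2.1 i
  choose F hF using fun t : 𝟙_ (Over (Spec (CommRingCat.of K))) ⟶ T => exists_kpt x (t ≫ i)
  obtain ⟨W, τ, hW, hτ, hτc, huniv⟩ := exists_tuple_scheme l hl m L.length G hu
  haveI := hW
  obtain ⟨p, hp⟩ := huniv _ (fun j => F L[j])
    (fun j => kpt_inj x (by
      rw [kpt_pow, hF, ← MTTorus.comp_pow_hom, Fin.getElem_fin, hL _ (List.getElem_mem j.2), MonObj.one_comp,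
        kpt_one]))
    (fun a b => kpt_inj x (by
      rw [kpt_mul, kpt_mul, hF, hF, ← MonObj.mul_comp, ← MonObj.mul_comp, RedR1.mul_comm_torus hi.2.2.1]))
  let GW := Red.bc W.hom G
  haveI : Smooth GW.hom := inferInstanceAs (Smooth (pullback.snd G.hom W.hom))
  haveI : IsSeparated GW.hom := inferInstanceAs (IsSeparated (pullback.snd G.hom W.hom))
  haveI : QuasiCompact GW.hom := inferInstanceAs (QuasiCompact (pullback.snd G.hom W.hom))
  obtain ⟨Z, hZg, iZ, hiZm, hiZc, hZs, hZq, hZsep, hZ⟩ := exists_tuple_centralizer (l ^ m) (pow_pos hlpos m)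
    (G := GW) (by rw [Nat.cast_pow]; exact (isUnit_natCast W.hom l hu).pow m) (fun j => sec (τ j))
    (fun j => by rw [← sec_pow, hτ, sec_one])
    (fun a b => by
      show toBC W.hom _ * toBC W.hom _ = toBC W.hom _ * toBC W.hom _
      rw [← toBC_mul, ← toBC_mul, ← MonObj.comp_mul, ← MonObj.comp_mul, hτc])
  haveI := hiZm; haveI := hiZc; haveI := hZs; haveI := hZq; haveI := hZsep
  haveI : Mono iZ.left := inferInstance
  haveI : Mono iZ := Over.mono_of_mono_left iZ
  obtain ⟨-, Z₀, hZ₀g, c₀, hc₀m, hc₀o, hc₀r, hZ₀s, hZ₀q⟩ := Groth.Agent.S4098.result W.left Z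
    ⟨⊤, by infer_instance, fun _ => trivial⟩
  haveI := hc₀m; haveI := hc₀o; haveI := hZ₀s; haveI := hZ₀q
  haveI : Mono c₀.left := inferInstance
  haveI : Mono c₀ := Over.mono_of_mono_left c₀
  haveI : Mono (c₀ ≫ iZ) := mono_comp _ _
  have hZ₀c : ∀ t : W.left, _root_.IsConnected (Z₀.hom.base ⁻¹' {t}) := fun t => by
    haveI : ConnectedSpace ↥(Z₀.hom.fiber t) := connected_fibre_neutral c₀ hc₀r t
    exact isConnected_iff_connectedSpace.2
      ((Z₀.hom.fiberHomeo t).surjective.connectedSpace (Z₀.hom.fiberHomeo t).continuous)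
  let q : Spec (CommRingCat.of K) ⟶ W.left := p.left
  have hqx : q ≫ W.hom = x := Over.w p
  -- the fibre at `q` is Cartan
  have hfib : SGA3x.IsCartanOver K ((Over.pullback q).map (c₀ ≫ iZ)) := by
    haveI : PreservesLimitsOfShape WalkingCospan (Over.pullback q) :=
      (Adjunction.rightAdjoint_preservesLimits (Over.mapPullbackAdj q)).preservesLimitsOfShape
    obtain ⟨eG, heG, hG'⟩ := MaxTorusBC.exists_trIso hqx G
    haveI : IsMonHom eG.hom := hG'
    haveI : IsIso eG.hom.left := ((Over.forget _).mapIso eG).isIso_hom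
    have hpts : ∀ b : Over.mk x ⟶ G, kpt x b ≫ eG.hom = kpt q (pt p b) := fun b => by
      rw [heG]; exact kpt_pt p hqx b
    haveI : Smooth (Red.bc q Z₀).hom := inferInstanceAs (Smooth (pullback.snd Z₀.hom q))
    haveI : LocallyOfFiniteType (Red.bc q Z).hom := inferInstanceAs (LocallyOfFiniteType (pullback.snd Z.hom q))
    haveI : IsClosedImmersion ((Over.pullback q).map iZ).left :=
      MorphismProperty.of_isPullback (P := @IsClosedImmersion) (isPullback_map iZ q) hiZc
    haveI : IsOpenImmersion ((Over.pullback q).map c₀).left :=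
      MorphismProperty.of_isPullback (P := @IsOpenImmersion) (isPullback_map c₀ q) hc₀o
    haveI : IsClosedImmersion (c ≫ eG.hom).left := inferInstanceAs (IsClosedImmersion (c.left ≫ eG.hom.left))
    haveI : Mono (c ≫ eG.hom) := mono_comp _ _
    -- `C` centralizes the tuple
    obtain ⟨k, hk⟩ := exists_factor_kpts (c ≫ eG.hom) ((Over.pullback q).map iZ) fun v => by
      obtain ⟨b, hb⟩ := exists_kpt x (v ≫ c)
      obtain ⟨w, hw⟩ := (hZ _ (pt p b)).2 fun j => by
        rw [toUnit_sec p (τ j), hp, pt_comm_iff]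
        refine kpt_inj x ?_
        rw [kpt_mul, kpt_mul, hF, hb]
        have h := (hC.2.2 _ (v ≫ c)).1 ⟨v, rfl⟩ _ (𝟙 _) L[j]
        rw [Category.id_comp] at h
        exact h.symm
      exact ⟨kpt q w, by rw [← kpt_comp, hw, ← hpts, hb, Category.assoc]⟩
    haveI : IsMonHom k := MTSplit.isMonHom_of_comp_mono k _ _ hk
    haveI : Subsingleton ↥(Spec (CommRingCat.of K)) := inferInstanceAs (Subsingleton (PrimeSpectrum K))
    obtain ⟨k₀, hk₀⟩ := exists_factor_connected k ((Over.pullback q).map c₀) fun t => by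
      rw [show C.hom.base ⁻¹' {t} = Set.univ from Set.eq_univ_of_forall fun z => Subsingleton.elim _ _]
      haveI := hCc
      exact isConnected_univ
    -- the centralizer of the tuple lies in `C`
    obtain ⟨v, hv⟩ := exists_factor_kpts ((Over.pullback q).map (c₀ ≫ iZ)) (c ≫ eG.hom) fun z => by
      obtain ⟨z', rfl⟩ := exists_kpt q z
      obtain ⟨b, hb⟩ := exists_pt p (z' ≫ c₀ ≫ iZ)
      have hb' : ∀ t ∈ L, (t ≫ i) * kpt x b = kpt x b * (t ≫ i) := fun t ht => by
        obtain ⟨j, hj, rfl⟩ := List.getElem_of_mem ht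
        have h := (hZ _ (pt p b)).1 ⟨z' ≫ c₀, by rw [Category.assoc, hb]⟩ ⟨j, hj⟩
        rw [toUnit_sec p (τ ⟨j, hj⟩), hp, pt_comm_iff] at h
        have h' := congrArg (kpt x) h
        rw [kpt_mul, kpt_mul, hF] at h'
        exact h'
      obtain ⟨y, hy⟩ := (hC.2.2 _ (kpt x b)).2 fun X y h => by
        suffices hs : i * (toUnit T ≫ kpt x b) = (toUnit T ≫ kpt x b) * i by
          have h2 := congrArg (fun m => h ≫ m) hs
          simp only [MonObj.comp_mul, ← Category.assoc, comp_toUnit] at h2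
          rw [toUnit_unique y (toUnit X)]
          exact h2.symm
        refine hom_ext_kpts fun t => ?_
        simp only [MonObj.comp_mul, ← Category.assoc]
        rw [toUnit_unique (t ≫ toUnit T) (𝟙 _), Category.id_comp]
        exact hcent (kpt x b) hb' t
      exact ⟨y, by rw [reassoc_of% hy, hpts, hb, kpt_comp]⟩
    haveI : Mono ((Over.pullback q).map (c₀ ≫ iZ)) := inferInstance
    have hk' : k₀ ≫ (Over.pullback q).map (c₀ ≫ iZ) = c ≫ eG.hom := by
      rw [Functor.map_comp, ← Category.assoc, hk₀, hk]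
    let e₀ : C ≅ Red.bc q Z₀ := ⟨k₀, v, by rw [← cancel_mono (c ≫ eG.hom), Category.assoc, hv, hk', Category.id_comp],
      by rw [← cancel_mono ((Over.pullback q).map (c₀ ≫ iZ)), Category.assoc, hk', hv, Category.id_comp]⟩
    haveI : IsMonHom e₀.hom := MTSplit.isMonHom_of_comp_mono k₀ _ _ hk'
    exact isCartanOver_iso e₀ eG c _ hk'.symm hc
  haveI : IsSeparated Z₀.hom := by rw [← Over.w c₀]; infer_instance
  haveI : QuasiCompact Z₀.hom := hZ₀q
  have hop := isOpen_cartan_locus hconn f c' hc' W.hom hZ₀c (c₀ ≫ iZ)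
  let Ω : W.left.Opens := ⟨_, hop⟩
  have hqΩ : q (IsLocalRing.closedPoint K) ∈ Ω :=
    (isCartanOver_geomPt_iff (isConnected_fibre_bc G hconn W.hom) (c₀ ≫ iZ) q rfl).2 hfib
  let WΩ : Over S := Over.mk (Ω.ι ≫ W.hom)
  haveI : Smooth WΩ.hom := inferInstanceAs (Smooth (Ω.ι ≫ W.hom))
  have hr : Set.range q ⊆ Set.range Ω.ι := by
    rintro _ ⟨y, rfl⟩
    rw [Ω.range_ι, Subsingleton.elim (α := PrimeSpectrum K) y (IsLocalRing.closedPoint K)]
    exact hqΩ
  let t : Over.mk (Red.geomPt s) ⟶ WΩ := Over.homMk (IsOpenImmersion.lift Ω.ι q hr) (by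
    show _ ≫ Ω.ι ≫ W.hom = x
    rw [IsOpenImmersion.lift_fac_assoc]; exact hqx)
  obtain ⟨U, e, he, hse, ⟨σ⟩⟩ := exists_etale_point s t
  let ρ : U ⟶ W.left := σ.left ≫ Ω.ι
  have hρ : ρ ≫ W.hom = e := ((Category.assoc _ _ _).trans (Over.w σ)).trans (Category.id_comp e)
  have hcart : SGA3x.IsCartan ((Over.pullback ρ).map (c₀ ≫ iZ)) :=
    isCartan_of_pts (c₀ ≫ iZ) ρ fun u => (σ.left u).2
  obtain ⟨eG, -, hG'⟩ := MaxTorusBC.exists_trIso hρ G
  haveI : IsMonHom eG.hom := hG'
  haveI : IsMonHom eG.symm.hom := inferInstanceAs (IsMonHom eG.inv)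
  haveI : IsMonHom (Iso.refl (Red.bc ρ Z₀)).hom := inferInstanceAs (IsMonHom (𝟙 _))
  exact ⟨U, e, he, hse, Red.bc ρ Z₀, inferInstance, (Over.pullback ρ).map (c₀ ≫ iZ) ≫ eG.inv,
    isCartan_iso (Iso.refl _) eG.symm _ _ (by rw [Iso.refl_hom, Category.id_comp]; rfl) hcart⟩

variable {ei : Type u} {U : ei → Scheme.{u}}

/-- **Cartan subgroups on the components give a Cartan subgroup on the disjoint union.** -/
theorem exists_cartan_sigma {G : Over S} [GrpObj G] [LocallyOfFiniteType G.hom] [QuasiCompact G.hom]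
    (e : ∀ i, U i ⟶ S)
    (h : ∀ i, ∃ (C : Over (U i)) (_ : GrpObj C) (c : C ⟶ Red.bc (e i) G), SGA3x.IsCartan c) :
    ∃ (C : Over (∐ U)) (_ : GrpObj C) (c : C ⟶ Red.bc (Sigma.desc e) G), SGA3x.IsCartan c := by
  choose Ti hTig ti hti using h
  let G' := Red.bc (Sigma.desc e) G
  haveI : LocallyOfFiniteType G'.hom := inferInstanceAs (LocallyOfFiniteType (pullback.snd G.hom (Sigma.desc e)))
  haveI : QuasiCompact G'.hom := inferInstanceAs (QuasiCompact (pullback.snd G.hom (Sigma.desc e)))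
  have hψ : ∀ i, ∃ ψ : Red.bc (e i) G ≅ Red.bc (Sigma.ι U i) G', IsMonHom ψ.hom := fun i => by
    obtain ⟨ψ, -, hm⟩ := MaxTorusBC.exists_trIso (Sigma.ι_desc e i) G
    exact ⟨ψ, hm⟩
  choose ψ hψm using hψ
  let A : ei → Scheme.{u} := fun i => (Ti i).left
  let T : Over (∐ U) := Over.mk (Limits.Sigma.map fun i => (Ti i).hom)
  let t : T ⟶ G' := Over.homMk
    (Sigma.desc fun i => (ti i).left ≫ (ψ i).hom.left ≫ pullback.fst G'.hom (Sigma.ι U i)) (by
      refine Sigma.hom_ext _ _ fun i => ?_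
      show Sigma.ι A i ≫ Sigma.desc _ ≫ G'.hom = Sigma.ι A i ≫ Limits.Sigma.map _
      rw [Sigma.ι_desc_assoc, Limits.Sigma.ι_map, Category.assoc, Category.assoc, pullback.condition,
        ← reassoc_of% (Over.w (ti i)), ← reassoc_of% (Over.w (ψ i).hom)]
      rfl)
  have sq : ∀ i, IsPullback (Sigma.ι A i) (Ti i).hom T.hom (Sigma.ι U i) := fun i =>
    HensPair.isPullback_sigmaMap (fun i => (Ti i).hom) i
  let φ : ∀ i, Ti i ≅ Red.bc (Sigma.ι U i) T := fun i => Over.isoMk (sq i).isoPullback (sq i).isoPullback_hom_snd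
  have key : ∀ i, (φ i).hom ≫ (Over.pullback (Sigma.ι U i)).map t = ti i ≫ (ψ i).hom := fun i => by
    apply Over.OverMorphism.ext
    apply pullback.hom_ext
    · show ((sq i).isoPullback.hom ≫ ((Over.pullback (Sigma.ι U i)).map t).left) ≫ pullback.fst _ _ =
        ((ti i).left ≫ (ψ i).hom.left) ≫ pullback.fst _ _
      simp only [Over.pullback_map_left, Category.assoc, pullback.lift_fst, IsPullback.isoPullback_hom_fst_assoc]
      exact Sigma.ι_desc _ i
    · show ((sq i).isoPullback.hom ≫ ((Over.pullback (Sigma.ι U i)).map t).left) ≫ pullback.snd _ _ =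
        ((ti i).left ≫ (ψ i).hom.left) ≫ pullback.snd _ _
      simp only [Over.pullback_map_left, Category.assoc, pullback.lift_snd, IsPullback.isoPullback_hom_snd]
      exact ((congrArg ((ti i).left ≫ ·) (Over.w (ψ i).hom)).trans (Over.w (ti i))).symm
  have hm : ∀ i, (Over.pullback (Sigma.ι U i)).map t = (φ i).inv ≫ ti i ≫ (ψ i).hom := fun i => by
    rw [← key, Iso.inv_hom_id_assoc]
  have hmono : ∀ i, Mono ((Over.pullback (Sigma.ι U i)).map t) := fun i => by
    haveI := (hti i).2.1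
    rw [hm]
    infer_instance
  haveI : Mono t := ⟨fun a b hab => hom_ext_components a b fun i => toBC_inj (Sigma.ι U i) (by
    haveI := hmono i
    rw [← cancel_mono ((Over.pullback (Sigma.ι U i)).map t), ← toBC_comp, ← toBC_comp, Category.assoc,
      Category.assoc, hab])⟩
  haveI : Mono t.left := inferInstance
  have hlift : ∀ {X : Over (∐ U)} (g : X ⟶ G'), (∀ i, ∃ y : Red.bc (Sigma.ι U i) X ⟶ Ti i,
      y ≫ ti i ≫ (ψ i).hom = toBC (Sigma.ι U i) (counit i X ≫ g)) → ∃ z, z ≫ t = g := by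
    intro X g hg
    have ha : ∀ i, ∃ a : (Over.map (Sigma.ι U i)).obj (Red.bc (Sigma.ι U i) X) ⟶ T,
        a ≫ t = counit i X ≫ g := fun i => by
      obtain ⟨y, hy⟩ := hg i
      obtain ⟨a, ha⟩ := exists_toBC (Sigma.ι U i) (y ≫ (φ i).hom)
      exact ⟨a, toBC_inj (Sigma.ι U i) (by rw [toBC_comp, ha, Category.assoc, key, hy])⟩
    choose a ha using ha
    let 𝒰 := (sigmaOpenCover U).pullback₁ X.hom
    have hcompat : ∀ i j, pullback.fst (𝒰.f i) (𝒰.f j) ≫ (a i).left = pullback.snd _ _ ≫ (a j).left := fun i j => by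
      rw [← cancel_mono t.left, Category.assoc, Category.assoc, ← Over.comp_left, ← Over.comp_left, ha, ha]
      show _ ≫ (𝒰.f i ≫ g.left) = _ ≫ (𝒰.f j ≫ g.left)
      rw [pullback.condition_assoc]
    let z := Scheme.Cover.glueMorphisms 𝒰 (fun i => (a i).left) hcompat
    have hz : ∀ i, 𝒰.f i ≫ z = (a i).left := fun i => Scheme.Cover.ι_glueMorphisms 𝒰 _ hcompat i
    refine ⟨Over.homMk z (Scheme.Cover.hom_ext 𝒰 _ _ fun i => ?_), Over.OverMorphism.ext
      (Scheme.Cover.hom_ext 𝒰 _ _ fun i => ?_)⟩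
    · rw [reassoc_of% (hz i)]
      exact Over.w (a i) |>.trans pullback.condition.symm
    · show 𝒰.f i ≫ z ≫ t.left = _
      rw [reassoc_of% (hz i)]
      exact congrArg (fun w => w.left) (ha i)
  obtain ⟨hTg, htm⟩ := SubGen.Spread.exists_grpObj_of_div t
    (hlift _ fun i => ⟨1, by
      haveI := (hti i).1; haveI := hψm i
      rw [MonObj.one_comp, show (η[G'] : 𝟙_ _ ⟶ G') = 1 by
        rw [Hom.one_def, toUnit_unit, Category.id_comp], MonObj.comp_one, MTKernel.toBC_one]⟩)
    (hlift _ fun i => ⟨((toBC (Sigma.ι U i) (counit i _ ≫ fst T T) ≫ (φ i).inv)⁻¹ *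
        (toBC (Sigma.ι U i) (counit i _ ≫ snd T T) ≫ (φ i).inv)), by
      haveI := (hti i).1; haveI := hψm i
      rw [MonObj.mul_comp, GrpObj.inv_comp, MonObj.comp_mul, GrpObj.comp_inv, toBC_mul, toBC_inv, Category.assoc,
        Category.assoc, ← hm, ← toBC_comp, ← toBC_comp, Category.assoc, Category.assoc]⟩)
  haveI := htm
  haveI : ∀ i, IsMonHom (φ i).hom := fun i => by
    haveI := (hti i).1; haveI := hψm i; haveI := hmono i
    exact MTSplit.isMonHom_of_comp_mono _ _ _ (key i)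
  haveI : Smooth T.hom := by
    have e : T.hom = Sigma.desc fun i => (Ti i).hom ≫ Sigma.ι U i :=
      Sigma.hom_ext _ _ fun i => by
        show Sigma.ι A i ≫ Limits.Sigma.map (fun i => (Ti i).hom) = _
        rw [Limits.Sigma.ι_map, Sigma.ι_desc]
    rw [e]
    refine IsZariskiLocalAtSource.sigmaDesc (P := @Smooth) fun i => ?_
    haveI : Smooth (Ti i).hom := (hti i).2.2.1
    infer_instance
  refine ⟨T, hTg, t, htm, inferInstance, inferInstance, fun x => ?_⟩
  obtain ⟨i, y, rfl⟩ : ∃ i, ∃ y : U i, Sigma.ι U i y = x := (sigmaOpenCover U).exists_eq x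
  let a := Red.geomPt (Sigma.ι U i y)
  obtain ⟨τ, hτ⟩ : ∃ τ : Spec (CommRingCat.of (AlgebraicClosure ((∐ U).residueField (Sigma.ι U i y)))) ⟶ U i,
      τ ≫ Sigma.ι U i = a := by
    refine ⟨IsOpenImmersion.lift (Sigma.ι U i) a ?_, IsOpenImmersion.lift_fac _ _ _⟩
    rintro _ ⟨w, rfl⟩
    refine ⟨y, ?_⟩
    show _ = (Spec.map _ ≫ (∐ U).fromSpecResidueField _) w
    rw [Scheme.Hom.comp_apply]
    exact ((∐ U).fromSpecResidueField_apply _ _).symm
  show SGA3x.IsCartanOver _ ((Over.pullback a).map t)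
  rw [← hτ, ← isCartanOver_map_map_iff]
  haveI := hψm i
  haveI : LocallyOfFiniteType (Red.bc (e i) G).hom := inferInstanceAs (LocallyOfFiniteType (pullback.snd G.hom (e i)))
  haveI : QuasiCompact (Red.bc (e i) G).hom := inferInstanceAs (QuasiCompact (pullback.snd G.hom (e i)))
  obtain ⟨ν, hν⟩ := exists_lift_geomPt τ
  haveI := (hti i).1
  have hi1 := isCartanOver_map_of_comp (ti i) hν ((hti i).2.2.2 _)
  haveI : IsMonHom ((Over.pullback τ).mapIso (φ i)).hom := inferInstanceAs (IsMonHom ((Over.pullback τ).map (φ i).hom))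
  haveI : IsMonHom ((Over.pullback τ).mapIso (ψ i)).hom := inferInstanceAs (IsMonHom ((Over.pullback τ).map (ψ i).hom))
  exact isCartanOver_iso ((Over.pullback τ).mapIso (φ i)) ((Over.pullback τ).mapIso (ψ i)) _ _
    (show _ ≫ (Over.pullback τ).map (ψ i).hom = (Over.pullback τ).map (φ i).hom ≫ _ by
      rw [← Functor.map_comp, ← Functor.map_comp, key]) hi1

/-- **Cartan subgroups are conjugate etale locally.** -/
theorem exists_conj_etale {C₁ C₂ G : Over S} [GrpObj C₁] [GrpObj C₂] [GrpObj G] [Smooth G.hom] [IsSeparated G.hom]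
    [QuasiCompact G.hom] (hconn : ∀ s : S, _root_.IsConnected (G.hom.base ⁻¹' {s})) (c₁ : C₁ ⟶ G) (c₂ : C₂ ⟶ G)
    (h₁ : SGA3x.IsCartan c₁) (h₂ : SGA3x.IsCartan c₂) :
    ∃ (S' : Scheme.{u}) (f : S' ⟶ S), Etale f ∧ Surjective f ∧
      ∃ g : 𝟙_ (Over S') ⟶ Red.bc f G, SGA3x.ConjBy ((Over.pullback f).map c₁) ((Over.pullback f).map c₂) g := by
  haveI := h₁.1; haveI := h₁.2.1; haveI : Smooth C₁.hom := h₁.2.2.1
  haveI := h₂.1; haveI := h₂.2.1; haveI : Smooth C₂.hom := h₂.2.2.1
  haveI : Mono c₁.left := inferInstance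
  haveI : Mono c₂.left := inferInstance
  have hC₁ : ∀ s : S, _root_.IsConnected (C₁.hom.base ⁻¹' {s}) := isConnected_fibre_cartan hconn c₁ h₁
  have hC₂ : ∀ s : S, _root_.IsConnected (C₂.hom.base ⁻¹' {s}) := isConnected_fibre_cartan hconn c₂ h₂
  haveI : QuasiCompact C₁.hom := Groth.Agent.S5324.result S C₁ (fun _ =>
    MorphismProperty.pullback_snd _ _ (inferInstanceAs (LocallyOfFiniteType C₁.hom))) hC₁
  haveI : QuasiCompact C₂.hom := Groth.Agent.S5324.result S C₂ (fun _ =>
    MorphismProperty.pullback_snd _ _ (inferInstanceAs (LocallyOfFiniteType C₂.hom))) hC₂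
  haveI : IsSeparated C₁.hom := by rw [← Over.w c₁]; infer_instance
  haveI : IsSeparated C₂.hom := by rw [← Over.w c₂]; infer_instance
  obtain ⟨M, m, hmc, hms, hM⟩ := exists_transporter_cartan c₁ h₁ hC₁ c₂
  haveI := hms
  have hpt : ∀ s : S, ∃ (S' : Scheme.{u}) (e : S' ⟶ S), Etale e ∧ s ∈ Set.range e.base ∧
      Nonempty ((Over.map e).obj (𝟙_ (Over S')) ⟶ M) := fun s => by
    let a := Red.geomPt s
    haveI : Smooth (Red.bc a G).hom := inferInstanceAs (Smooth (pullback.snd G.hom a))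
    haveI : QuasiCompact (Red.bc a G).hom := inferInstanceAs (QuasiCompact (pullback.snd G.hom a))
    obtain ⟨g', φ, hφ⟩ := exists_conj_cartan _ (h₁.2.2.2 s) _ (h₂.2.2.2 s)
    obtain ⟨g₁, hg₁⟩ := exists_geom_conj a c₁ c₂ g' φ.hom hφ
    obtain ⟨p, -⟩ := (hM _ g₁).2 fun X x y => hg₁ X x y
    exact exists_etale_point s p
  choose P e he hmem hσ using hpt
  haveI := he
  let f : (∐ P) ⟶ S := Sigma.desc e
  have hf : Etale f := IsZariskiLocalAtSource.sigmaDesc (P := @Etale) he
  have hfs : Surjective f := ⟨fun s => by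
    obtain ⟨x, hx⟩ := hmem s
    exact ⟨(Sigma.ι P s).base x, by
      rw [← Scheme.Hom.comp_apply, Sigma.ι_desc]
      exact hx⟩⟩
  let σ : Over.mk f ⟶ M :=
    Over.homMk (Sigma.desc fun s => (hσ s).some.left) (by
      refine Sigma.hom_ext _ _ fun s => ?_
      show Sigma.ι P s ≫ Sigma.desc _ ≫ M.hom = Sigma.ι P s ≫ Sigma.desc e
      rw [Sigma.ι_desc_assoc, Sigma.ι_desc]
      exact (Over.w (hσ s).some).trans (Category.id_comp _))
  let g : 𝟙_ (Over (∐ P)) ⟶ Red.bc f G := sec (σ ≫ m)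
  obtain ⟨w, hwm, hwmono, hw⟩ := exists_conj_family c₁ c₂ (σ ≫ m) ((hM (Over.mk f) (σ ≫ m)).1 ⟨σ, rfl⟩)
  haveI : LocallyOfFiniteType (Red.bc f G).hom := inferInstanceAs (LocallyOfFiniteType (pullback.snd G.hom f))
  haveI : QuasiCompact (Red.bc f G).hom := inferInstanceAs (QuasiCompact (pullback.snd G.hom f))
  haveI : IsMonHom (Iso.refl (Red.bc f C₁)).hom := inferInstanceAs (IsMonHom (𝟙 _))
  have hconj : SGA3x.IsCartan ((Over.pullback f).map c₁ ≫ (inn g).hom) :=
    isCartan_iso (Iso.refl _) (inn g) _ _ (by rw [Iso.refl_hom, Category.id_comp]) (isCartan_bc c₁ h₁ f)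
  haveI : IsIso w := isIso_of_isCartan_le _ hconj _ (isCartan_bc c₂ h₂ f) w hw
  refine ⟨_, f, hf, hfs, g, asIso w, ?_⟩
  rw [← comp_inn]
  exact hw.symm

end Groth.Agent.MTImage
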