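import Groth.Agent.MTImage.TorsionDense

/-!
# Counting the torsion points of a torus

Over an algebraically closed field in which `l` is invertible, a split torus of rank `r` has `l ^ r` points killed by
`l`.
-/

set_option autoImplicit false
set_option linter.style.haveILetI false
set_option backward.isDefEq.respectTransparency false
set_option maxHeartbeats 1000000

universe u

noncomputable section

open CategoryTheory Limits MonoidalCategory CartesianMonoidalCategory MonObj GrpObj AlgebraicGeometry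
open scoped CategoryTheory.Obj
open Groth.Agent.MTBridge Groth.Agent.HomDiag Groth.Agent.MTQuot

namespace Groth.Agent.MTImage

variable {k : Type u} [Field k] [IsAlgClosed k] {r : ℕ}

local notation "Sk" => Spec (CommRingCat.of k)

/-- The points of `D(ℤ ^ r)` killed by `l` are the `r`-tuples of `l`-th roots of unity. -/
theorem card_torsion_DS (l : ℕ) (hl : 0 < l) (hlk : (l : k) ≠ 0) :
    Nat.card {t : 𝟙_ (Over Sk) ⟶ Red.DS Sk (Fin r → ℤ) // t ^ l = 1} = l ^ r := by
  classical
  haveI : NeZero l := ⟨hl.ne'⟩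
  haveI : NeZero (l : k) := ⟨hlk⟩
  obtain ⟨ζ, hζ⟩ := HasEnoughRootsOfUnity.exists_primitiveRoot k l
  let e : k →* Γ((𝟙_ (Over Sk)).left, ⊤) := ((Scheme.ΓSpecIso (CommRingCat.of k)).inv.hom : k →+* _).toMonoidHom
  have he : Function.Bijective e := ((Scheme.ΓSpecIso (CommRingCat.of k)).symm.commRingCatIsoToRingEquiv).bijective
  let χ : (Fin r → rootsOfUnity l k) → (Multiplicative (Fin r → ℤ) →* Γ((𝟙_ (Over Sk)).left, ⊤)) := fun g =>
    e.comp <| (Units.coeHom k).comp
      { toFun := fun v => ∏ j, ((g j : kˣ)) ^ (v.toAdd j)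
        map_one' := by simp
        map_mul' := fun v w => by
          simp only [toAdd_mul, Pi.add_apply, zpow_add, Finset.prod_mul_distrib] }
  have hχ : ∀ g j, χ g (Multiplicative.ofAdd (Pi.single j 1)) = e ((g j : kˣ) : k) := fun g j => by
    show e ((∏ i, ((g i : kˣ)) ^ ((Pi.single j (1 : ℤ) : Fin r → ℤ) i) : kˣ) : k) = _
    rw [Finset.prod_eq_single j (fun i _ hi => by simp [Pi.single_eq_of_ne hi])
      (fun h => absurd (Finset.mem_univ j) h), Pi.single_eq_same, zpow_one]
  choose T hT using fun g => exists_ch (S := Sk) (X := 𝟙_ (Over Sk)) (χ g)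
  have hTl : ∀ g, T g ^ l = 1 := fun g => ch_ext fun v => by
    rw [MTTorus.ch_pow, ch_one, hT]
    show e ((∏ i, ((g i : kˣ)) ^ (((v ^ l).toAdd : Fin r → ℤ) i) : kˣ) : k) = 1
    rw [Finset.prod_eq_one fun i _ => ?_, Units.val_one, map_one]
    rw [toAdd_pow, Pi.smul_apply, nsmul_eq_mul, zpow_mul, zpow_natCast,
      (mem_rootsOfUnity l (g i : kˣ)).1 (g i).2, one_zpow]
  have hbij : Function.Bijective fun g => (⟨T g, hTl g⟩ : {t : 𝟙_ (Over Sk) ⟶ Red.DS Sk (Fin r → ℤ) // t ^ l = 1}) := by
    refine ⟨fun g g' h => ?_, fun t => ?_⟩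
    · funext j
      have h' := congrArg (fun x => ch x.1 (Multiplicative.ofAdd (Pi.single j (1 : ℤ)))) h
      simp only [hT, hχ] at h'
      exact Subtype.ext (Units.ext (he.1 h'))
    · let a : Fin r → k := fun j => (he.2 (ch t.1 (Multiplicative.ofAdd (Pi.single j (1 : ℤ))))).choose
      have ha : ∀ j, e (a j) = ch t.1 (Multiplicative.ofAdd (Pi.single j (1 : ℤ))) := fun j =>
        (he.2 (ch t.1 (Multiplicative.ofAdd (Pi.single j (1 : ℤ))))).choose_spec
      have hal : ∀ j, a j ^ l = 1 := fun j => he.1 (by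
        rw [map_pow, ha, ← map_pow, ← MTTorus.ch_pow, t.2, ch_one, map_one])
      have hau : ∀ j, IsUnit (a j) := fun j => .of_mul_eq_one (a j ^ (l - 1)) (by
        rw [← pow_succ', Nat.sub_add_cancel hl, hal j])
      let g : Fin r → rootsOfUnity l k := fun j =>
        ⟨(hau j).unit, (mem_rootsOfUnity l _).2 (Units.ext (by simpa using hal j))⟩
      refine ⟨g, Subtype.ext (ch_ext fun v => ?_)⟩
      rw [hT]
      refine DFunLike.congr_fun (?_ : χ g = ch t.1) v
      refine monoidHom_ext_single fun j => ?_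
      rw [hχ]
      exact ha j
  rw [← Nat.card_eq_of_bijective _ hbij, Nat.card_fun, hζ.card_rootsOfUnity, Nat.card_fin]
where
  /-- Homomorphisms out of `ℤ ^ r` agree when they agree on the coordinates. -/
  monoidHom_ext_single {M : Type u} [CommMonoid M] {a b : Multiplicative (Fin r → ℤ) →* M}
      (h : ∀ j, a (Multiplicative.ofAdd (Pi.single j (1 : ℤ))) = b (Multiplicative.ofAdd (Pi.single j (1 : ℤ)))) :
      a = b := by
    have key : MonoidHom.toAdditiveRight a = MonoidHom.toAdditiveRight b := by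
      refine AddMonoidHom.functions_ext _ _ _ fun j z => ?_
      have h2 : a.comp (zpowersHom _ (Multiplicative.ofAdd (Pi.single (M := fun _ : Fin r => ℤ) j (1 : ℤ)))) =
          b.comp (zpowersHom _ (Multiplicative.ofAdd (Pi.single (M := fun _ : Fin r => ℤ) j (1 : ℤ)))) := by
        refine MonoidHom.ext_mint ?_
        simpa using h j
      have h3 := DFunLike.congr_fun h2 (Multiplicative.ofAdd z)
      simp only [MonoidHom.comp_apply, zpowersHom_apply] at h3
      have h4 : (Multiplicative.ofAdd (Pi.single (M := fun _ : Fin r => ℤ) j (1 : ℤ))) ^ z =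
          Multiplicative.ofAdd (Pi.single j z) := by
        rw [← ofAdd_zsmul, ← Pi.single_smul, smul_eq_mul, _root_.mul_one]
      rw [show (Multiplicative.ofAdd z).toAdd = z from rfl, h4] at h3
      exact congrArg Additive.ofMul h3
    exact MonoidHom.ext fun v => congrArg Additive.toMul (DFunLike.congr_fun key v.toAdd)

/-- Isomorphic groups have equally many points killed by `l`. -/
theorem card_torsion_of_iso (l : ℕ) {R D : Over Sk} [GrpObj R] [GrpObj D] (e : R ≅ D) [IsMonHom e.hom] :
    Nat.card {t : 𝟙_ (Over Sk) ⟶ R // t ^ l = 1} = Nat.card {t : 𝟙_ (Over Sk) ⟶ D // t ^ l = 1} :=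
  Nat.card_congr
    { toFun := fun t => ⟨t.1 ≫ e.hom, by rw [← MTTorus.comp_pow_hom, t.2, MonObj.one_comp]⟩
      invFun := fun t => ⟨t.1 ≫ e.inv, by rw [← MTTorus.comp_pow_hom, t.2, MonObj.one_comp]⟩
      left_inv := fun t => Subtype.ext (by simp)
      right_inv := fun t => Subtype.ext (by simp) }

/-- A torus has a rank, counted by its points killed by `l`. -/
theorem exists_rank_torus (l : ℕ) (hl : 0 < l) (hlk : (l : k) ≠ 0) {R : Over Sk} [GrpObj R] (hR : Red.IsTorus R) :
    ∃ d : ℕ, Nonempty (R ≅ Red.DS Sk (Fin d → ℤ)) ∧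
      Nat.card {t : 𝟙_ (Over Sk) ⟶ R // t ^ l = 1} = l ^ d := by
  obtain ⟨d, ⟨e⟩⟩ := Chev.exists_split_algClosed hR
  let e' : R ≅ Red.DS Sk (Fin d → ℤ) := ⟨e.hom.hom.hom, e.inv.hom.hom, ((Grp.forget _).mapIso e).hom_inv_id,
    ((Grp.forget _).mapIso e).inv_hom_id⟩
  haveI : IsMonHom e'.hom := e.hom.hom.isMonHom_hom
  exact ⟨d, ⟨e'⟩, (card_torsion_of_iso l e').trans (card_torsion_DS (k := k) (r := d) l hl hlk)⟩

end Groth.Agent.MTImage
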