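import Groth.Agent.MTImage.CentralTorsion
import Groth.Agent.MTImage.TorusTorsionCount
import Groth.Agent.MTImage.CartanExists
import Groth.Agent.DimField.Scheme

/-!
# Semicontinuity of the reductive and nilpotent ranks

Near a torus of a geometric fibre of a smooth affine group, geometric fibres have maximal tori at least as large and
Cartan subgroups no larger than the centralizer of the torus.
-/

set_option autoImplicit false
set_option linter.style.haveILetI false
set_option backward.isDefEq.respectTransparency false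
set_option maxHeartbeats 1000000
set_option synthInstance.maxHeartbeats 400000

universe u

noncomputable section

open CategoryTheory Limits MonoidalCategory CartesianMonoidalCategory MonObj GrpObj AlgebraicGeometry
open scoped CategoryTheory.Obj

namespace Groth.Agent.MTImage

open Groth.Agent.MTBridge Groth.Agent.Chev Groth.Agent.Chev.MaxTorusExt

section Field

open Groth.Agent.Chev.Borel Groth.Agent.Chev.BorelFixed

variable {k : Type u} [Field k] [IsAlgClosed k]

local notation "Sk" => Spec (CommRingCat.of k)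

/-- A torus into which every torus can be conjugated is maximal. -/
theorem isMaxTorus_of_universal {T G : Over Sk} [GrpObj T] [GrpObj G] (t : T ⟶ G) [IsMonHom t]
    (htor : Red.IsTorus T)
    (huniv : ∀ (T' : Over Sk) [GrpObj T'] (j : T' ⟶ G) [IsMonHom j] [Mono j], Red.IsTorus T' →
      ∃ (g : RP G) (f : T' ⟶ T), IsMonHom f ∧ f ≫ t = AGF.conjBy g j)
    (i : T ⟶ G) [IsMonHom i] [Mono i] : AGF.IsMaxTorus i := by
  refine ⟨inferInstance, inferInstance, htor, fun T' _ j _ _ f₀ hT' h0 => ?_⟩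
  obtain ⟨g, f, hfm, hf⟩ := huniv T' j hT'
  haveI := hfm
  haveI : IsMonHom f₀ := MTSplit.isMonHom_of_comp_mono f₀ j i h0
  haveI : Mono (f₀ ≫ j) := by rw [h0]; infer_instance
  haveI : Mono f₀ := mono_of_mono f₀ j
  haveI : Mono f := ⟨fun {Z} p q h => by
    haveI := mono_conjBy g j
    refine (cancel_mono (AGF.conjBy g j)).1 ?_
    rw [← hf, reassoc_of% h]⟩
  haveI := isIso_endo_torus htor (f₀ ≫ f)
  haveI : IsSplitEpi f := ⟨⟨CategoryTheory.inv (f₀ ≫ f) ≫ f₀, by rw [Category.assoc, IsIso.inv_hom_id]⟩⟩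
  haveI : IsIso f := isIso_of_mono_of_isSplitEpi f
  exact IsIso.of_isIso_comp_right f₀ f

/-- **Every torus lies in a maximal torus.** -/
theorem exists_maxTorus_containing {R G : Over Sk} [GrpObj R] [GrpObj G] [IsAffine G.left] [Smooth G.hom]
    (j : R ⟶ G) [IsMonHom j] [Mono j] (hR : Red.IsTorus R) :
    ∃ (T : Over Sk) (_ : GrpObj T) (i : T ⟶ G) (f : R ⟶ T), AGF.IsMaxTorus i ∧ f ≫ i = j := by
  haveI : IsAffineHom G.hom := isAffineHom_of_isAffine _
  obtain ⟨G₀, hg₀, c, hcm, hcc, hcs, hirr, hcr⟩ := Chev.exists_component G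
  haveI := hcm; haveI := hcc; haveI := hcs; haveI := hirr
  haveI : Mono c := GrpField.SchImg.mono_of_isClosedImmersion c
  haveI : IsAffine G₀.left := isAffine_of_isAffineHom c.left
  haveI : ConnectedSpace G₀.left := inferInstance
  haveI := smooth_of_isTorus hR
  haveI : IsReduced R.left := SmoothRed.isReduced_of_smooth_scheme R.hom
  haveI := connectedSpace_of_isTorus hR
  obtain ⟨j₀, hj₀⟩ := exists_factor_component hcr j
  haveI : IsMonHom j₀ := MTSplit.isMonHom_of_comp_mono j₀ c j hj₀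
  haveI : Mono (j₀ ≫ c) := by rw [hj₀]; infer_instance
  haveI : Mono j₀ := mono_of_mono j₀ c
  obtain ⟨T, B, hT, hB, t, b, htm, htc, hb, htor, huniv⟩ := exists_universal_torus G₀
  haveI := htm; haveI := htc; haveI := hb.1; haveI := hb.2.1
  haveI : Mono t := GrpField.SchImg.mono_of_isClosedImmersion t
  haveI : Mono b := GrpField.SchImg.mono_of_isClosedImmersion b
  obtain ⟨g, f, hfm, hf⟩ := huniv R j₀ hR
  haveI := isMonHom_conjBy g⁻¹ (t ≫ b)
  haveI := mono_conjBy g⁻¹ (t ≫ b)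
  refine ⟨T, hT, AGF.conjBy g⁻¹ (t ≫ b) ≫ c, f,
    isMaxTorus_comp_component hcr _ (isMaxTorus_of_universal (t ≫ b) htor huniv _), ?_⟩
  rw [← Category.assoc, comp_conjBy', hf, conjBy_conjBy, inv_mul_cancel, conjBy_one, hj₀]

/-- A split torus embeds topologically into one of larger rank. -/
theorem dim_DS_mono {r d : ℕ} (h : r ≤ d) :
    topologicalKrullDim ↥(Red.DS Sk (Fin r → ℤ)).left ≤ topologicalKrullDim ↥(Red.DS Sk (Fin d → ℤ)).left := by
  let π : (Fin d → ℤ) →+ (Fin r → ℤ) :=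
    { toFun := fun v j => v (Fin.castLE h j), map_zero' := rfl, map_add' := fun _ _ => rfl }
  let σ : (Fin r → ℤ) →+ (Fin d → ℤ) :=
    { toFun := fun v i => if hi : i.1 < r then v ⟨i.1, hi⟩ else 0
      map_zero' := by funext i; by_cases hi : i.1 < r <;> simp [hi]
      map_add' := fun v w => by funext i; by_cases hi : i.1 < r <;> simp [hi] }
  have hid : Red.DSmap Sk π ≫ Red.DSmap Sk σ = 𝟙 _ := by
    rw [MTQuot.DSmap_comp, ← MTQuot.DSmap_id]
    congr 1
    ext v j
    simp [π, σ]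
  exact (Topology.IsEmbedding.of_leftInverse (f := (Red.DSmap Sk σ).left) (g := (Red.DSmap Sk π).left)
    (fun z => congrArg (fun m : Red.DS Sk (Fin r → ℤ) ⟶ Red.DS Sk (Fin r → ℤ) => m.left z) hid)
    (Red.DSmap Sk σ).left.continuous
    (Red.DSmap Sk π).left.continuous).isInducing.topologicalKrullDim_le

/-- Centralizers of a homomorphism are isomorphic. -/
theorem dim_centralizer_eq {T C C' G : Over Sk} [GrpObj T] [GrpObj C] [GrpObj C'] [GrpObj G] (i : T ⟶ G)
    (c : C ⟶ G) (hC : Red.IsCentralizerOf i c) (c' : C' ⟶ G) (hC' : Red.IsCentralizerOf i c') :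
    topologicalKrullDim ↥C.left = topologicalKrullDim ↥C'.left := by
  haveI := hC.2.1; haveI := hC'.2.1
  obtain ⟨f, hf⟩ := (hC'.2.2 C c).2 ((hC.2.2 C c).1 ⟨𝟙 C, Category.id_comp c⟩)
  obtain ⟨g, hg⟩ := (hC.2.2 C' c').2 ((hC'.2.2 C' c').1 ⟨𝟙 C', Category.id_comp c'⟩)
  let e : C ≅ C' := ⟨f, g, (cancel_mono c).1 (by rw [Category.assoc, hg, hf, Category.id_comp]),
    (cancel_mono c').1 (by rw [Category.assoc, hf, hg, Category.id_comp])⟩
  exact IsHomeomorph.topologicalKrullDim_eq _ (Scheme.homeoOfIso ((Over.forget _).mapIso e)).isHomeomorph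

/-- A point commuting with all points of a group of multiplicative type centralizes it. -/
theorem commute_of_pts {T G : Over Sk} [GrpObj T] [GrpObj G] [Smooth T.hom] [IsSeparated G.hom]
    [LocallyOfFiniteType G.hom] (i : T ⟶ G) (b : RP G) (h : ∀ t : RP T, (t ≫ i) * b = b * (t ≫ i))
    (X : Over Sk) (y : X ⟶ 𝟙_ (Over Sk)) (a : X ⟶ T) : (y ≫ b) * (a ≫ i) = (a ≫ i) * (y ≫ b) := by
  have hs : i * (toUnit T ≫ b) = (toUnit T ≫ b) * i := hom_ext_kpts fun t => by
    simp only [MonObj.comp_mul, ← Category.assoc]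
    rw [toUnit_unique (t ≫ toUnit T) (𝟙 _), Category.id_comp]
    exact h t
  have h2 := congrArg (fun m => a ≫ m) hs
  simp only [MonObj.comp_mul, ← Category.assoc, comp_toUnit] at h2
  rw [toUnit_unique y (toUnit X)]
  exact h2.symm

end Field

variable {S : Scheme.{u}}

/-- The dimension of a fibre at a field valued point. -/
theorem dim_bc_point {K : Type u} [Field K] (q : Spec (CommRingCat.of K) ⟶ S) (X : Over S)
    [LocallyOfFiniteType X.hom] :
    topologicalKrullDim ↥(Red.bc q X).left = topologicalKrullDim ↥(X.hom.base ⁻¹' {q (IsLocalRing.closedPoint K)}) := by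
  let w := q (IsLocalRing.closedPoint K)
  obtain ⟨θ, hθ⟩ : ∃ θ : Spec (CommRingCat.of K) ⟶ Spec (S.residueField w), θ ≫ S.fromSpecResidueField w = q :=
    ⟨_, Scheme.descResidueField_stalkClosedPointTo_fromSpecResidueField K S q⟩
  haveI : Subsingleton ↥(Spec (S.residueField w)) := inferInstanceAs (Subsingleton (PrimeSpectrum (S.residueField w)))
  haveI : Subsingleton ↥(Spec (CommRingCat.of K)) := inferInstanceAs (Subsingleton (PrimeSpectrum K))
  haveI : LocallyOfFiniteType (X.hom.fiberToSpecResidueField w) :=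
    inferInstanceAs (LocallyOfFiniteType (pullback.snd X.hom (S.fromSpecResidueField w)))
  let e : (Red.bc q X).left ≅ pullback (X.hom.fiberToSpecResidueField w) θ :=
    pullback.congrHom rfl hθ.symm ≪≫ (pullbackLeftPullbackSndIso X.hom (S.fromSpecResidueField w) θ).symm
  rw [IsHomeomorph.topologicalKrullDim_eq _ (Scheme.homeoOfIso e).isHomeomorph,
    ← IsHomeomorph.topologicalKrullDim_eq _ (X.hom.fiberHomeo w).isHomeomorph]
  exact (DimField.dim_eq_of_isPullback (X.hom.fiberToSpecResidueField w) (pullback.snd _ θ) (pullback.fst _ θ) θ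
    (IsPullback.of_hasPullback _ θ)).symm

/-- The dimension of a split torus over a field valued point is a fibre dimension. -/
theorem dim_DS_point {K : Type u} [Field K] (q : Spec (CommRingCat.of K) ⟶ S) (r : ℕ) :
    topologicalKrullDim ↥(Red.DS (Spec (CommRingCat.of K)) (Fin r → ℤ)).left =
      topologicalKrullDim ↥((Red.DS S (Fin r → ℤ)).hom.base ⁻¹' {q (IsLocalRing.closedPoint K)}) := by
  haveI : LocallyOfFinitePresentation (Red.DS S (Fin r → ℤ)).hom :=
    locallyOfFinitePresentation_of_isMultTypeFT _ (MTTorus.isMultTypeFT_DS S _)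
  rw [← dim_bc_point q]
  exact IsHomeomorph.topologicalKrullDim_eq _
    (Scheme.homeoOfIso ((Over.forget _).mapIso ((Grp.forget _).mapIso (bcDS q (Fin r → ℤ))))).symm.isHomeomorph

/-- A point lying on the unit section is trivial. -/
theorem eq_one_of_mem_unit {G : Over S} [GrpObj G] [IsSeparated G.hom] {K : Type u} [Field K]
    {q : Spec (CommRingCat.of K) ⟶ S} (a : Over.mk q ⟶ G)
    (h : a.left (IsLocalRing.closedPoint K) ∈ Set.range η[G].left) : a = 1 := by
  haveI : Subsingleton ↥(Spec (CommRingCat.of K)) := inferInstanceAs (Subsingleton (PrimeSpectrum K))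
  haveI : IsClosedImmersion η[G].left :=
    haveI : IsClosedImmersion (η[G].left ≫ G.hom) := by rw [Over.w η[G]]; exact inferInstanceAs (IsClosedImmersion (𝟙 S))
    IsClosedImmersion.of_comp η[G].left G.hom
  haveI : Subsingleton ↥(Over.mk q).left := inferInstanceAs (Subsingleton ↥(Spec (CommRingCat.of K)))
  haveI : AlgebraicGeometry.IsReduced (Over.mk q).left :=
    inferInstanceAs (AlgebraicGeometry.IsReduced (Spec (CommRingCat.of K)))
  haveI : Surjective (pullback.fst a.left η[G].left) := ⟨fun x => by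
    have : x ∈ Set.range (pullback.fst a.left η[G].left) := by
      rw [Scheme.Pullback.range_fst, Set.mem_preimage, Subsingleton.elim x (IsLocalRing.closedPoint K)]
      exact h
    exact this⟩
  haveI := isIso_of_isClosedImmersion_of_surjective (pullback.fst a.left η[G].left)
  let g := CategoryTheory.inv (pullback.fst a.left η[G].left) ≫ pullback.snd a.left η[G].left
  have hg : g ≫ η[G].left = a.left := by rw [Category.assoc, ← pullback.condition, IsIso.inv_hom_id_assoc]
  have hq : g = q := by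
    have h' := congrArg (fun m => m ≫ G.hom) hg
    simp only [Category.assoc, Over.w] at h'
    exact (Category.comp_id g).symm.trans h'
  apply Over.OverMorphism.ext
  rw [← hg, hq, Hom.one_def]
  rfl

variable {K : Type u} [Field K] [IsAlgClosed K]

/-- **The fibre of the centralizer of a torsion tuple bounds a Cartan subgroup.** -/
theorem exists_rank_fibre {N n : ℕ} {G Z Z₀ : Over S} [GrpObj G] [GrpObj Z] [GrpObj Z₀] [IsAffineHom G.hom]
    [Smooth G.hom] [Smooth Z.hom] [Smooth Z₀.hom] [QuasiCompact Z₀.hom] (iZ : Z ⟶ G) [IsMonHom iZ]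
    [IsClosedImmersion iZ.left] (c₀ : Z₀ ⟶ Z) [IsMonHom c₀] [IsOpenImmersion c₀.left]
    (hc₀ : Set.range c₀.left.base = SGA3x.neutralSet Z) (σ : Fin n → (𝟙_ (Over S) ⟶ G))
    (z : Fin n → (𝟙_ (Over S) ⟶ Z)) (hz : ∀ j, z j ≫ iZ = σ j) (hσ : ∀ j, σ j ^ N = 1)
    (hZ : ∀ (X : Over S) (t : X ⟶ G), (∃ y, y ≫ iZ = t) ↔ ∀ j, (toUnit X ≫ σ j) * t = t * (toUnit X ≫ σ j))
    (q : Spec (CommRingCat.of K) ⟶ S) (hN : (N : K) ≠ 0)
    (hq : ∀ j, (toUnit (Over.mk q) ≫ z j).left (IsLocalRing.closedPoint K) ∈ Set.range c₀.left) :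
    ∃ (T : Over (Spec (CommRingCat.of K))) (_ : GrpObj T) (i : T ⟶ Red.bc q G)
      (C : Over (Spec (CommRingCat.of K))) (_ : GrpObj C) (c : C ⟶ Red.bc q G),
      Red.IsMaximalTorus i ∧ Red.IsCentralizerOf i c ∧
      topologicalKrullDim ↥C.left ≤ topologicalKrullDim ↥(Red.bc q Z).left ∧
      ∀ j, ∃ u : RP T, u ≫ i = kpt q (toUnit (Over.mk q) ≫ σ j) := by
  let Gq := Red.bc q G
  let Zq := Red.bc q Z
  haveI : Mono iZ.left := inferInstance
  haveI : Mono iZ := Over.mono_of_mono_left iZ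
  haveI : Smooth Gq.hom := inferInstanceAs (Smooth (pullback.snd G.hom q))
  haveI : IsAffineHom Gq.hom := inferInstanceAs (IsAffineHom (pullback.snd G.hom q))
  haveI : IsAffine Gq.left := isAffine_of_isAffineHom Gq.hom
  haveI : Smooth Zq.hom := inferInstanceAs (Smooth (pullback.snd Z.hom q))
  let iq : Zq ⟶ Gq := (Over.pullback q).map iZ
  haveI : IsMonHom iq := inferInstanceAs (IsMonHom ((Over.pullback q).map iZ))
  haveI : IsClosedImmersion iq.left :=
    MorphismProperty.of_isPullback (P := @IsClosedImmersion) (isPullback_map iZ q) ‹IsClosedImmersion iZ.left›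
  haveI : Mono iq := GrpField.SchImg.mono_of_isClosedImmersion iq
  haveI : IsAffine Zq.left := isAffine_of_isAffineHom iq.left
  haveI : QuasiCompact Zq.hom := by rw [← Over.w iq]; infer_instance
  obtain ⟨Z₁, hZ₁g, k₁, hk₁m, hk₁c, hk₁s, hk₁i, hk₁r⟩ := Chev.exists_component Zq
  haveI := hk₁m; haveI := hk₁c; haveI := hk₁s; haveI := hk₁i
  haveI : Mono k₁ := GrpField.SchImg.mono_of_isClosedImmersion k₁
  haveI : IsAffine Z₁.left := isAffine_of_isAffineHom k₁.left
  haveI : ConnectedSpace Z₁.left := inferInstance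
  -- the neutral component over the point
  let Z₀q := Red.bc q Z₀
  haveI : Smooth Z₀q.hom := inferInstanceAs (Smooth (pullback.snd Z₀.hom q))
  haveI : IsReduced Z₀q.left := SmoothRed.isReduced_of_smooth_scheme Z₀q.hom
  haveI : ConnectedSpace ↥Z₀q.left := connectedSpace_bc_pt Z₀ (fun t => by
    haveI : ConnectedSpace ↥(Z₀.hom.fiber t) := connected_fibre_neutral c₀ hc₀ t
    exact isConnected_iff_connectedSpace.2
      ((Z₀.hom.fiberHomeo t).surjective.connectedSpace (Z₀.hom.fiberHomeo t).continuous)) q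
  obtain ⟨k₀, hk₀⟩ := Borel.exists_factor_component hk₁r ((Over.pullback q).map c₀)
  -- the points of the tuple lie in the component and are central there
  have hpt : ∀ j, ∃ v : RP Z₁, v ≫ k₁ = kpt q (toUnit (Over.mk q) ≫ z j) := fun j => by
    have hr : Set.range (toUnit (Over.mk q) ≫ z j).left ⊆ Set.range c₀.left := by
      rintro _ ⟨y, rfl⟩
      rw [Subsingleton.elim (α := PrimeSpectrum K) y (IsLocalRing.closedPoint K)]
      exact hq j
    let w₀ : Over.mk q ⟶ Z₀ := Over.homMk (IsOpenImmersion.lift c₀.left _ hr) (by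
      show _ ≫ Z₀.hom = q
      rw [← Over.w c₀, IsOpenImmersion.lift_fac_assoc]
      exact Over.w (toUnit (Over.mk q) ≫ z j))
    have hw₀ : w₀ ≫ c₀ = toUnit (Over.mk q) ≫ z j := Over.OverMorphism.ext (IsOpenImmersion.lift_fac _ _ _)
    exact ⟨kpt q w₀ ≫ k₀, by rw [Category.assoc, hk₀, ← kpt_comp, hw₀]⟩
  choose v hv using hpt
  have hvN : ∀ j, v j ^ N = 1 := fun j => by
    rw [← cancel_mono k₁, MTTorus.comp_pow_hom, hv, ← kpt_pow, ← MonObj.comp_pow]
    have h : z j ^ N = 1 := by rw [← cancel_mono iZ, MTTorus.comp_pow_hom, hz, hσ, MonObj.one_comp]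
    rw [h, MonObj.comp_one, kpt_one, MonObj.one_comp]
  have hvc : ∀ j (g : RP Z₁), v j * g = g * v j := fun j g => by
    rw [← cancel_mono k₁, MonObj.mul_comp, MonObj.mul_comp, hv]
    obtain ⟨w, hw⟩ := exists_kpt q (g ≫ k₁)
    rw [← hw, ← kpt_mul, ← kpt_mul]
    refine congrArg (kpt q) ((cancel_mono iZ).1 ?_)
    rw [MonObj.mul_comp, MonObj.mul_comp, Category.assoc, hz]
    exact (hZ _ (w ≫ iZ)).1 ⟨w, rfl⟩ j
  -- a maximal torus of the component, enlarged in the group
  obtain ⟨R, B, hRg, hBg, t, b, htm, htc, hb, hRmax, -⟩ := Borel.exists_maxTorus Z₁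
  haveI := hRmax.1; haveI := hRmax.2.1
  choose u hu using fun j => exists_factor_of_central_torsion (t ≫ b) hRmax (v j) N hN (hvN j) (hvc j)
  haveI : Mono ((t ≫ b) ≫ k₁ ≫ iq) := mono_comp _ _
  obtain ⟨T, hTg, i, f, hi, hf⟩ := exists_maxTorus_containing ((t ≫ b) ≫ k₁ ≫ iq) hRmax.2.2.1
  haveI := hi.1; haveI := hi.2.1
  obtain ⟨C, hCg, c, hC, hcc, hCs⟩ := MTBridge.exists_centralizer T Gq
    (MTBridge.locally_of_isMultTypeFT' T (MTBridge.isMultTypeFT_of_isTorus T hi.2.2.1)) inferInstance inferInstance i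
  haveI := hC.1; haveI := hC.2.1; haveI := hcc; haveI := hCs
  have hui : ∀ j, (u j ≫ f) ≫ i = kpt q (toUnit (Over.mk q) ≫ σ j) := fun j => by
    rw [Category.assoc, hf, ← Category.assoc, hu, ← Category.assoc, hv]
    exact (kpt_comp q _ iZ).symm.trans (by rw [Category.assoc, hz])
  obtain ⟨w, hw⟩ := exists_factor_kpts c iq fun y => by
    obtain ⟨e, he⟩ := exists_kpt q (y ≫ c)
    obtain ⟨w, hw⟩ := (hZ _ e).2 fun j => kpt_inj q (by
      rw [kpt_mul, kpt_mul, he, ← hui]
      have h := (hC.2.2 _ (y ≫ c)).1 ⟨y, rfl⟩ _ (𝟙 _) (u j ≫ f)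
      rw [Category.id_comp] at h
      exact h.symm)
    exact ⟨kpt q w, (kpt_comp q w iZ).symm.trans (by rw [hw, he])⟩
  haveI : IsClosedImmersion (w.left ≫ iq.left) := by rw [← Over.comp_left, hw]; infer_instance
  haveI : IsClosedImmersion w.left := IsClosedImmersion.of_comp w.left iq.left
  exact ⟨T, hTg, i, C, hCg, c, Borel.isMaximalTorus_of_isMaxTorus _ hi, hC,
    w.left.isClosedEmbedding.isInducing.topologicalKrullDim_le, fun j => ⟨u j ≫ f, hui j⟩⟩


section Main

variable {S : Scheme.{u}}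

/-- **Semicontinuity of the ranks**, when `l` is invertible on the base. -/
theorem exists_nhd_rank_of_unit (l : ℕ) (hl : l = 2 ∨ l = 3) (hu : IsUnit (l : Γ(S, ⊤))) {G : Over S} [GrpObj G]
    [IsAffineHom G.hom] [Smooth G.hom] {K : Type u} [Field K] [IsAlgClosed K] (x : Spec (CommRingCat.of K) ⟶ S)
    {T C : Over (Spec (CommRingCat.of K))} [GrpObj T] [GrpObj C] (i : T ⟶ Red.bc x G) [IsMonHom i] [Mono i]
    (hT : Red.IsTorus T) (c : C ⟶ Red.bc x G) (hC : Red.IsCentralizerOf i c) :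
    ∃ U : S.Opens, x (IsLocalRing.closedPoint K) ∈ U ∧
      ∀ (L : Type u) [Field L] [IsAlgClosed L] (y : Spec (CommRingCat.of L) ⟶ S),
        y (IsLocalRing.closedPoint L) ∈ U →
        ∃ (T' : Over (Spec (CommRingCat.of L))) (_ : GrpObj T') (i' : T' ⟶ Red.bc y G)
          (C' : Over (Spec (CommRingCat.of L))) (_ : GrpObj C') (c' : C' ⟶ Red.bc y G),
          Red.IsMaximalTorus i' ∧ SGA3x.IsCartanOver L c' ∧
          topologicalKrullDim ↥T.left ≤ topologicalKrullDim ↥T'.left ∧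
          topologicalKrullDim ↥C'.left ≤ topologicalKrullDim ↥C.left := by
  classical
  haveI : IsSeparated G.hom := inferInstance
  haveI : QuasiCompact G.hom := inferInstance
  let Gx := Red.bc x G
  haveI : Smooth Gx.hom := inferInstanceAs (Smooth (pullback.snd G.hom x))
  haveI : IsAffineHom Gx.hom := inferInstanceAs (IsAffineHom (pullback.snd G.hom x))
  haveI : Smooth T.hom := smooth_torus hT
  obtain ⟨C₁, hC₁g, c₁, hC₁, hc₁c, hC₁s⟩ := MTBridge.exists_centralizer T Gx
    (MTBridge.locally_of_isMultTypeFT' T (MTBridge.isMultTypeFT_of_isTorus T hT)) inferInstance inferInstance i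
  haveI := hC₁.1; haveI := hC₁.2.1; haveI := hc₁c; haveI := hC₁s
  rw [dim_centralizer_eq i c hC c₁ hC₁]
  have hl1 : 1 < l := by rcases hl with rfl | rfl <;> norm_num
  have hunit : ∀ {F : Type u} [Field F] (f : Spec (CommRingCat.of F) ⟶ S), (l : F) ≠ 0 := fun {F} _ f => by
    have h := ((hu.map f.appTop.hom).map (Scheme.ΓSpecIso (CommRingCat.of F)).hom.hom)
    rw [map_natCast, map_natCast] at h
    exact h.ne_zero
  obtain ⟨m, Ls, hLs, hcent⟩ := exists_torsion_centralizer l hl1 (hunit x) hT i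
  set N := l ^ (m + 1) with hNdef
  have hN1 : 1 < N := Nat.one_lt_pow (Nat.succ_ne_zero m) hl1
  have hN0 : ∀ {F : Type u} [Field F] (f : Spec (CommRingCat.of F) ⟶ S), (N : F) ≠ 0 := fun {F} _ f => by
    rw [hNdef, Nat.cast_pow]
    exact pow_ne_zero _ (hunit f)
  obtain ⟨r, ⟨eT⟩, hcard⟩ := exists_rank_torus N (by omega) (hN0 x) hT
  haveI : Finite {t : 𝟙_ (Over (Spec (CommRingCat.of K))) ⟶ T // t ^ N = 1} :=
    Nat.finite_of_card_ne_zero (by rw [hcard]; positivity)
  let e := Finite.equivFinOfCardEq hcard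
  choose F hF using fun j => exists_kpt x ((e.symm j).1 ≫ i)
  obtain ⟨W, τ, hW, hτ, hτc, huniv⟩ := exists_tuple_scheme l hl (m + 1) (N ^ r) G hu
  haveI := hW
  obtain ⟨p, hp⟩ := huniv _ F
    (fun j => kpt_inj x (by
      rw [kpt_pow, hF, ← MTTorus.comp_pow_hom, ← hNdef, (e.symm j).2, MonObj.one_comp, kpt_one]))
    (fun a b => kpt_inj x (by
      rw [kpt_mul, kpt_mul, hF, hF, ← MonObj.mul_comp, ← MonObj.mul_comp, RedR1.mul_comm_torus hT]))
  let GW := Red.bc W.hom G
  haveI : Smooth GW.hom := inferInstanceAs (Smooth (pullback.snd G.hom W.hom))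
  haveI : IsAffineHom GW.hom := MorphismProperty.pullback_snd (P := @IsAffineHom) G.hom W.hom ‹IsAffineHom G.hom›
  let σ : Fin (N ^ r) → (𝟙_ (Over W.left) ⟶ GW) := fun j => sec (τ j)
  have hσ : ∀ j, σ j ^ N = 1 := fun j => by
    show sec (τ j) ^ N = 1
    rw [← sec_pow, hNdef, hτ, sec_one]
  have hσc : ∀ a b, σ a * σ b = σ b * σ a := fun a b => by
    show toBC W.hom _ * toBC W.hom _ = toBC W.hom _ * toBC W.hom _
    rw [← toBC_mul, ← toBC_mul, ← MonObj.comp_mul, ← MonObj.comp_mul, hτc]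
  obtain ⟨Z, hZg, iZ, hiZm, hiZc, hZs, hZq, hZsep, hZ⟩ := exists_tuple_centralizer N (by omega)
    (G := GW) (by rw [hNdef, Nat.cast_pow]; exact (isUnit_natCast W.hom l hu).pow (m + 1)) σ hσ hσc
  haveI := hiZm; haveI := hiZc; haveI := hZs; haveI := hZq; haveI := hZsep
  haveI : Mono iZ.left := inferInstance
  haveI : Mono iZ := Over.mono_of_mono_left iZ
  obtain ⟨-, Z₀, hZ₀g, c₀, hc₀m, hc₀o, hc₀r, hZ₀s, hZ₀q⟩ := Groth.Agent.S4098.result W.left Z
    ⟨⊤, by infer_instance, fun _ => trivial⟩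
  haveI := hc₀m; haveI := hc₀o; haveI := hZ₀s; haveI := hZ₀q
  choose z hz using fun j => (hZ _ (σ j)).2 fun a => by
    rw [toUnit_unique (toUnit (𝟙_ (Over W.left))) (𝟙 _), Category.id_comp]
    exact hσc a j
  let δ : Fin (N ^ r) → Fin (N ^ r) → (𝟙_ (Over W.left) ⟶ GW) := fun a b => σ a * (σ b)⁻¹
  haveI : IsClosedImmersion η[GW].left :=
    haveI : IsClosedImmersion (η[GW].left ≫ GW.hom) := by
      rw [Over.w η[GW]]; exact inferInstanceAs (IsClosedImmersion (𝟙 W.left))
    IsClosedImmersion.of_comp η[GW].left GW.hom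
  haveI : LocallyOfFinitePresentation (Red.DS S (Fin r → ℤ)).hom :=
    locallyOfFinitePresentation_of_isMultTypeFT _ (MTTorus.isMultTypeFT_DS S _)
  haveI : Flat (Red.DS S (Fin r → ℤ)).hom := flat_DS_hom S _
  let p₀ : W.left := p.left (IsLocalRing.closedPoint K)
  let Ω : W.left.Opens :=
    ⟨(⋂ j, (z j).left ⁻¹' Set.range c₀.left) ∩
      (⋂ a, ⋂ b, {w | a ≠ b → w ∈ (δ a b).left ⁻¹' (Set.range η[GW].left)ᶜ}) ∩
      {w | topologicalKrullDim ↥(Z.hom.base ⁻¹' {w}) = topologicalKrullDim ↥(Z.hom.base ⁻¹' {p₀})} ∩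
      W.hom ⁻¹' {t | topologicalKrullDim ↥((Red.DS S (Fin r → ℤ)).hom.base ⁻¹' {t}) =
        topologicalKrullDim ↥((Red.DS S (Fin r → ℤ)).hom.base ⁻¹' {x (IsLocalRing.closedPoint K)})}, by
      refine (((isOpen_iInter_of_finite fun j => c₀.left.isOpenEmbedding.isOpen_range.preimage
        (z j).left.continuous).inter (isOpen_iInter_of_finite fun a => isOpen_iInter_of_finite fun b => ?_)).inter
        ((GrpDim.isLocallyConstant_dim Z).isOpen_fiber _)).inter
        (((GrpDim.isLocallyConstant_dim (Red.DS S (Fin r → ℤ))).isOpen_fiber _).preimage W.hom.continuous)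
      by_cases h : a = b
      · simp [h]
      · simp only [ne_eq, h, not_false_eq_true, forall_const, Set.setOf_mem_eq]
        exact η[GW].left.isClosedEmbedding.isClosed_range.isOpen_compl.preimage (δ a b).left.continuous⟩
  -- comparison of the fibres at a point of the tuple scheme
  have hmem : ∀ {F : Type u} [Field F] {f : Spec (CommRingCat.of F) ⟶ S} (p' : Over.mk f ⟶ W) (a b : Fin (N ^ r)),
      p'.left (IsLocalRing.closedPoint F) ∈ (δ a b).left ⁻¹' (Set.range η[GW].left) ↔ p' ≫ τ a = p' ≫ τ b := by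
    intro F _ f p' a b
    have h1 : toUnit (Over.mk p'.left) ≫ δ a b = 1 ↔ p' ≫ τ a = p' ≫ τ b := by
      show toUnit _ ≫ (sec (τ a) * (sec (τ b))⁻¹) = 1 ↔ _
      rw [MonObj.comp_mul, GrpObj.comp_inv, toUnit_sec, toUnit_sec, mul_inv_eq_one]
      exact ⟨pt_injective p', fun h => by rw [h]⟩
    rw [← h1]
    constructor
    · intro h
      exact eq_one_of_mem_unit _ h
    · intro h
      refine ⟨p'.left (IsLocalRing.closedPoint F), ?_⟩
      show η[GW].left _ = (toUnit (Over.mk p'.left) ≫ δ a b).left _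
      rw [h, Hom.one_def]
      rfl
  -- the fibre over the torus
  let q : Spec (CommRingCat.of K) ⟶ W.left := p.left
  have hqx : q ≫ W.hom = x := Over.w p
  obtain ⟨eG, heG, hG'⟩ := MaxTorusBC.exists_trIso hqx G
  haveI : IsMonHom eG.hom := hG'
  haveI : IsIso eG.hom.left := ((Over.forget _).mapIso eG).isIso_hom
  have hpts : ∀ b : Over.mk x ⟶ G, kpt x b ≫ eG.hom = kpt q (pt p b) := fun b => by
    rw [heG]; exact kpt_pt p hqx b
  haveI : Smooth (Red.bc q Z).hom := inferInstanceAs (Smooth (pullback.snd Z.hom q))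
  haveI : IsClosedImmersion ((Over.pullback q).map iZ).left :=
    MorphismProperty.of_isPullback (P := @IsClosedImmersion) (isPullback_map iZ q) hiZc
  haveI : Mono ((Over.pullback q).map iZ) := GrpField.SchImg.mono_of_isClosedImmersion _
  have hσq : ∀ j, toUnit (Over.mk q) ≫ σ j = pt p (F j) := fun j => by
    show toUnit (Over.mk p.left) ≫ sec (τ j) = _
    rw [toUnit_sec, hp]
  obtain ⟨k, hk⟩ := exists_factor_kpts (i ≫ eG.hom) ((Over.pullback q).map iZ) fun t => by
    obtain ⟨b, hb⟩ := exists_kpt x (t ≫ i)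
    obtain ⟨w, hw⟩ := (hZ _ (pt p b)).2 fun j => by
      rw [hσq, pt_comm_iff]
      refine kpt_inj x ?_
      rw [kpt_mul, kpt_mul, hF, hb, ← MonObj.mul_comp, ← MonObj.mul_comp, RedR1.mul_comm_torus hT]
    exact ⟨kpt q w, by rw [← kpt_comp, hw, ← hpts, hb, Category.assoc]⟩
  haveI : IsMonHom k := MTSplit.isMonHom_of_comp_mono k _ _ hk
  haveI : IsOpenImmersion ((Over.pullback q).map c₀).left :=
    MorphismProperty.of_isPullback (P := @IsOpenImmersion) (isPullback_map c₀ q) hc₀o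
  haveI : LocallyOfFiniteType (Red.bc q Z).hom := inferInstance
  obtain ⟨k₀, hk₀⟩ := exists_factor_connected k ((Over.pullback q).map c₀) fun t => by
    rw [show T.hom.base ⁻¹' {t} = Set.univ from
      Set.eq_univ_of_forall fun z => Subsingleton.elim (α := PrimeSpectrum K) _ _]
    haveI := Chev.connectedSpace_of_isTorus hT
    exact isConnected_univ
  have hpc₀ : ∀ j, (z j).left p₀ ∈ Set.range c₀.left := fun j => by
    obtain ⟨w, hw⟩ := exists_kpt q ((e.symm j).1 ≫ k₀)
    have h : w ≫ c₀ = toUnit (Over.mk q) ≫ z j := by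
      refine kpt_inj q ((cancel_mono ((Over.pullback q).map iZ)).1 ?_)
      rw [kpt_comp, hw, Category.assoc (e.symm j).1, hk₀, Category.assoc, hk, ← Category.assoc, ← hF, hpts,
        ← kpt_comp, Category.assoc, hz, hσq]
    have h' := congrArg (fun v : Over.mk q ⟶ Z => v.left (IsLocalRing.closedPoint K)) h
    exact ⟨w.left (IsLocalRing.closedPoint K), h'⟩
  have hdim₀ : topologicalKrullDim ↥(Red.bc q Z).left ≤ topologicalKrullDim ↥C₁.left := by
    haveI : IsClosedImmersion (c₁ ≫ eG.hom).left := inferInstanceAs (IsClosedImmersion (c₁.left ≫ eG.hom.left))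
    obtain ⟨v, hv⟩ := exists_factor_kpts ((Over.pullback q).map iZ) (c₁ ≫ eG.hom) fun w => by
      obtain ⟨w', rfl⟩ := exists_kpt q w
      obtain ⟨b, hb⟩ := exists_pt p (w' ≫ iZ)
      have hb' : ∀ t ∈ Ls, (t ≫ i) * kpt x b = kpt x b * (t ≫ i) := fun t ht => by
        have htN : t ^ N = 1 := by rw [hNdef, pow_succ, pow_mul, hLs t ht, one_pow]
        have h := (hZ _ (pt p b)).1 ⟨w', hb.symm⟩ (e ⟨t, htN⟩)
        rw [hσq, pt_comm_iff] at h
        have h' := congrArg (kpt x) h
        rw [kpt_mul, kpt_mul, hF, Equiv.symm_apply_apply] at h'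
        exact h'
      obtain ⟨y, hy⟩ := (hC₁.2.2 _ (kpt x b)).2 fun X y h => commute_of_pts i _ (hcent (kpt x b) hb') X y h
      exact ⟨y, by rw [reassoc_of% hy, hpts, hb, kpt_comp]⟩
    haveI : IsClosedImmersion (v.left ≫ (c₁ ≫ eG.hom).left) := by rw [← Over.comp_left, hv]; infer_instance
    haveI : IsClosedImmersion v.left := IsClosedImmersion.of_comp v.left (c₁ ≫ eG.hom).left
    exact v.left.isClosedEmbedding.isInducing.topologicalKrullDim_le
  have hpΩ : p₀ ∈ Ω := by
    refine ⟨⟨⟨Set.mem_iInter.2 hpc₀, Set.mem_iInter₂.2 fun a b hab => ?_⟩, rfl⟩, ?_⟩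
    · intro h
      refine hab (e.symm.injective (Subtype.ext ((cancel_mono i).1 ?_)))
      have h' := (hmem p a b).1 h
      rw [hp, hp] at h'
      rw [← hF, ← hF, h']
    · show topologicalKrullDim ↥((Red.DS S (Fin r → ℤ)).hom.base ⁻¹' {W.hom p₀}) = _
      rw [show W.hom p₀ = x (IsLocalRing.closedPoint K) by rw [← hqx]; rfl]
  refine ⟨⟨W.hom '' Ω, W.hom.isOpenMap _ Ω.2⟩, ⟨p₀, hpΩ, by rw [← hqx]; rfl⟩, fun L _ _ y hy => ?_⟩
  obtain ⟨w, hw, hwy⟩ := hy
  let WΩ : Over S := Over.mk (Ω.ι ≫ W.hom)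
  haveI : LocallyOfFiniteType (Red.bc y WΩ).hom :=
    inferInstanceAs (LocallyOfFiniteType (pullback.snd (Ω.ι ≫ W.hom) y))
  obtain ⟨pw, -⟩ := Scheme.Pullback.exists_preimage_pullback (f := WΩ.hom) (g := y)
    (⟨w, hw⟩ : Ω.toScheme) (IsLocalRing.closedPoint L) hwy
  obtain ⟨v⟩ := exists_point_of_nonempty (Red.bc y WΩ) ⟨pw⟩
  obtain ⟨b, -⟩ := exists_kpt y v
  let incl : WΩ ⟶ W := Over.homMk Ω.ι rfl
  let p' : Over.mk y ⟶ W := b ≫ incl
  let q' : Spec (CommRingCat.of L) ⟶ W.left := p'.left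
  have hqΩ : q' (IsLocalRing.closedPoint L) ∈ Ω := by
    have h := (b.left (IsLocalRing.closedPoint L)).2
    exact h
  obtain ⟨⟨⟨hzq, hdist⟩, hdimZ⟩, hdimT⟩ := hqΩ
  obtain ⟨T', hT'g, i', C', hC'g, c', hi', hC', hdimC', hu'⟩ := exists_rank_fibre (N := N) iZ c₀ hc₀r σ z hz hσ hZ q'
    (hN0 y) fun j => Set.mem_iInter.1 hzq j
  haveI := hi'.1; haveI := hi'.2.1; haveI := hC'.1; haveI := hC'.2.1
  choose u' hu' using hu'
  obtain ⟨eG', -, hG''⟩ := MaxTorusBC.exists_trIso (Over.w p' : q' ≫ W.hom = y) G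
  haveI : IsMonHom eG'.hom := hG''
  haveI : IsMonHom eG'.symm.hom := inferInstanceAs (IsMonHom eG'.inv)
  haveI : IsMonHom (Iso.refl T').hom := inferInstanceAs (IsMonHom (𝟙 T'))
  haveI : IsMonHom (Iso.refl C').hom := inferInstanceAs (IsMonHom (𝟙 C'))
  refine ⟨T', hT'g, i' ≫ eG'.inv, C', hC'g, c' ≫ eG'.inv,
    isMaximalTorus_iso (Iso.refl T') eG'.symm i' (i' ≫ eG'.inv) (by rw [Iso.refl_hom, Category.id_comp]; rfl)
      hi'.2.2.1 hi',
    isCartanOver_iso (Iso.refl C') eG'.symm c' (c' ≫ eG'.inv) (by rw [Iso.refl_hom, Category.id_comp]; rfl)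
      ⟨hC'.1, hC'.2.1, T', hT'g, i', hi', hC'⟩, ?_, ?_⟩
  · obtain ⟨d, ⟨eT'⟩, hcard'⟩ := exists_rank_torus N (by omega) (hN0 y) hi'.2.2.1
    have hinj : Function.Injective fun j => (⟨u' j, by
        rw [← cancel_mono i', MTTorus.comp_pow_hom, hu', ← kpt_pow, ← MonObj.comp_pow, hσ, MonObj.comp_one,
          kpt_one, MonObj.one_comp]⟩ : {t : 𝟙_ (Over (Spec (CommRingCat.of L))) ⟶ T' // t ^ N = 1}) := by
      intro a b hab
      by_contra hne
      refine Set.mem_iInter₂.1 hdist a b hne ?_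
      refine (hmem p' a b).2 (pt_injective p' ?_)
      rw [← toUnit_sec, ← toUnit_sec]
      refine kpt_inj q' ?_
      have h := congrArg (fun t => t.1 ≫ i') hab
      simp only [hu'] at h
      exact h
    haveI : Finite {t : 𝟙_ (Over (Spec (CommRingCat.of L))) ⟶ T' // t ^ N = 1} :=
      Nat.finite_of_card_ne_zero (by rw [hcard']; positivity)
    have hle := Nat.card_le_card_of_injective _ hinj
    rw [Nat.card_fin, hcard', Nat.pow_le_pow_iff_right hN1] at hle
    calc topologicalKrullDim ↥T.left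
        = topologicalKrullDim ↥(Red.DS (Spec (CommRingCat.of K)) (Fin r → ℤ)).left :=
          IsHomeomorph.topologicalKrullDim_eq _ (Scheme.homeoOfIso ((Over.forget _).mapIso eT)).isHomeomorph
      _ = topologicalKrullDim ↥(Red.DS (Spec (CommRingCat.of L)) (Fin r → ℤ)).left := by
          rw [dim_DS_point x r, dim_DS_point y r, ← hwy]
          refine hdimT.symm.trans ?_
          rw [show W.hom (q' (IsLocalRing.closedPoint L)) = y (IsLocalRing.closedPoint L) from
            congrArg (fun f => f (IsLocalRing.closedPoint L)) (Over.w p'), hwy]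
      _ ≤ topologicalKrullDim ↥(Red.DS (Spec (CommRingCat.of L)) (Fin d → ℤ)).left := dim_DS_mono hle
      _ = topologicalKrullDim ↥T'.left :=
          (IsHomeomorph.topologicalKrullDim_eq _ (Scheme.homeoOfIso ((Over.forget _).mapIso eT')).isHomeomorph).symm
  · refine hdimC'.trans (le_of_eq_of_le ?_ hdim₀)
    rw [dim_bc_point q' Z, dim_bc_point q Z]
    exact hdimZ

/-- **Semicontinuity of the ranks.** -/
theorem exists_nhd_rank {G : Over S} [GrpObj G] [IsAffineHom G.hom] [Smooth G.hom] {K : Type u} [Field K]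
    [IsAlgClosed K] (x : Spec (CommRingCat.of K) ⟶ S) {T C : Over (Spec (CommRingCat.of K))} [GrpObj T] [GrpObj C]
    (i : T ⟶ Red.bc x G) [IsMonHom i] [Mono i] (hT : Red.IsTorus T) (c : C ⟶ Red.bc x G)
    (hC : Red.IsCentralizerOf i c) :
    ∃ U : S.Opens, x (IsLocalRing.closedPoint K) ∈ U ∧
      ∀ (L : Type u) [Field L] [IsAlgClosed L] (y : Spec (CommRingCat.of L) ⟶ S),
        y (IsLocalRing.closedPoint L) ∈ U →
        ∃ (T' : Over (Spec (CommRingCat.of L))) (_ : GrpObj T') (i' : T' ⟶ Red.bc y G)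
          (C' : Over (Spec (CommRingCat.of L))) (_ : GrpObj C') (c' : C' ⟶ Red.bc y G),
          Red.IsMaximalTorus i' ∧ SGA3x.IsCartanOver L c' ∧
          topologicalKrullDim ↥T.left ≤ topologicalKrullDim ↥T'.left ∧
          topologicalKrullDim ↥C'.left ≤ topologicalKrullDim ↥C.left := by
  obtain ⟨l, hl, V, hxV, hV⟩ := exists_prime_invertible (x (IsLocalRing.closedPoint K))
  haveI : IsAffineHom (Red.bc V.ι G).hom := MorphismProperty.pullback_snd (P := @IsAffineHom) G.hom V.ι ‹IsAffineHom G.hom›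
  haveI : Smooth (Red.bc V.ι G).hom := inferInstanceAs (Smooth (pullback.snd G.hom V.ι))
  have lift : ∀ {F : Type u} [Field F] (f : Spec (CommRingCat.of F) ⟶ S), f (IsLocalRing.closedPoint F) ∈ V →
      ∃ f' : Spec (CommRingCat.of F) ⟶ V.toScheme, f' ≫ V.ι = f := fun {F} _ f hf =>
    ⟨IsOpenImmersion.lift V.ι f (by
      rintro _ ⟨z, rfl⟩
      rw [V.range_ι, Subsingleton.elim (α := PrimeSpectrum F) z (IsLocalRing.closedPoint F)]
      exact hf), IsOpenImmersion.lift_fac _ _ _⟩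
  obtain ⟨x', hx'⟩ := lift x hxV
  obtain ⟨eG, -, hG'⟩ := MaxTorusBC.exists_trIso hx' G
  haveI : IsMonHom eG.hom := hG'
  haveI : IsMonHom (Iso.refl C).hom := inferInstanceAs (IsMonHom (𝟙 C))
  have hC' : Red.IsCentralizerOf (i ≫ eG.hom) (c ≫ eG.hom) :=
    isCentralizerOf_iso (Iso.refl C) eG i c (c ≫ eG.hom) (by rw [Iso.refl_hom, Category.id_comp]) hC
  obtain ⟨U, hxU, hU⟩ := exists_nhd_rank_of_unit l hl hV x' (i ≫ eG.hom) hT (c ≫ eG.hom) hC'
  refine ⟨V.ι ''ᵁ U, ⟨_, hxU, congrArg (fun f => f (IsLocalRing.closedPoint K)) hx'⟩, fun L _ _ y hy => ?_⟩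
  obtain ⟨v, hvU, hvy⟩ := hy
  obtain ⟨y', hy'⟩ := lift y (by rw [← hvy]; exact v.2)
  have hyU : y' (IsLocalRing.closedPoint L) ∈ U := by
    rw [show y' (IsLocalRing.closedPoint L) = v from
      V.ι.isOpenEmbedding.injective ((congrArg (fun f => f (IsLocalRing.closedPoint L)) hy').trans hvy.symm)]
    exact hvU
  obtain ⟨T', hT'g, i', C', hC'g, c', hi', hc', h1, h2⟩ := hU L y' hyU
  haveI := hi'.1; haveI := hi'.2.1; haveI := hc'.1
  obtain ⟨eG', -, hG''⟩ := MaxTorusBC.exists_trIso hy' G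
  haveI : IsMonHom eG'.hom := hG''
  haveI : IsMonHom eG'.symm.hom := inferInstanceAs (IsMonHom eG'.inv)
  haveI : IsMonHom (Iso.refl T').hom := inferInstanceAs (IsMonHom (𝟙 T'))
  haveI : IsMonHom (Iso.refl C').hom := inferInstanceAs (IsMonHom (𝟙 C'))
  exact ⟨T', hT'g, i' ≫ eG'.inv, C', hC'g, c' ≫ eG'.inv,
    isMaximalTorus_iso (Iso.refl T') eG'.symm i' (i' ≫ eG'.inv) (by rw [Iso.refl_hom, Category.id_comp]; rfl)
      hi'.2.2.1 hi',
    isCartanOver_iso (Iso.refl C') eG'.symm c' (c' ≫ eG'.inv) (by rw [Iso.refl_hom, Category.id_comp]; rfl) hc',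
    h1, h2⟩

end Main

end Groth.Agent.MTImage

namespace Groth.Agent.MTImage

/-- The closed point of a geometric point is the point. -/
theorem geomPt_closedPoint {S : Scheme.{u}} (s : S) :
    Red.geomPt s (IsLocalRing.closedPoint (AlgebraicClosure (S.residueField s))) = s := by
  show (Spec.map _ ≫ S.fromSpecResidueField s) _ = s
  rw [Scheme.Hom.comp_apply]
  exact S.fromSpecResidueField_apply _ _

end Groth.Agent.MTImage
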