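import Groth.Agent.MTBridge.EtaleConj
import Groth.Agent.MTBridge.MonoTori
import Groth.Agent.S6067
import Groth.Agent.S8406
import Groth.Agent.Chev.MaxTorusBC
import Groth.Agent.Chev.CentralMT
import Groth.Agent.Chev.Component
import Groth.Agent.Chev.Main
import Groth.Agent.Chev.GeomPtIso

/-!
# Maximal tori are conjugate etale locally

The strict transporter of two subtori of a smooth separated group is closed and smooth; maximal tori of an algebraic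
group over an algebraically closed field are conjugate.
-/

set_option autoImplicit false
set_option linter.style.haveILetI false
set_option backward.isDefEq.respectTransparency false
set_option maxHeartbeats 1000000
set_option synthInstance.maxHeartbeats 400000

universe u

noncomputable section

open CategoryTheory Limits MonoidalCategory CartesianMonoidalCategory MonObj GrpObj AlgebraicGeometry
open scoped CategoryTheory.Obj

namespace Groth.Agent.MTImage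

open Groth.Agent.MTBridge

variable {S : Scheme.{u}}

/-- A torus is smooth over the base. -/
theorem smooth_torus {T : Over S} [GrpObj T] (hT : Red.IsTorus T) : Smooth T.hom := by
  have hTm := isMultTypeFT_of_isTorus T hT
  haveI := flat_of_isMultTypeFT T hTm
  haveI := locallyOfFinitePresentation_of_isMultTypeFT T hTm
  refine Smooth.of_smooth_fiberToSpecResidueField T.hom fun s => ?_
  exact Chev.smooth_of_isTorus (Chev.Borel.isTorus_bc_scheme T (S.fromSpecResidueField s) hT)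

/-- A torus has connected fibres. -/
theorem connected_fibre_torus {T : Over S} [GrpObj T] (hT : Red.IsTorus T) (s : S) :
    ConnectedSpace ↥(Limits.pullback T.hom (S.fromSpecResidueField s)) :=
  Chev.connectedSpace_of_isTorus (Chev.Borel.isTorus_bc_scheme T (S.fromSpecResidueField s) hT)

/-- The strict transporter of two subtori is closed and smooth. -/
theorem exists_transporterEq_tori (H₁ H₂ G : Over S) [GrpObj H₁] [GrpObj H₂] [GrpObj G]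
    (hH₁ : Red.IsTorus H₁) (hH₂ : Red.IsTorus H₂) [Smooth G.hom] [IsSeparated G.hom]
    (i₁ : H₁ ⟶ G) [IsMonHom i₁] [Mono i₁] (i₂ : H₂ ⟶ G) [IsMonHom i₂] [Mono i₂] :
    ∃ (T : Over S) (j : T ⟶ G), IsClosedImmersion j.left ∧ Smooth T.hom ∧ ∀ (X : Over S) (g : X ⟶ G),
      (∃ t : X ⟶ T, t ≫ j = g) ↔ ∀ (X' : Over S) (x : X' ⟶ X),
        (∀ h₁ : X' ⟶ H₁, ∃ h₂ : X' ⟶ H₂, (x ≫ g) * (h₁ ≫ i₁) * (x ≫ g)⁻¹ = h₂ ≫ i₂) ∧
        (∀ h₂ : X' ⟶ H₂, ∃ h₁ : X' ⟶ H₁, (x ≫ g)⁻¹ * (h₂ ≫ i₂) * (x ≫ g) = h₁ ≫ i₁) := by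
  have hm₁ := isMultTypeFT_of_isTorus H₁ hH₁
  have hm₂ := isMultTypeFT_of_isTorus H₂ hH₂
  haveI := isAffineHom H₁ hm₁
  haveI := isAffineHom H₂ hm₂
  haveI := smooth_torus hH₁
  haveI := smooth_torus hH₂
  have aux : ∀ (A : Over S) [IsAffineHom A.hom] [Smooth A.hom] (a : A ⟶ G),
      LocallyOfFinitePresentation a.left ∧ QuasiCompact a.left ∧ QuasiSeparated a.left := fun A _ _ a => by
    haveI : LocallyOfFinitePresentation (a.left ≫ G.hom) := by rw [Over.w a]; infer_instance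
    haveI : QuasiCompact (a.left ≫ G.hom) := by rw [Over.w a]; infer_instance
    haveI : QuasiSeparated (a.left ≫ G.hom) := by rw [Over.w a]; infer_instance
    exact ⟨LimDesc.lfp_of_comp a.left G.hom, QuasiCompact.of_comp a.left G.hom, QuasiSeparated.of_comp a.left G.hom⟩
  obtain ⟨_, _, _⟩ := aux H₁ i₁
  obtain ⟨_, _, _⟩ := aux H₂ i₂
  obtain ⟨C₁, c₁, hc₁, hf₁, hC₁⟩ := Groth.Agent.S6067.result G H₁ H₂ (connected_fibre_torus hH₁) i₁ i₂
  obtain ⟨C₂, c₂, hc₂, hf₂, hC₂⟩ := Groth.Agent.S6067.result G H₂ H₁ (connected_fibre_torus hH₂) i₂ i₁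
  haveI := hc₁
  haveI := hf₁
  let c₂' : C₂ ⟶ G := c₂ ≫ GrpObj.inv (X := G)
  haveI : IsIso (GrpObj.inv (X := G)).left := inferInstanceAs (IsIso ((Over.forget _).map (GrpObj.inv (X := G))))
  haveI : IsClosedImmersion c₂'.left := by
    haveI := hc₂
    exact inferInstanceAs (IsClosedImmersion (c₂.left ≫ (GrpObj.inv (X := G)).left))
  haveI : LocallyOfFinitePresentation c₂'.left := by
    haveI := hf₂
    exact inferInstanceAs (LocallyOfFinitePresentation (c₂.left ≫ (GrpObj.inv (X := G)).left))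
  have hC₂' : ∀ (X : Over S) (g : X ⟶ G), (∃ z, z ≫ c₂' = g) ↔ ∃ z, z ≫ c₂ = g⁻¹ := by
    intro X g
    refine ⟨fun ⟨z, hz⟩ => ⟨z, ?_⟩, fun ⟨z, hz⟩ => ⟨z, ?_⟩⟩
    · rw [← hz, ← Category.assoc, ← Hom.inv_def, _root_.inv_inv]
    · rw [← Category.assoc, ← Hom.inv_def, hz, _root_.inv_inv]
  obtain ⟨T, j, hj, hjf, hT⟩ := ClosedRep.exists_closed_inter_lfp c₁ c₂'
  haveI := hj
  haveI := hjf
  have hT' : ∀ (X : Over S) (g : X ⟶ G), (∃ t : X ⟶ T, t ≫ j = g) ↔ ∀ (X' : Over S) (x : X' ⟶ X),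
        (∀ h₁ : X' ⟶ H₁, ∃ h₂ : X' ⟶ H₂, (x ≫ g) * (h₁ ≫ i₁) * (x ≫ g)⁻¹ = h₂ ≫ i₂) ∧
        (∀ h₂ : X' ⟶ H₂, ∃ h₁ : X' ⟶ H₁, (x ≫ g)⁻¹ * (h₂ ≫ i₂) * (x ≫ g) = h₁ ≫ i₁) := by
    intro X g
    rw [hT, hC₂', hC₁, hC₂]
    simp only [GrpObj.comp_inv, _root_.inv_inv]
    exact ⟨fun h X' x => ⟨h.1 X' x, h.2 X' x⟩, fun h => ⟨fun X' x => (h X' x).1, fun X' x => (h X' x).2⟩⟩
  refine ⟨T, j, hj, smooth_of_lift j fun A _ I hI b g₀ h0 => ?_, hT'⟩
  obtain ⟨g, hg, hg1, hg2⟩ := exists_transporterEq_lift (locally_of_isMultTypeFT' H₁ hm₁)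
    (locally_of_isMultTypeFT' H₂ hm₂) ‹Smooth G.hom› i₁ i₂ A I hI b g₀ (fun X' x => (((hT' _ _).1 h0) X' x).1)
    (fun X' x => (((hT' _ _).1 h0) X' x).2)
  exact ⟨g, hg, (hT' _ _).2 fun X' x => ⟨hg1 X' x, hg2 X' x⟩⟩

/-- A point of the transporter gives a conjugation. -/
theorem conjBy_of_transporter {G H₁ H₂ : Over S} [GrpObj G] [GrpObj H₁] [GrpObj H₂] (i₁ : H₁ ⟶ G) [Mono i₁]
    (i₂ : H₂ ⟶ G) [Mono i₂] (g : 𝟙_ (Over S) ⟶ G)
    (h₁ : ∀ (X : Over S) (h : X ⟶ H₁), ∃ h' : X ⟶ H₂, (toUnit X ≫ g) * (h ≫ i₁) * (toUnit X ≫ g)⁻¹ = h' ≫ i₂)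
    (h₂ : ∀ (X : Over S) (h : X ⟶ H₂), ∃ h' : X ⟶ H₁, (toUnit X ≫ g)⁻¹ * (h ≫ i₂) * (toUnit X ≫ g) = h' ≫ i₁) :
    SGA3x.ConjBy i₁ i₂ g := by
  obtain ⟨φ, hφ⟩ := h₁ _ (𝟙 _)
  obtain ⟨ψ, hψ⟩ := h₂ _ (𝟙 _)
  rw [Category.id_comp] at hφ hψ
  refine ⟨⟨φ, ψ, ?_, ?_⟩, hφ⟩
  · refine (cancel_mono i₁).1 ?_
    rw [Category.assoc, ← hψ, Category.id_comp]
    simp only [MonObj.comp_mul, GrpObj.comp_inv, ← Category.assoc, comp_toUnit]
    rw [← hφ]
    group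
  · refine (cancel_mono i₂).1 ?_
    rw [Category.assoc, ← hφ, Category.id_comp]
    simp only [MonObj.comp_mul, GrpObj.comp_inv, ← Category.assoc, comp_toUnit]
    rw [← hψ]
    group

/-- **Maximal tori of an algebraic group over an algebraically closed field are conjugate.** -/
theorem exists_conjBy_maxTori {k : Type u} [Field k] [IsAlgClosed k] {G T₁ T₂ : Over (Spec (CommRingCat.of k))}
    [GrpObj G] [GrpObj T₁] [GrpObj T₂] [Smooth G.hom] [QuasiCompact G.hom] (i₁ : T₁ ⟶ G) (h₁ : AGF.IsMaxTorus i₁)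
    (i₂ : T₂ ⟶ G) (h₂ : AGF.IsMaxTorus i₂) : ∃ g : 𝟙_ _ ⟶ G, SGA3x.ConjBy i₁ i₂ g := by
  obtain ⟨G₀, hg₀, c, hcm, hcc, hcs, hirr, hcr⟩ := Chev.exists_component G
  haveI := hcm; haveI := hcc; haveI := hcs; haveI := hirr
  haveI : QuasiCompact G₀.hom := by rw [← Over.w c]; infer_instance
  haveI : Mono c := GrpField.SchImg.mono_of_isClosedImmersion c
  haveI : ConnectedSpace G₀.left := inferInstance
  have aux : ∀ {T : Over (Spec (CommRingCat.of k))} [GrpObj T] (i : T ⟶ G), AGF.IsMaxTorus i →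
      ∃ t : T ⟶ G₀, t ≫ c = i ∧ Red.IsMaximalTorus t := fun {T} _ i hi => by
    haveI := hi.1; haveI := hi.2.1
    haveI := Chev.smooth_of_isTorus hi.2.2.1
    haveI := Chev.connectedSpace_of_isTorus hi.2.2.1
    haveI : IsReduced T.left := SmoothRed.isReduced_of_smooth_scheme T.hom
    obtain ⟨t, ht⟩ := Chev.Borel.exists_factor_component hcr i
    haveI : IsMonHom t := MTSplit.isMonHom_of_comp_mono t c i ht
    haveI : Mono (t ≫ c) := by rw [ht]; infer_instance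
    haveI : Mono t := mono_of_mono t c
    refine ⟨t, ht, Chev.Borel.isMaximalTorus_of_isMaxTorus t ⟨inferInstance, inferInstance, hi.2.2.1,
      fun T' _ j _ _ f hT' hf => hi.2.2.2 T' (j ≫ c) f hT' (by rw [← Category.assoc, hf, ht])⟩⟩
  obtain ⟨t₁, e₁, m₁⟩ := aux i₁ h₁
  obtain ⟨t₂, e₂, m₂⟩ := aux i₂ h₂
  obtain ⟨g, φ, hφ⟩ := Groth.Agent.S8406.result k G₀ T₁ T₂ t₁ t₂ m₁ m₂
  refine ⟨g ≫ c, φ, ?_⟩
  rw [← e₂, ← Category.assoc φ.hom, ← hφ, ← e₁, MonObj.mul_comp, MonObj.mul_comp, GrpObj.inv_comp, Category.assoc]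

/-- The strict transporter of two maximal tori has a point over every geometric point. -/
theorem exists_geom_transport {G T₁ T₂ : Over S} [GrpObj G] [GrpObj T₁] [GrpObj T₂] [Smooth G.hom]
    [QuasiCompact G.hom] (i₁ : T₁ ⟶ G) (h₁ : Red.IsMaximalTorus i₁) (i₂ : T₂ ⟶ G) (h₂ : Red.IsMaximalTorus i₂)
    (s : S) : ∃ g : Over.mk (Red.geomPt s) ⟶ G, ∀ (X : Over S) (p : X ⟶ Over.mk (Red.geomPt s)),
      (∀ a : X ⟶ T₁, ∃ b : X ⟶ T₂, (p ≫ g) * (a ≫ i₁) * (p ≫ g)⁻¹ = b ≫ i₂) ∧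
      (∀ b : X ⟶ T₂, ∃ a : X ⟶ T₁, (p ≫ g)⁻¹ * (b ≫ i₂) * (p ≫ g) = a ≫ i₁) := by
  let κ := Red.geomPt s
  haveI : Smooth (Red.bc κ G).hom := inferInstanceAs (Smooth (pullback.snd G.hom κ))
  haveI : QuasiCompact (Red.bc κ G).hom := inferInstanceAs (QuasiCompact (pullback.snd G.hom κ))
  obtain ⟨g', φ, hφ⟩ := exists_conjBy_maxTori _ (Chev.MaxTorusBC.isMaxTorus_pt i₁ h₁ κ) _
    (Chev.MaxTorusBC.isMaxTorus_pt i₂ h₂ κ)
  let e : Over.mk κ ≅ (Over.map κ).obj (𝟙_ _) := Over.isoMk (Iso.refl _) (by simp)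
  refine ⟨e.hom ≫ fromBC κ g', fun X p => ?_⟩
  let ε : (Over.map κ).obj (Over.mk p.left) ≅ X := Over.isoMk (Iso.refl _) (by simpa using (Over.w p).symm)
  have hp : (Over.map κ).map (toUnit (Over.mk p.left)) = ε.hom ≫ p ≫ e.hom := by
    apply Over.OverMorphism.ext
    simp [ε, e]
  have hφ' : ∀ (y : Over.mk p.left ⟶ Red.bc κ T₁),
      (toUnit _ ≫ g') * (y ≫ (Over.pullback κ).map i₁) * (toUnit _ ≫ g')⁻¹ =
        (y ≫ φ.hom) ≫ (Over.pullback κ).map i₂ := fun y => by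
    rw [Category.assoc, ← hφ, MonObj.comp_mul, MonObj.comp_mul, GrpObj.comp_inv, ← Category.assoc, comp_toUnit]
  refine ⟨fun a => ?_, fun b => ?_⟩
  · have h := congrArg (fromBC κ) (hφ' (toBC κ (ε.hom ≫ a)))
    rw [fromBC_mul, fromBC_mul, fromBC_inv, fromBC_comp, fromBC_comp_map, fromBC_comp_map, fromBC_toBC, hp] at h
    refine ⟨ε.inv ≫ fromBC κ (toBC κ (ε.hom ≫ a) ≫ φ.hom), (cancel_epi ε.hom).1 ?_⟩
    simp only [MonObj.comp_mul, GrpObj.comp_inv, Category.assoc, Iso.hom_inv_id_assoc] at h ⊢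
    exact h
  · have h := congrArg (fromBC κ) (hφ' (toBC κ (ε.hom ≫ b) ≫ φ.inv))
    rw [fromBC_mul, fromBC_mul, fromBC_inv, fromBC_comp, fromBC_comp_map, fromBC_comp_map, Category.assoc,
      Iso.inv_hom_id, Category.comp_id, fromBC_toBC, hp] at h
    refine ⟨ε.inv ≫ fromBC κ (toBC κ (ε.hom ≫ b) ≫ φ.inv), (cancel_epi ε.hom).1 ?_⟩
    simp only [MonObj.comp_mul, GrpObj.comp_inv, Category.assoc, Iso.hom_inv_id_assoc] at h ⊢
    rw [← h]
    group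

end Groth.Agent.MTImage
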