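import Groth.Agent.MTImage.ConjNeutral
import Groth.Agent.Chev.MaxTori
import Groth.Agent.Chev.NonAffTori

/-!
# Cartan subgroups over algebraically closed fields
-/

set_option autoImplicit false
set_option linter.style.haveILetI false
set_option backward.isDefEq.respectTransparency false
set_option maxHeartbeats 1000000
set_option synthInstance.maxHeartbeats 400000

universe u

noncomputable section

open CategoryTheory Limits MonoidalCategory CartesianMonoidalCategory MonObj GrpObj AlgebraicGeometry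
open scoped CategoryTheory.Obj

namespace Groth.Agent.MTImage

open Groth.Agent.MTBridge Groth.Agent.Chev Groth.Agent.Chev.MaxTorusExt

variable {k : Type u} [Field k] [IsAlgClosed k]

local notation "Sk" => Spec (CommRingCat.of k)

/-- Transport of a Cartan subgroup along isomorphisms. -/
theorem isCartanOver_iso {C G C' G' : Over Sk} [GrpObj C] [GrpObj G] [GrpObj C'] [GrpObj G'] (eC : C ≅ C')
    (eG : G ≅ G') [IsMonHom eC.hom] [IsMonHom eG.hom] (c : C ⟶ G) (c' : C' ⟶ G') (hsq : c ≫ eG.hom = eC.hom ≫ c')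
    (h : SGA3x.IsCartanOver k c) : SGA3x.IsCartanOver k c' := by
  obtain ⟨hm, hmono, T, hTg, i, hi, hC⟩ := h
  haveI := hi.1
  have hC' := isCentralizerOf_iso eC eG i c c' hsq hC
  haveI : IsMonHom (Iso.refl T).hom := inferInstanceAs (IsMonHom (𝟙 T))
  exact ⟨hC'.1, hC'.2.1, T, hTg, i ≫ eG.hom, isMaximalTorus_iso (Iso.refl T) eG i _ (by simp) hi.2.2.1 hi, hC'⟩

/-- A Cartan subgroup contains its maximal torus centrally. -/
theorem exists_torus_in_cartan {C G T : Over Sk} [GrpObj C] [GrpObj G] [GrpObj T] (i : T ⟶ G)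
    (hi : Red.IsMaximalTorus i) (c : C ⟶ G) (hC : Red.IsCentralizerOf i c) :
    ∃ t : T ⟶ C, t ≫ c = i ∧ ∀ (X : Over Sk) (a : X ⟶ T) (x : X ⟶ C), (a ≫ t) * x = x * (a ≫ t) := by
  haveI := hi.1; haveI := hC.1; haveI := hC.2.1
  obtain ⟨t, ht⟩ := (hC.2.2 T i).2 fun X x a => by
    rw [← MonObj.mul_comp, ← MonObj.mul_comp, RedR1.mul_comm_torus hi.2.2.1]
  refine ⟨t, ht, fun X a x => ?_⟩
  have h := (hC.2.2 X (x ≫ c)).1 ⟨x, rfl⟩ X (𝟙 X) a
  rw [Category.id_comp] at h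
  rw [← cancel_mono c, MonObj.mul_comp, MonObj.mul_comp, Category.assoc, ht]
  exact h.symm

/-- An inclusion of Cartan subgroups is an isomorphism. -/
theorem isIso_of_cartan_le {C C' G : Over Sk} [GrpObj C] [GrpObj C'] [GrpObj G] [LocallyOfFiniteType G.hom]
    [QuasiCompact G.hom] (c : C ⟶ G) (hc : SGA3x.IsCartanOver k c) (c' : C' ⟶ G)
    (hc' : SGA3x.IsCartanOver k c') (w : C ⟶ C') (hw : w ≫ c' = c) : IsIso w := by
  obtain ⟨hm, hmono, T, hTg, i, hi, hC⟩ := hc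
  obtain ⟨hm', hmono', T', hTg', i', hi', hC'⟩ := hc'
  haveI := hm; haveI := hmono; haveI := hm'; haveI := hmono'; haveI := hi.1; haveI := hi'.1
  obtain ⟨t, ht, -⟩ := exists_torus_in_cartan i hi c hC
  obtain ⟨y, hy⟩ := Borel.exists_factor_maxTorus_of_commute i' (Borel.isMaxTorus_of_isMaximalTorus _ hi') hi.2.2.1 i
    fun X a x => by
      have h := (hC'.2.2 X (x ≫ i)).1 ⟨x ≫ t ≫ w, by rw [Category.assoc, Category.assoc, hw, ht]⟩ X (𝟙 X) a
      rw [Category.id_comp] at h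
      exact h.symm
  obtain ⟨v, hv⟩ := (hC.2.2 C' c').2 fun X x a => by
    have h := (hC'.2.2 C' c').1 ⟨𝟙 _, Category.id_comp _⟩ X x (a ≫ y)
    rwa [Category.assoc, hy] at h
  exact ⟨v, by rw [← cancel_mono c, Category.assoc, hv, hw, Category.id_comp],
    by rw [← cancel_mono c', Category.assoc, hw, hv, Category.id_comp]⟩

/-- Conjugating back. -/
theorem conjBy_symm {H₁ H₂ G : Over Sk} [GrpObj G] (i₁ : H₁ ⟶ G) (i₂ : H₂ ⟶ G) (g : 𝟙_ (Over Sk) ⟶ G)
    (h : SGA3x.ConjBy i₁ i₂ g) : SGA3x.ConjBy i₂ i₁ g⁻¹ := by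
  obtain ⟨φ, hφ⟩ := h
  refine ⟨φ.symm, ?_⟩
  show _ = φ.inv ≫ i₁
  rw [← cancel_epi φ.hom, Iso.hom_inv_id_assoc]
  simp only [MonObj.comp_mul, GrpObj.comp_inv, ← Category.assoc, comp_toUnit]
  rw [← hφ]
  group

/-- A conjugate of a centralizer centralizes the conjugate. -/
theorem exists_conj_centralizer {T T' C C' G : Over Sk} [GrpObj T] [GrpObj T'] [GrpObj C] [GrpObj C'] [GrpObj G]
    (i : T ⟶ G) (c : C ⟶ G) (hC : Red.IsCentralizerOf i c) (i' : T' ⟶ G) (c' : C' ⟶ G)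
    (hC' : Red.IsCentralizerOf i' c') (g : 𝟙_ (Over Sk) ⟶ G) (h : SGA3x.ConjBy i i' g) (X : Over Sk) (y : X ⟶ C) :
    ∃ y' : X ⟶ C', (toUnit X ≫ g) * (y ≫ c) * (toUnit X ≫ g)⁻¹ = y' ≫ c' := by
  obtain ⟨φ, hφ⟩ := h
  obtain ⟨z, hz⟩ := (hC'.2.2 X ((toUnit X ≫ g) * (y ≫ c) * (toUnit X ≫ g)⁻¹)).2 fun X' x a => by
    have h1 := (hC.2.2 X (y ≫ c)).1 ⟨y, rfl⟩ X' x (a ≫ φ.inv)
    have h2 := congrArg (fun m => (a ≫ φ.inv) ≫ m) hφ
    simp only [MonObj.comp_mul, GrpObj.comp_inv, Category.assoc, Iso.inv_hom_id_assoc] at h1 h2 ⊢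
    simp only [← Category.assoc, comp_toUnit] at h1 h2 ⊢
    rw [← h2]
    calc _ = (toUnit X' ≫ g) * (((x ≫ y) ≫ c) * ((a ≫ φ.inv) ≫ i)) * (toUnit X' ≫ g)⁻¹ := by group
      _ = _ := by rw [h1]; group
  exact ⟨z, hz.symm⟩

/-- Cartan subgroups are conjugate. -/
theorem exists_conj_cartan {C C' G : Over Sk} [GrpObj C] [GrpObj C'] [GrpObj G] [Smooth G.hom] [QuasiCompact G.hom]
    (c : C ⟶ G) (hc : SGA3x.IsCartanOver k c) (c' : C' ⟶ G) (hc' : SGA3x.IsCartanOver k c') :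
    ∃ g : 𝟙_ (Over Sk) ⟶ G, SGA3x.ConjBy c c' g := by
  obtain ⟨hm, hmono, T, hTg, i, hi, hC⟩ := hc
  obtain ⟨hm', hmono', T', hTg', i', hi', hC'⟩ := hc'
  haveI := hmono; haveI := hmono'
  obtain ⟨g, hg⟩ := exists_conjBy_maxTori i (Borel.isMaxTorus_of_isMaximalTorus _ hi) i'
    (Borel.isMaxTorus_of_isMaximalTorus _ hi')
  refine ⟨g, conjBy_of_transporter c c' g (exists_conj_centralizer i c hC i' c' hC' g hg) fun X y => ?_⟩
  obtain ⟨z, hz⟩ := exists_conj_centralizer i' c' hC' i c hC g⁻¹ (conjBy_symm _ _ _ hg) X y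
  refine ⟨z, ?_⟩
  rw [← hz, GrpObj.comp_inv, _root_.inv_inv]

/-- A maximal torus of `G` in a subgroup is maximal in it. -/
theorem isMaxTorus_of_comp {R H G : Over Sk} [GrpObj R] [GrpObj H] [GrpObj G] (r : R ⟶ H) [IsMonHom r]
    (j : H ⟶ G) [IsMonHom j] [Mono j] (h : AGF.IsMaxTorus (r ≫ j)) : AGF.IsMaxTorus r := by
  haveI := h.2.1
  exact ⟨inferInstance, mono_of_mono r j, h.2.2.1,
    fun T' _ t _ _ f hT' hf => h.2.2.2 T' (t ≫ j) f hT' (by rw [← Category.assoc, hf])⟩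

/-- In a subgroup containing a Cartan subgroup, centralizers of maximal tori of the group stay inside. -/
theorem exists_factor_of_commute {H G R C' : Over Sk} [GrpObj H] [GrpObj G] [GrpObj R] [GrpObj C']
    [Smooth H.hom] [QuasiCompact H.hom] (j : H ⟶ G) [IsMonHom j] [Mono j] (c' : C' ⟶ H)
    (hc' : SGA3x.IsCartanOver k (c' ≫ j)) (r : R ⟶ H) [IsMonHom r] (hr : AGF.IsMaxTorus (r ≫ j)) (X : Over Sk)
    (u : X ⟶ G) (hu : ∀ (X' : Over Sk) (x : X' ⟶ X) (a : X' ⟶ R),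
      (x ≫ u) * (a ≫ r ≫ j) = (a ≫ r ≫ j) * (x ≫ u)) : ∃ f : X ⟶ H, f ≫ j = u := by
  obtain ⟨hm, hmono, T', hTg', i', hi', hC'⟩ := hc'
  haveI := hi'.1; haveI := hm
  obtain ⟨t, ht, -⟩ := exists_torus_in_cartan i' hi' _ hC'
  have ht' : (t ≫ c') ≫ j = i' := by rw [Category.assoc]; exact ht
  haveI : IsMonHom (t ≫ c') := MTSplit.isMonHom_of_comp_mono _ j i' ht'
  obtain ⟨h, φ, hφ⟩ := exists_conjBy_maxTori r (isMaxTorus_of_comp r j hr) (t ≫ c')
    (isMaxTorus_of_comp (t ≫ c') j (by rw [ht']; exact Borel.isMaxTorus_of_isMaximalTorus _ hi'))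
  obtain ⟨z, hz⟩ := (hC'.2.2 X ((toUnit X ≫ h ≫ j) * u * (toUnit X ≫ h ≫ j)⁻¹)).2 fun X' x a => by
    have h1 := hu X' x (a ≫ φ.inv)
    have h2 := congrArg (fun m => (a ≫ φ.inv) ≫ m ≫ j) hφ
    simp only [MonObj.comp_mul, GrpObj.comp_inv, MonObj.mul_comp, GrpObj.inv_comp, Category.assoc,
      Iso.inv_hom_id_assoc] at h1 h2 ⊢
    rw [ht] at h2
    simp only [← Category.assoc, comp_toUnit] at h1 h2 ⊢
    rw [← h2]
    calc _ = ((toUnit X' ≫ h) ≫ j) * ((x ≫ u) * (((a ≫ φ.inv) ≫ r) ≫ j)) * ((toUnit X' ≫ h) ≫ j)⁻¹ := by group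
      _ = _ := by rw [h1]; group
  refine ⟨(toUnit X ≫ h)⁻¹ * (z ≫ c') * (toUnit X ≫ h), ?_⟩
  simp only [MonObj.mul_comp, GrpObj.inv_comp, Category.assoc, hz]
  group

/-- Every smooth connected algebraic group has a maximal torus. -/
theorem exists_maxTorus_general (G : Over Sk) [GrpObj G] [Smooth G.hom] [QuasiCompact G.hom] [ConnectedSpace G.left] :
    ∃ (T : Over Sk) (_ : GrpObj T) (i : T ⟶ G), Red.IsMaximalTorus i := by
  obtain ⟨L, D, Q, hL, hD, hQ, l, d, q, R⟩ := Borel.exists_affReduction G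
  haveI := R.l_hom; haveI := R.l_closed; haveI := R.l_affine; haveI := R.l_smooth; haveI := R.l_connected
  haveI : Mono l := GrpField.SchImg.mono_of_isClosedImmersion l
  obtain ⟨T, B, hT, hB, t, b, htm, -, hb, hmax, -⟩ := Borel.exists_maxTorus L
  haveI := hmax.1; haveI := hmax.2.1
  refine ⟨T, hT, (t ≫ b) ≫ l, Borel.isMaximalTorus_of_isMaxTorus _
    ⟨inferInstance, inferInstance, hmax.2.2.1, fun T' _ j _ _ f hT' hf => ?_⟩⟩
  obtain ⟨t', ht', htm', htmono'⟩ := Borel.exists_factor_torus R j hT'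
  haveI := htm'; haveI := htmono'
  exact hmax.2.2.2 T' t' f hT' (by rw [← cancel_mono l, Category.assoc, ht', hf])

/-- Every smooth connected algebraic group has a Cartan subgroup. -/
theorem exists_cartanOver (G : Over Sk) [GrpObj G] [Smooth G.hom] [IsSeparated G.hom] [QuasiCompact G.hom]
    [ConnectedSpace G.left] :
    ∃ (T : Over Sk) (_ : GrpObj T) (i : T ⟶ G) (C : Over Sk) (_ : GrpObj C) (c : C ⟶ G),
      Red.IsMaximalTorus i ∧ Red.IsCentralizerOf i c ∧ Smooth C.hom ∧ ConnectedSpace C.left ∧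
        IsClosedImmersion c.left ∧ SGA3x.IsCartanOver k c := by
  obtain ⟨T, hT, i, hi⟩ := exists_maxTorus_general G
  haveI := hi.1; haveI := hi.2.1
  obtain ⟨C, hCg, c, hC, hcc, -, -⟩ := Groth.Agent.S4118.result _ G T i hi
  obtain ⟨hCs, hCc⟩ := Groth.Agent.S8407.result _ _ T i hi.2.2.1 _ _ hC
  exact ⟨T, hT, i, C, hCg, c, hi, hC, hCs, hCc, hcc, hC.1, hC.2.1, T, hT, i, hi, hC⟩

/-- Cartan subgroups of a subgroup containing a Cartan subgroup are the Cartan subgroups inside it. -/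
theorem isCartanOver_comp_iff {C H G C' : Over Sk} [GrpObj C] [GrpObj H] [GrpObj G] [GrpObj C'] [Smooth G.hom]
    [QuasiCompact G.hom] [Smooth H.hom] [QuasiCompact H.hom] (c : C ⟶ H) (j : H ⟶ G) [IsMonHom j] [Mono j]
    (c' : C' ⟶ H) (hc' : SGA3x.IsCartanOver k (c' ≫ j)) :
    SGA3x.IsCartanOver k c ↔ SGA3x.IsCartanOver k (c ≫ j) := by
  constructor
  · rintro ⟨hm, hmono, T, hTg, i, hi, hC⟩
    haveI := hm; haveI := hmono; haveI := hi.1; haveI := hi.2.1
    obtain ⟨hm', hmono', T', hTg', i', hi', hC'⟩ := id hc'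
    haveI := hi'.1; haveI := hi'.2.1; haveI := hm'
    obtain ⟨t, ht, -⟩ := exists_torus_in_cartan i' hi' _ hC'
    have ht' : (t ≫ c') ≫ j = i' := by rw [Category.assoc]; exact ht
    haveI : IsMonHom (t ≫ c') := MTSplit.isMonHom_of_comp_mono _ j i' ht'
    obtain ⟨h, φ, hφ⟩ := exists_conjBy_maxTori (t ≫ c')
      (isMaxTorus_of_comp (t ≫ c') j (by rw [ht']; exact Borel.isMaxTorus_of_isMaximalTorus _ hi')) i
      (Borel.isMaxTorus_of_isMaximalTorus _ hi)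
    have hsq : i' ≫ (inn (h ≫ j)).hom = φ.hom ≫ i ≫ j := by
      rw [comp_inn, ← ht', ← Category.assoc φ.hom, ← hφ]
      simp only [MonObj.mul_comp, GrpObj.inv_comp, Category.assoc]
    haveI : Mono (i ≫ j) := mono_comp _ _
    haveI : Mono (t ≫ c') := by
      haveI : Mono ((t ≫ c') ≫ j) := by rw [ht']; infer_instance
      exact mono_of_mono _ j
    haveI := MTBridge.isMonHom_conj (t ≫ c') h
    haveI : IsMonHom φ.hom := MTSplit.isMonHom_of_comp_mono φ.hom i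
      ((toUnit _ ≫ h) * (t ≫ c') * (toUnit _ ≫ h)⁻¹) hφ.symm
    have hmax : Red.IsMaximalTorus (i ≫ j) := isMaximalTorus_iso φ (inn (h ≫ j)) i' _ hsq hi.2.2.1 hi'
    refine ⟨inferInstance, mono_comp _ _, T, hTg, i ≫ j, hmax, inferInstance, mono_comp _ _, fun X g => ⟨?_, ?_⟩⟩
    · rintro ⟨z, rfl⟩ X' x a
      have h1 := (hC.2.2 X (z ≫ c)).1 ⟨z, rfl⟩ X' x a
      have h2 := congrArg (fun m => m ≫ j) h1
      simpa only [MonObj.mul_comp, Category.assoc] using h2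
    · intro hg
      obtain ⟨f, hf⟩ := exists_factor_of_commute j c' hc' i (Borel.isMaxTorus_of_isMaximalTorus _ hmax) X g hg
      obtain ⟨z, hz⟩ := (hC.2.2 X f).2 fun X' x a => by
        rw [← cancel_mono j, MonObj.mul_comp, MonObj.mul_comp, Category.assoc, Category.assoc, hf]
        exact hg X' x a
      exact ⟨z, by rw [reassoc_of% hz, hf]⟩
  · rintro ⟨hm, hmono, T, hTg, i, hi, hC⟩
    haveI := hi.1; haveI := hi.2.1; haveI := hm; haveI := hmono
    haveI : IsMonHom c := MTSplit.isMonHom_of_comp_mono c j _ rfl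
    haveI : Mono c := mono_of_mono c j
    obtain ⟨t, ht, -⟩ := exists_torus_in_cartan i hi _ hC
    have ht' : (t ≫ c) ≫ j = i := by rw [Category.assoc]; exact ht
    haveI : IsMonHom (t ≫ c) := MTSplit.isMonHom_of_comp_mono _ j i ht'
    refine ⟨inferInstance, inferInstance, T, hTg, t ≫ c, Borel.isMaximalTorus_of_isMaxTorus _
      (isMaxTorus_of_comp (t ≫ c) j (by rw [ht']; exact Borel.isMaxTorus_of_isMaximalTorus _ hi)),
      inferInstance, inferInstance, fun X g => ⟨?_, ?_⟩⟩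
    · rintro ⟨z, rfl⟩ X' x a
      rw [← cancel_mono j]
      have h1 := (hC.2.2 X (z ≫ c ≫ j)).1 ⟨z, rfl⟩ X' x a
      simpa only [MonObj.mul_comp, Category.assoc, ht] using h1
    · intro hg
      obtain ⟨z, hz⟩ := (hC.2.2 X (g ≫ j)).2 fun X' x a => by
        have h1 := congrArg (fun m => m ≫ j) (hg X' x a)
        simpa only [MonObj.mul_comp, Category.assoc, ht] using h1
      exact ⟨z, by rw [← cancel_mono j, Category.assoc, hz]⟩

end Groth.Agent.MTImage
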