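import Groth.Agent.MTImage.ToriConj
import Groth.Agent.MTBridge.NilHomBC

/-!
# Transporters of tori into smooth subgroups
-/

set_option autoImplicit false
set_option linter.style.haveILetI false
set_option backward.isDefEq.respectTransparency false
set_option maxHeartbeats 1000000
set_option synthInstance.maxHeartbeats 400000

universe u

noncomputable section

open CategoryTheory Limits MonoidalCategory CartesianMonoidalCategory AlgebraicGeometry
open scoped CategoryTheory.Obj MonObj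

namespace Groth.Agent.MTImage

open Groth.Agent.MTBridge

variable {S : Scheme.{u}}

/-- Transporters into smooth subgroups lift, affine base. -/
theorem exists_incl_lift_smooth {R : Type u} [CommRing R] (J : Ideal R) (hJ : IsNilpotent J)
    (G K H : Over (Spec (CommRingCat.of R))) [GrpObj G] [GrpObj K] [GrpObj H] (hG : Smooth G.hom)
    (k : K ⟶ G) [IsMonHom k] [Mono k]
    (hKs : Smooth K.hom)
    (hH : TwC.Locally (Spec (CommRingCat.of R)) TwC.Topology.fpqc (fun S' f => ∃ (M : Type) (_ : AddCommGroup M), Nonempty (Grp.mk (Red.bc f H) ≅ Grp.mk (Red.DS S' M))))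
    (u : H ⟶ G) [IsMonHom u] (g₀ : (Over.mk (Spec.map (CommRingCat.ofHom (Ideal.Quotient.mk J))) : Over (Spec (CommRingCat.of R))) ⟶ G)
    (h0 : ∀ (X : Over (Spec (CommRingCat.of R))) (p : X ⟶ (Over.mk (Spec.map (CommRingCat.ofHom (Ideal.Quotient.mk J))) : Over (Spec (CommRingCat.of R)))) (h : X ⟶ H),
      ∃ x : X ⟶ K, (p ≫ g₀) * (h ≫ u) * (p ≫ g₀)⁻¹ = x ≫ k) :
    ∃ g : 𝟙_ (Over (Spec (CommRingCat.of R))) ⟶ G, toUnit (Over.mk (Spec.map (CommRingCat.ofHom (Ideal.Quotient.mk J))) : Over (Spec (CommRingCat.of R))) ≫ g = g₀ ∧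
      ∀ (X : Over (Spec (CommRingCat.of R))) (h : X ⟶ H), ∃ x : X ⟶ K, (toUnit X ≫ g) * (h ≫ u) * (toUnit X ≫ g)⁻¹ = x ≫ k := by
  let q := Spec.map (CommRingCat.ofHom (Ideal.Quotient.mk J))
  haveI : IsMonHom (1 : H ⟶ G) :=
    { one_hom := by rw [MonObj.comp_one, Hom.one_def, toUnit_unique (toUnit (𝟙_ _)) (𝟙 _), Category.id_comp]
      mul_hom := by
        rw [MonObj.comp_one, ← lift_fst_comp_snd_comp, ← Hom.mul_def, MonObj.comp_one, MonObj.comp_one, _root_.mul_one] }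
  obtain ⟨g₁, hg₁, -⟩ := Groth.Agent.MTBridge.exists_conj_nil hJ hH hG 1 1 g₀ (fun X p h => by simp)
  let u₁ : H ⟶ G := (toUnit H ≫ g₁) * u * (toUnit H ≫ g₁)⁻¹
  haveI : IsMonHom u₁ := Groth.Agent.MTBridge.isMonHom_conj u g₁
  have hu₁ : ∀ {X : Over (Spec (CommRingCat.of R))} (h : X ⟶ H),
      h ≫ u₁ = (toUnit X ≫ g₁) * (h ≫ u) * (toUnit X ≫ g₁)⁻¹ := fun h => by
    simp only [u₁, MonObj.comp_mul, GrpObj.comp_inv]
    rw [← Category.assoc, comp_toUnit]
  obtain ⟨ψ, hψ⟩ : ∃ ψ : Red.bc q H ⟶ Red.bc q K, ψ ≫ (Over.pullback q).map k = (Over.pullback q).map u₁ := by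
    let h := Groth.Agent.MTBridge.fromBC q (𝟙 (Red.bc q H))
    obtain ⟨x, hx⟩ := h0 _ (Groth.Agent.MTBridge.mapToMk q _) h
    refine ⟨Groth.Agent.MTBridge.toBC q x, ?_⟩
    have hp : Groth.Agent.MTBridge.mapToMk q (Red.bc q H) ≫ g₀ = toUnit _ ≫ g₁ := by
      rw [← hg₁, ← Category.assoc, comp_toUnit]
    rw [← Groth.Agent.MTBridge.toBC_comp, ← hx, hp, ← hu₁, Groth.Agent.MTBridge.toBC_comp,
      Groth.Agent.MTBridge.toBC_fromBC, Category.id_comp]
  obtain ⟨w, hw, hw0⟩ : ∃ w : H ⟶ K, IsMonHom w ∧ ∀ (Y : Over (Spec (CommRingCat.of R))) (_ : Y ⟶ Over.mk q)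
      (h : Y ⟶ H), h ≫ w ≫ k = h ≫ u₁ := by
    haveI : Mono ((Over.pullback q).map k) := inferInstance
    haveI : IsMonHom ((Over.pullback q).map k) := inferInstance
    haveI : IsMonHom ((Over.pullback q).map u₁) := inferInstance
    haveI : IsMonHom ψ :=
      { one_hom := by
          refine (cancel_mono ((Over.pullback q).map k)).1 ?_
          rw [Category.assoc, hψ, IsMonHom.one_hom, IsMonHom.one_hom]
        mul_hom := by
          refine (cancel_mono ((Over.pullback q).map k)).1 ?_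
          rw [Category.assoc, hψ, IsMonHom.mul_hom, Category.assoc, IsMonHom.mul_hom, ← Category.assoc,
            MonoidalCategory.tensorHom_comp_tensorHom, hψ] }
    obtain ⟨w, hw, hwb⟩ := Groth.Agent.MTBridge.exists_hom_lift_bc hJ hH hKs ψ
    refine ⟨w, hw, fun Y p h => ?_⟩
    refine (cancel_epi (Groth.Agent.MTBridge.mapIso' p).hom).1 ?_
    refine ((Over.mapPullbackAdj q).homEquiv _ G).injective ?_
    show Groth.Agent.MTBridge.toBC q _ = Groth.Agent.MTBridge.toBC q _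
    rw [← Category.assoc, ← Category.assoc, Groth.Agent.MTBridge.toBC_comp, Groth.Agent.MTBridge.toBC_comp,
      Category.assoc, hwb, hψ, ← Category.assoc, ← Groth.Agent.MTBridge.toBC_comp]
  haveI : IsMonHom (w ≫ k) := inferInstance
  obtain ⟨g₂, hg₂, hg⟩ := Groth.Agent.MTBridge.exists_conj_nil hJ hH hG u₁ (w ≫ k) 1
    (fun X p h => by rw [MonObj.comp_one, _root_.one_mul, inv_one, _root_.mul_one, hw0 X p h])
  refine ⟨g₂ * g₁, by rw [MonObj.comp_mul, hg₂, hg₁, _root_.one_mul], fun X h => ⟨h ≫ w, ?_⟩⟩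
  rw [Category.assoc, hg X h, hu₁, MonObj.comp_mul]
  group


/-- Transporters into smooth subgroups lift. -/
theorem exists_transporter_into_lift {H H' G : Over S} [GrpObj H] [GrpObj H'] [GrpObj G]
    (hH : TwC.Locally S TwC.Topology.fpqc (fun S' f => ∃ (M : Type) (_ : AddCommGroup M), Nonempty (Grp.mk (Red.bc f H) ≅ Grp.mk (Red.DS S' M))))
    (hH' : Smooth H'.hom)
    (hG : Smooth G.hom) (i : H ⟶ G) [IsMonHom i] (i' : H' ⟶ G) [IsMonHom i'] [Mono i']
    (A : Type u) [CommRing A] (I : Ideal A) (hI : I ^ 2 = ⊥) (b : Spec (CommRingCat.of A) ⟶ S)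
    (g₀ : (Over.map b).obj (Over.mk (qJ I)) ⟶ G)
    (h0 : ∀ (X' : Over S) (x : X' ⟶ (Over.map b).obj (Over.mk (qJ I))) (h : X' ⟶ H),
      ∃ h' : X' ⟶ H', (x ≫ g₀) * (h ≫ i) * (x ≫ g₀)⁻¹ = h' ≫ i') :
    ∃ g : (Over.map b).obj (𝟙_ (Over (Spec (CommRingCat.of A)))) ⟶ G,
      (Over.map b).map (toUnit _) ≫ g = g₀ ∧
      ∀ (X' : Over S) (x : X' ⟶ (Over.map b).obj (𝟙_ (Over (Spec (CommRingCat.of A))))) (h : X' ⟶ H),
        ∃ h' : X' ⟶ H', (x ≫ g) * (h ≫ i) * (x ≫ g)⁻¹ = h' ≫ i' := by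
  obtain ⟨k, hk, hconj⟩ := exists_incl_lift_smooth I ⟨2, hI⟩ (Red.bc b G) (Red.bc b H') (Red.bc b H)
    (MorphismProperty.pullback_snd _ _ hG) ((Over.pullback b).map i') (MorphismProperty.pullback_snd _ _ hH')
    (locally_bc H b hH) ((Over.pullback b).map i) (toBC b g₀) (fun X p h => by
      obtain ⟨h', hh'⟩ := h0 _ ((Over.map b).map p) (fromBC b h)
      refine ⟨toBC b h', ?_⟩
      apply ((Over.mapPullbackAdj b).homEquiv X G).symm.injective
      show fromBC b _ = fromBC b _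
      rw [fromBC_comp_map, fromBC_toBC, fromBC_mul, fromBC_mul, fromBC_inv, fromBC_comp_map, fromBC_comp, fromBC_toBC]
      exact hh')
  refine ⟨fromBC b k, ?_, fun X' x h => ?_⟩
  · rw [← fromBC_comp, hk, fromBC_toBC]
  · let ε : (Over.map b).obj (Over.mk x.left) ≅ X' := Over.isoMk (Iso.refl _) (by simpa using (Over.w x).symm)
    obtain ⟨h', hh'⟩ := hconj (Over.mk x.left) (toBC b (ε.hom ≫ h))
    have h1 := congrArg (fromBC b) hh'
    rw [fromBC_comp_map, fromBC_mul, fromBC_mul, fromBC_inv, fromBC_comp_map, fromBC_toBC,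
      fromBC_comp] at h1
    have h2 : (Over.map b).map (toUnit (Over.mk x.left)) = ε.hom ≫ x := by
      apply Over.OverMorphism.ext
      simp [ε]
    rw [h2] at h1
    refine ⟨ε.inv ≫ fromBC b h', (cancel_epi ε.hom).1 ?_⟩
    simp only [MonObj.comp_mul, GrpObj.comp_inv, Category.assoc, Iso.hom_inv_id_assoc] at h1 ⊢
    exact h1

/-- **The transporter of a torus into a smooth subgroup is closed and smooth.** -/
theorem exists_transporter_into (H K G : Over S) [GrpObj H] [GrpObj K] [GrpObj G] (hH : Red.IsTorus H)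
    [Smooth G.hom] [IsSeparated G.hom] [Smooth K.hom] [QuasiCompact K.hom] (i : H ⟶ G) [IsMonHom i] [Mono i]
    (j : K ⟶ G) [IsMonHom j] [Mono j] :
    ∃ (C : Over S) (c : C ⟶ G), IsClosedImmersion c.left ∧ Smooth C.hom ∧ ∀ (X : Over S) (g : X ⟶ G),
      (∃ z : X ⟶ C, z ≫ c = g) ↔ ∀ (X' : Over S) (x : X' ⟶ X) (h : X' ⟶ H),
        ∃ κ : X' ⟶ K, (x ≫ g) * (h ≫ i) * (x ≫ g)⁻¹ = κ ≫ j := by
  have hm := isMultTypeFT_of_isTorus H hH
  haveI := isAffineHom H hm
  haveI := smooth_torus hH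
  haveI : Mono j.left := inferInstance
  haveI : IsSeparated j.left := inferInstance
  haveI : LocallyOfFinitePresentation (j.left ≫ G.hom) := by rw [Over.w j]; infer_instance
  haveI : LocallyOfFinitePresentation j.left := LimDesc.lfp_of_comp j.left G.hom
  haveI : QuasiCompact (j.left ≫ G.hom) := by rw [Over.w j]; infer_instance
  haveI : QuasiCompact j.left := QuasiCompact.of_comp j.left G.hom
  obtain ⟨C, c, hc, hf, hC⟩ := Groth.Agent.S6067.result G H K (connected_fibre_torus hH) i j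
  haveI := hc
  haveI := hf
  refine ⟨C, c, hc, smooth_of_lift c fun A _ I hI b g₀ h0 => ?_, hC⟩
  obtain ⟨g, hg, hg'⟩ := exists_transporter_into_lift (locally_of_isMultTypeFT' H hm) ‹Smooth K.hom›
    ‹Smooth G.hom› i j A I hI b g₀ ((hC _ _).1 h0)
  exact ⟨g, hg, (hC _ _).2 hg'⟩

end Groth.Agent.MTImage
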