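import Groth.Agent.MTImage.CartanGeom
import Groth.Agent.MTImage.TransporterInto
import Groth.Agent.S4098
import Groth.Agent.S4118
import Groth.Agent.S8433
import Groth.Agent.FibCrit.Props

/-!
# A Cartan subgroup is the centralizer of a maximal torus
-/

set_option autoImplicit false
set_option linter.style.haveILetI false
set_option backward.isDefEq.respectTransparency false
set_option maxHeartbeats 1000000
set_option synthInstance.maxHeartbeats 400000

universe u

noncomputable section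

open CategoryTheory Limits MonoidalCategory CartesianMonoidalCategory MonObj GrpObj AlgebraicGeometry
open scoped CategoryTheory.Obj

namespace Groth.Agent.MTImage

open Groth.Agent.MTBridge

variable {S U : Scheme.{u}}

/-- Transport of a maximal torus along isomorphisms. -/
theorem isMaximalTorus_iso {T T' G G' : Over S} [GrpObj T] [GrpObj T'] [GrpObj G] [GrpObj G'] (a : T ≅ T')
    (b : G ≅ G') [IsMonHom a.hom] [IsMonHom b.hom] (i : T ⟶ G) (i' : T' ⟶ G') (hsq : i ≫ b.hom = a.hom ≫ i')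
    (hT' : Red.IsTorus T') (h : Red.IsMaximalTorus i) : Red.IsMaximalTorus i' := by
  haveI := h.1; haveI := h.2.1
  haveI : IsMonHom a.inv := inferInstance
  have hi' : i' = a.inv ≫ i ≫ b.hom := by rw [hsq, Iso.inv_hom_id_assoc]
  haveI : IsMonHom i' := by rw [hi']; infer_instance
  haveI : Mono i' := by rw [hi']; exact mono_comp _ _
  refine ⟨inferInstance, inferInstance, hT', fun s => ?_⟩
  let F := Over.pullback (Red.geomPt s)
  haveI : PreservesLimitsOfShape WalkingCospan F :=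
    (Adjunction.rightAdjoint_preservesLimits (Over.mapPullbackAdj (Red.geomPt s))).preservesLimitsOfShape
  haveI : IsMonHom (F.mapIso a).hom := inferInstanceAs (IsMonHom (F.map a.hom))
  haveI : IsMonHom (F.mapIso b).hom := inferInstanceAs (IsMonHom (F.map b.hom))
  have h1 : AGF.IsMaxTorus (F.map i) :=
    ⟨inferInstance, inferInstance, Chev.Borel.isTorus_bc_scheme T (Red.geomPt s) h.2.2.1, h.2.2.2 s⟩
  exact (Chev.MaxTorusBC.isMaxTorus_of_iso (F.mapIso a) (F.mapIso b) (F.map i) (F.map i')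
    (show F.map i ≫ F.map b.hom = F.map a.hom ≫ F.map i' by rw [← F.map_comp, hsq, F.map_comp])
    (Chev.Borel.isTorus_bc_scheme T' (Red.geomPt s) hT') h1).2.2.2

/-- Conjugation by a section. -/
def inn {G : Over S} [GrpObj G] (g : 𝟙_ (Over S) ⟶ G) : G ≅ G where
  hom := (toUnit G ≫ g) * 𝟙 G * (toUnit G ≫ g)⁻¹
  inv := (toUnit G ≫ g)⁻¹ * 𝟙 G * (toUnit G ≫ g)
  hom_inv_id := by
    simp only [MonObj.comp_mul, GrpObj.comp_inv, ← Category.assoc, comp_toUnit, Category.comp_id]
    group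
  inv_hom_id := by
    simp only [MonObj.comp_mul, GrpObj.comp_inv, ← Category.assoc, comp_toUnit, Category.comp_id]
    group

theorem comp_inn {G X : Over S} [GrpObj G] (g : 𝟙_ (Over S) ⟶ G) (x : X ⟶ G) :
    x ≫ (inn g).hom = (toUnit X ≫ g) * x * (toUnit X ≫ g)⁻¹ := by
  show x ≫ ((toUnit G ≫ g) * 𝟙 G * (toUnit G ≫ g)⁻¹) = _
  simp only [MonObj.comp_mul, GrpObj.comp_inv, ← Category.assoc, comp_toUnit, Category.comp_id]

instance isMonHom_inn {G : Over S} [GrpObj G] (g : 𝟙_ (Over S) ⟶ G) : IsMonHom (inn g).hom :=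
  isMonHom_conj (𝟙 G) g

/-- A torus which is maximal in a larger group is maximal. -/
theorem isMaximalTorus_of_comp {T C G : Over S} [GrpObj T] [GrpObj C] [GrpObj G] (t : T ⟶ C) [IsMonHom t] [Mono t]
    (c : C ⟶ G) [IsMonHom c] [Mono c] (h : Red.IsMaximalTorus (t ≫ c)) : Red.IsMaximalTorus t :=
  ⟨inferInstance, inferInstance, h.2.2.1, fun s T' _ j _ _ f hT' hf => by
    haveI : PreservesLimitsOfShape WalkingCospan (Over.pullback (Red.geomPt s)) :=
      (Adjunction.rightAdjoint_preservesLimits (Over.mapPullbackAdj (Red.geomPt s))).preservesLimitsOfShape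
    exact h.2.2.2 s T' (j ≫ (Over.pullback (Red.geomPt s)).map c) f hT' (by
      rw [← Category.assoc, hf, ← Functor.map_comp])⟩

/-- A base change square. -/
theorem isPullback_map {A B : Over S} (f : A ⟶ B) (g : U ⟶ S) :
    IsPullback (pullback.fst A.hom g) ((Over.pullback g).map f).left f.left (pullback.fst B.hom g) := by
  refine IsPullback.of_bot ?_ ?_ (IsPullback.of_hasPullback B.hom g)
  · rw [show ((Over.pullback g).map f).left ≫ pullback.snd B.hom g = pullback.snd A.hom g from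
      Over.w ((Over.pullback g).map f), Over.w f]
    exact IsPullback.of_hasPullback A.hom g
  · simp only [Over.pullback_map_left]; exact (pullback.lift_fst _ _ _).symm

/-- Etale locally a maximal torus can be moved into a subgroup containing maximal tori on geometric fibres. -/
theorem exists_torus_etale {T C C₀ G : Over S} [GrpObj T] [GrpObj C] [GrpObj C₀] [GrpObj G] [Smooth G.hom]
    [IsSeparated G.hom] [QuasiCompact G.hom] [Smooth C.hom] [Smooth C₀.hom] [QuasiCompact C₀.hom]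
    (c : C ⟶ G) [IsMonHom c] [Mono c] (hc : HasGeomTorus c) (c₀ : C₀ ⟶ C) [IsMonHom c₀] [IsOpenImmersion c₀.left]
    (i : T ⟶ G) (hi : Red.IsMaximalTorus i) :
    ∃ (V : Scheme.{u}) (f : V ⟶ S), Etale f ∧ Surjective f ∧
      ∃ t : Red.bc f T ⟶ Red.bc f C₀, Red.IsMaximalTorus t ∧
        ∀ (X : Over V) (a : X ⟶ Red.bc f T) (x : X ⟶ Red.bc f C₀), (a ≫ t) * x = x * (a ≫ t) := by
  haveI := hi.1; haveI := hi.2.1
  haveI : Mono c₀.left := inferInstance
  haveI : Mono c₀ := Over.mono_of_mono_left c₀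
  haveI : Mono (c₀ ≫ c) := mono_comp _ _
  obtain ⟨X₀, j₀, hj₀, hsm, hX₀⟩ := exists_transporter_into T C₀ G hi.2.2.1 i (c₀ ≫ c)
  haveI := hsm
  have hpt : ∀ s : S, ∃ (S' : Scheme.{u}) (e : S' ⟶ S), Etale e ∧ s ∈ Set.range e.base ∧
      Nonempty ((Over.map e).obj (𝟙_ (Over S')) ⟶ X₀) := fun s => by
    let ψ := Red.geomPt s
    obtain ⟨R, hRg, r, hrm, hrmax, hrc⟩ := hc _ ψ
    haveI := hrm
    haveI : Smooth (Red.bc ψ G).hom := inferInstanceAs (Smooth (pullback.snd G.hom ψ))
    haveI : QuasiCompact (Red.bc ψ G).hom := inferInstanceAs (QuasiCompact (pullback.snd G.hom ψ))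
    haveI : LocallyOfFiniteType (Red.bc ψ C).hom := inferInstanceAs (LocallyOfFiniteType (pullback.snd C.hom ψ))
    haveI : IsOpenImmersion ((Over.pullback ψ).map c₀).left :=
      MorphismProperty.of_isPullback (P := @IsOpenImmersion) (isPullback_map c₀ ψ) ‹IsOpenImmersion c₀.left›
    obtain ⟨r₀, hr₀⟩ := exists_factor_open hrmax.2.2.1 r ((Over.pullback ψ).map c₀)
    obtain ⟨g', φ, hφ⟩ := exists_conjBy_maxTori _ (Chev.MaxTorusBC.isMaxTorus_pt i hi ψ) _ hrmax
    have hφ' : ∀ {Y : Over _} (y : Y ⟶ Red.bc ψ T),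
        (toUnit _ ≫ g') * (y ≫ (Over.pullback ψ).map i) * (toUnit _ ≫ g')⁻¹ =
          (y ≫ φ.hom ≫ r₀) ≫ (Over.pullback ψ).map (c₀ ≫ c) := fun {Y} y => by
      rw [Functor.map_comp, Category.assoc, Category.assoc, reassoc_of% hr₀, ← hφ, MonObj.comp_mul,
        MonObj.comp_mul, GrpObj.comp_inv, ← Category.assoc, comp_toUnit]
    let e : Over.mk ψ ≅ (Over.map ψ).obj (𝟙_ _) := Over.isoMk (Iso.refl _) (by simp)
    obtain ⟨z, -⟩ := (hX₀ _ (e.hom ≫ fromBC ψ g')).2 fun X p a => by
      let ε : (Over.map ψ).obj (Over.mk p.left) ≅ X := Over.isoMk (Iso.refl _) (by simpa using (Over.w p).symm)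
      have hp : (Over.map ψ).map (toUnit (Over.mk p.left)) = ε.hom ≫ p ≫ e.hom := by
        apply Over.OverMorphism.ext
        simp [ε, e]
      have h := congrArg (fromBC ψ) (hφ' (toBC ψ (ε.hom ≫ a)))
      rw [fromBC_mul, fromBC_mul, fromBC_inv, fromBC_comp, fromBC_comp_map, fromBC_comp_map, fromBC_toBC, hp] at h
      refine ⟨ε.inv ≫ fromBC ψ (toBC ψ (ε.hom ≫ a) ≫ φ.hom ≫ r₀), (cancel_epi ε.hom).1 ?_⟩
      simp only [MonObj.comp_mul, GrpObj.comp_inv, Category.assoc, Iso.hom_inv_id_assoc] at h ⊢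
      exact h
    exact exists_etale_point s z
  choose P e he hmem hσ using hpt
  haveI := he
  let f : (∐ P) ⟶ S := Sigma.desc e
  have hf : Etale f := IsZariskiLocalAtSource.sigmaDesc (P := @Etale) he
  have hfs : Surjective f := ⟨fun s => by
    obtain ⟨x, hx⟩ := hmem s
    exact ⟨(Sigma.ι P s).base x, by
      rw [← Scheme.Hom.comp_apply, Sigma.ι_desc]
      exact hx⟩⟩
  let σ : (Over.map f).obj (𝟙_ (Over (∐ P))) ⟶ X₀ :=
    Over.homMk (Sigma.desc fun s => (hσ s).some.left) (by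
      refine Sigma.hom_ext _ _ fun s => ?_
      show Sigma.ι P s ≫ Sigma.desc _ ≫ X₀.hom = Sigma.ι P s ≫ 𝟙 _ ≫ Sigma.desc e
      rw [Category.id_comp, Sigma.ι_desc_assoc, Sigma.ι_desc]
      exact (Over.w (hσ s).some).trans (Category.id_comp _))
  have hcσ := (hX₀ _ (σ ≫ j₀)).1 ⟨σ, rfl⟩
  haveI : PreservesLimitsOfShape WalkingCospan (Over.pullback f) :=
    (Adjunction.rightAdjoint_preservesLimits (Over.mapPullbackAdj f)).preservesLimitsOfShape
  let i' := (Over.pullback f).map i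
  let d := (Over.pullback f).map (c₀ ≫ c)
  let g := toBC f (σ ≫ j₀)
  obtain ⟨t, ht⟩ : ∃ t : Red.bc f T ⟶ Red.bc f C₀, t ≫ d = i' ≫ (inn g).hom := by
    obtain ⟨a, ha⟩ := exists_toBC f (𝟙 (Red.bc f T))
    obtain ⟨b, hb⟩ := hcσ _ ((Over.map f).map (toUnit _)) a
    refine ⟨toBC f b, ?_⟩
    have h := congrArg (toBC f) hb
    rw [toBC_mul, toBC_mul, toBC_inv, toBC_precomp, toBC_comp f i a, toBC_comp f (c₀ ≫ c) b, ha, Category.id_comp] at h
    rw [comp_inn, ← h]
  haveI : IsMonHom t := MTSplit.isMonHom_of_comp_mono t d (i' ≫ (inn g).hom) ht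
  haveI : Mono (t ≫ d) := by rw [ht]; exact mono_comp _ _
  haveI : Mono t := mono_of_mono t d
  haveI : IsMonHom (Iso.refl (Red.bc f T)).hom := inferInstanceAs (IsMonHom (𝟙 _))
  have hmax : Red.IsMaximalTorus (t ≫ d) := isMaximalTorus_iso (Iso.refl _) (inn g) i' (t ≫ d)
    (by rw [Iso.refl_hom, Category.id_comp, ht]) (Chev.Borel.isTorus_bc_scheme T f hi.2.2.1)
    (Chev.MaxTorusBC.isMaximalTorus_bc i hi f)
  refine ⟨∐ P, f, hf, hfs, t, isMaximalTorus_of_comp t d hmax, fun X a x => ?_⟩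
  haveI : LocallyOfFiniteType (Red.bc f C).hom := inferInstanceAs (LocallyOfFiniteType (pullback.snd C.hom f))
  haveI : LocallyOfFiniteType (Red.bc f G).hom := inferInstanceAs (LocallyOfFiniteType (pullback.snd G.hom f))
  haveI : QuasiCompact (Red.bc f G).hom := inferInstanceAs (QuasiCompact (pullback.snd G.hom f))
  have hcd : d = (Over.pullback f).map c₀ ≫ (Over.pullback f).map c := Functor.map_comp _ _ _
  have hcen := central_of_hasGeomTorus ((Over.pullback f).map c) (hasGeomTorus_bc c hc f)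
    (t ≫ (Over.pullback f).map c₀) (by rw [Category.assoc, ← hcd]; exact hmax) X a (x ≫ (Over.pullback f).map c₀)
  rw [← Category.assoc, ← MonObj.mul_comp, ← MonObj.mul_comp] at hcen
  exact (cancel_mono ((Over.pullback f).map c₀)).1 hcen

/-- An isomorphism on a geometric fibre is an isomorphism on the fibre. -/
theorem isIso_fibre_of_geom {A B : Over S} (w : A ⟶ B) (s : S)
    (h : IsIso ((Over.pullback (Red.geomPt s)).map w).left) :
    IsIso (pullback.snd w.left (B.hom.fiberι s)) := by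
  let κ := S.residueField s
  let k := AlgebraicClosure κ
  let θ : Spec (CommRingCat.of k) ⟶ Spec κ := Spec.map (CommRingCat.ofHom (algebraMap κ k))
  haveI : Surjective θ := ⟨fun _ => ⟨IsLocalRing.closedPoint k, Subsingleton.elim (α := PrimeSpectrum κ) _ _⟩⟩
  haveI : Flat θ := Flat.SpecMap_iff.2 (RingHom.flat_algebraMap_iff.2 (inferInstanceAs (Module.Flat κ k)))
  have hB := IsPullback.of_hasPullback B.hom (Red.geomPt s)
  let m : (Red.bc (Red.geomPt s) B).left ⟶ B.hom.fiber s :=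
    pullback.lift (pullback.fst B.hom (Red.geomPt s)) (pullback.snd B.hom (Red.geomPt s) ≫ θ)
      (by rw [Category.assoc]; exact pullback.condition)
  have hm : IsPullback m (pullback.snd B.hom (Red.geomPt s)) (B.hom.fiberToSpecResidueField s) θ := by
    refine IsPullback.of_right ?_ (pullback.lift_snd _ _ _) (IsPullback.of_hasPullback B.hom (S.fromSpecResidueField s))
    rw [pullback.lift_fst]
    exact hB
  haveI : Surjective m := MorphismProperty.of_isPullback (P := @Surjective) hm.flip ‹_›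
  haveI : Flat m := MorphismProperty.of_isPullback (P := @Flat) hm.flip ‹_›
  haveI : QuasiCompact m := MorphismProperty.of_isPullback (P := @QuasiCompact) hm.flip inferInstance
  have hbig := isPullback_map w (Red.geomPt s)
  rw [show pullback.fst B.hom (Red.geomPt s) = m ≫ B.hom.fiberι s from (pullback.lift_fst _ _ _).symm] at hbig
  have hsm : IsPullback (pullback.lift (pullback.fst A.hom (Red.geomPt s))
      (((Over.pullback (Red.geomPt s)).map w).left ≫ m) (by rw [Category.assoc]; exact hbig.w))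
      ((Over.pullback (Red.geomPt s)).map w).left (pullback.snd w.left (B.hom.fiberι s)) m := by
    refine IsPullback.of_right ?_ (pullback.lift_snd _ _ _) (IsPullback.of_hasPullback w.left (B.hom.fiberι s))
    rw [pullback.lift_fst]
    exact hbig
  exact MorphismProperty.of_isPullback_of_descendsAlong (P := MorphismProperty.isomorphisms Scheme.{u})
    (Q := @Surjective ⊓ @Flat ⊓ @QuasiCompact) hsm.flip ⟨⟨inferInstance, inferInstance⟩, inferInstance⟩ h

/-- An open surjection lifts compact images. -/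
theorem exists_compact_lift {V : Scheme.{u}} (g : V ⟶ U) [Etale g] [Surjective g] (W : U.Opens)
    (hW : IsCompact (W : Set U)) : ∃ W' : V.Opens, IsCompact (W' : Set V) ∧ g.base '' (W' : Set V) = W := by
  have hcov : ∀ x : W, ∃ A : V.Opens, IsCompact (A : Set V) ∧ A ≤ g ⁻¹ᵁ W ∧ x.1 ∈ g.base '' (A : Set V) := fun x => by
    obtain ⟨y, hy⟩ := g.surjective x.1
    obtain ⟨_, ⟨A, hA, rfl⟩, hyA, hAW⟩ := V.isBasis_affineOpens.exists_subset_of_mem_open
      (show y ∈ ((g ⁻¹ᵁ W : V.Opens) : Set V) by show g y ∈ W; rw [hy]; exact x.2) (g ⁻¹ᵁ W).2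
    exact ⟨A, hA.isCompact, hAW, y, hyA, hy⟩
  choose A hAc hAW hxA using hcov
  obtain ⟨t, ht⟩ := hW.elim_finite_subcover (fun x => g.base '' (A x : Set V))
    (fun x => g.isOpenMap _ (A x).2) (fun z hz => Set.mem_iUnion.2 ⟨⟨z, hz⟩, hxA ⟨z, hz⟩⟩)
  refine ⟨⨆ x ∈ t, A x, ?_, ?_⟩
  · rw [TopologicalSpace.Opens.coe_iSup]
    simp only [TopologicalSpace.Opens.coe_iSup]
    exact t.finite_toSet.isCompact_biUnion fun x _ => hAc x
  · refine subset_antisymm ?_ ?_
    · rintro _ ⟨y, hy, rfl⟩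
      simp only [TopologicalSpace.Opens.coe_iSup, Set.mem_iUnion] at hy
      obtain ⟨x, -, hy⟩ := hy
      exact hAW x hy
    · intro z hz
      obtain ⟨x, hx, y, hy, rfl⟩ := Set.mem_iUnion₂.1 (ht hz)
      refine ⟨y, ?_, rfl⟩
      simp only [TopologicalSpace.Opens.coe_iSup, Set.mem_iUnion]
      exact ⟨x, hx, hy⟩

/-- **A Cartan subgroup is the centralizer of a maximal torus.** -/
theorem exists_torus_of_cartan {C G : Over S} [GrpObj C] [GrpObj G] [Smooth G.hom] [IsSeparated G.hom]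
    [QuasiCompact G.hom] (hG : SGA3x.HasMaxTorusFpqcLocally G) (c : C ⟶ G) (hc : SGA3x.IsCartan c) :
    ∃ (T : Over S) (_ : GrpObj T) (i : T ⟶ G), Red.IsMaximalTorus i ∧ Red.IsCentralizerOf i c := by
  have hgeo := hasGeomTorus_of_isCartan c hc
  obtain ⟨hcm, hcmono, hCs, hfib⟩ := id hc
  haveI := hcm; haveI := hcmono; haveI := hCs
  obtain ⟨-, C₀, hC₀g, c₀, hc₀m, hc₀o, -, hC₀s, hC₀q⟩ := Groth.Agent.S4098.result S C
    ⟨⊤, inferInstance, fun _ => trivial⟩
  haveI := hc₀m; haveI := hc₀o; haveI := hC₀s; haveI := hC₀q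
  haveI : Mono c₀ := Over.mono_of_mono_left c₀
  haveI : Mono (c₀ ≫ c) := mono_comp _ _
  haveI : Mono (c₀ ≫ c).left := inferInstance
  haveI : QuasiSeparated C₀.hom := by rw [← Over.w (c₀ ≫ c)]; infer_instance
  -- a central maximal torus of the neutral component, fpqc locally
  obtain ⟨S₁, f, hff, hfs, hfc, T₁, hT₁g, i₁, hi₁⟩ := hG
  haveI : Smooth (Red.bc f G).hom := inferInstanceAs (Smooth (pullback.snd G.hom f))
  haveI : IsSeparated (Red.bc f G).hom := inferInstanceAs (IsSeparated (pullback.snd G.hom f))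
  haveI : QuasiCompact (Red.bc f G).hom := inferInstanceAs (QuasiCompact (pullback.snd G.hom f))
  haveI : Smooth (Red.bc f C).hom := inferInstanceAs (Smooth (pullback.snd C.hom f))
  haveI : Smooth (Red.bc f C₀).hom := inferInstanceAs (Smooth (pullback.snd C₀.hom f))
  haveI : QuasiCompact (Red.bc f C₀).hom := inferInstanceAs (QuasiCompact (pullback.snd C₀.hom f))
  haveI : PreservesLimitsOfShape WalkingCospan (Over.pullback f) :=
    (Adjunction.rightAdjoint_preservesLimits (Over.mapPullbackAdj f)).preservesLimitsOfShape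
  haveI : IsOpenImmersion ((Over.pullback f).map c₀).left :=
    MorphismProperty.of_isPullback (P := @IsOpenImmersion) (isPullback_map c₀ f) ‹IsOpenImmersion c₀.left›
  obtain ⟨S₂, f₂, hf₂, hf₂s, t₂, ht₂, ht₂c⟩ := exists_torus_etale ((Over.pullback f).map c)
    (hasGeomTorus_bc c hgeo f) ((Over.pullback f).map c₀) i₁ hi₁
  obtain ⟨eC, heC, hC'⟩ := Chev.MaxTorusBC.exists_trIso (show f₂ ≫ f = f₂ ≫ f from rfl) C₀
  haveI : IsMonHom eC.hom := hC'
  haveI : IsMonHom eC.symm.hom := inferInstanceAs (IsMonHom eC.inv)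
  haveI : IsMonHom (Iso.refl (Red.bc f₂ T₁)).hom := inferInstanceAs (IsMonHom (𝟙 _))
  haveI := ht₂.1
  haveI := hff; haveI := hfs; haveI := hf₂; haveI := hf₂s
  obtain ⟨T, hTg, t, ht, htc, -⟩ := Groth.Agent.S8433.result S C₀
    ⟨S₂, f₂ ≫ f, inferInstance, inferInstance, fun V hV => by
      obtain ⟨W, hW, hWV⟩ := hfc V hV
      obtain ⟨W', hW', hW'W⟩ := exists_compact_lift f₂ W hW
      refine ⟨W', hW', ?_⟩
      rw [← hWV, ← hW'W, ← Set.image_comp]
      rfl,
    _, inferInstance, t₂ ≫ eC.inv, isMaximalTorus_iso (Iso.refl _) eC.symm t₂ _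
      (by rw [Iso.refl_hom, Category.id_comp]; rfl) ht₂.2.2.1 ht₂, fun X a x => by
        have h := congrArg (fun w => w ≫ eC.inv) (ht₂c X a (x ≫ eC.hom))
        simpa only [MonObj.mul_comp, Category.assoc, Iso.hom_inv_id, Category.comp_id] using h⟩
  haveI := ht.1; haveI := ht.2.1
  -- it is a maximal torus of the group
  let i := t ≫ c₀ ≫ c
  haveI : Mono i := mono_comp _ _
  have hi : Red.IsMaximalTorus i := ⟨inferInstance, inferInstance, ht.2.2.1, fun s X _ j _ _ φ hX hφ => by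
    let ψ := Red.geomPt s
    let F := Over.pullback ψ
    haveI : PreservesLimitsOfShape WalkingCospan F :=
      (Adjunction.rightAdjoint_preservesLimits (Over.mapPullbackAdj ψ)).preservesLimitsOfShape
    obtain ⟨R, hRg, r, hrm, hrmax, hrc⟩ := hgeo _ ψ
    haveI := hrm
    haveI : LocallyOfFiniteType (Red.bc ψ C).hom := inferInstanceAs (LocallyOfFiniteType (pullback.snd C.hom ψ))
    haveI : LocallyOfFiniteType (Red.bc ψ C₀).hom := inferInstanceAs (LocallyOfFiniteType (pullback.snd C₀.hom ψ))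
    haveI : QuasiCompact (Red.bc ψ C₀).hom := inferInstanceAs (QuasiCompact (pullback.snd C₀.hom ψ))
    haveI : IsOpenImmersion (F.map c₀).left :=
      MorphismProperty.of_isPullback (P := @IsOpenImmersion) (isPullback_map c₀ ψ) ‹IsOpenImmersion c₀.left›
    obtain ⟨r₀, hr₀⟩ := exists_factor_open hrmax.2.2.1 r (F.map c₀)
    haveI : IsMonHom r₀ := MTSplit.isMonHom_of_comp_mono r₀ (F.map c₀) r hr₀
    obtain ⟨y, hy⟩ := Chev.Borel.exists_factor_maxTorus_of_commute (F.map t)
      ⟨inferInstance, inferInstance, Chev.Borel.isTorus_bc_scheme T ψ ht.2.2.1, ht.2.2.2 s⟩ hrmax.2.2.1 r₀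
      fun Y a x => by
        have h := hrc Y x (a ≫ F.map t ≫ F.map c₀)
        rw [← hr₀, ← Category.assoc x r₀, ← Category.assoc a (F.map t), ← MonObj.mul_comp, ← MonObj.mul_comp] at h
        exact ((cancel_mono (F.map c₀)).1 h).symm
    have hyr : (y ≫ φ) ≫ j = r ≫ F.map c := by
      rw [Category.assoc, hφ, ← hr₀, Category.assoc]
      show y ≫ F.map (t ≫ c₀ ≫ c) = _
      rw [F.map_comp, F.map_comp, reassoc_of% hy]
    haveI : IsIso (y ≫ φ) := hrmax.2.2.2 X j (y ≫ φ) hX hyr
    haveI : Mono (φ ≫ j) := by rw [hφ]; infer_instance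
    haveI : Mono φ := mono_of_mono φ j
    haveI : IsSplitEpi φ := ⟨⟨inv (y ≫ φ) ≫ y, by rw [Category.assoc, IsIso.inv_hom_id]⟩⟩
    exact isIso_of_mono_of_isSplitEpi φ⟩
  haveI : IsMonHom (t ≫ c₀) := inferInstance
  have hcen := central_of_hasGeomTorus c hgeo (t ≫ c₀) (by rw [Category.assoc]; exact hi)
  -- the centralizer
  obtain ⟨D, hDg, d, hd, hdc, hdcar, -⟩ := Groth.Agent.S4118.result S G T i hi
  haveI := hd.1; haveI := hd.2.1; haveI := hdc; haveI := hdcar.2.2.1
  obtain ⟨w, hw⟩ := (hd.2.2 C c).2 fun X' x h => by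
    have h' := congrArg (fun z => z ≫ c) (hcen X' h x)
    simp only [MonObj.mul_comp, Category.assoc] at h'
    exact h'.symm
  haveI : Mono (w ≫ d) := by rw [hw]; infer_instance
  haveI : Mono w := mono_of_mono w d
  have hwiso : ∀ s : S, IsIso (((Over.pullback (Red.geomPt s)).map w).left) := fun s => by
    let F := Over.pullback (Red.geomPt s)
    haveI : PreservesLimitsOfShape WalkingCospan F :=
      (Adjunction.rightAdjoint_preservesLimits (Over.mapPullbackAdj (Red.geomPt s))).preservesLimitsOfShape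
    haveI := (hasGeomTorus_of_isCartan d hdcar)
    obtain ⟨hm₁, hm₂, T', hT'g, i', hi', hcent'⟩ := hfib s
    haveI := hi'.1; haveI := hi'.2.1; haveI := hm₂
    haveI : LocallyOfFiniteType (Red.geomFibre s G).hom :=
      inferInstanceAs (LocallyOfFiniteType (pullback.snd G.hom (Red.geomPt s)))
    haveI : QuasiCompact (Red.geomFibre s G).hom :=
      inferInstanceAs (QuasiCompact (pullback.snd G.hom (Red.geomPt s)))
    have hT'max := Chev.Borel.isMaxTorus_of_isMaximalTorus i' hi'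
    have hcentd := Chev.CentBC.isCentralizerOf_bc (Red.geomPt s) i d hd
    obtain ⟨z, hz⟩ : ∃ z, z ≫ F.map i = i' := Chev.Borel.exists_factor_maxTorus_of_commute (F.map i)
      (Chev.MaxTorusBC.isMaxTorus_pt i hi (Red.geomPt s)) hi'.2.2.1 i' fun Y a x => by
        have h := (hcent'.2.2 Y (a ≫ F.map i)).1 ⟨a ≫ F.map (t ≫ c₀), by
          rw [Category.assoc, ← F.map_comp, Category.assoc]⟩ Y (𝟙 Y) x
        rw [Category.id_comp] at h
        exact h
    haveI := hcentd.2.1
    obtain ⟨v, hv⟩ := (hcent'.2.2 _ (F.map d)).2 fun Y x a => by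
      rw [← hz, ← Category.assoc]
      exact (hcentd.2.2 _ _).1 ⟨x, rfl⟩ Y (𝟙 Y) (a ≫ z) |> fun h => by rwa [Category.id_comp] at h
    haveI : Mono (F.map w) := inferInstance
    haveI : IsSplitEpi (F.map w) := ⟨⟨v, by
      rw [← cancel_mono (F.map d), Category.assoc, ← F.map_comp, hw, hv, Category.id_comp]⟩⟩
    haveI : IsIso (F.map w) := isIso_of_mono_of_isSplitEpi _
    exact inferInstanceAs (IsIso ((Over.forget _).map (F.map w)))
  haveI : IsIso w.left := by
    refine FibCrit.isIso_of_fibres (h := C.hom) (g := D.hom) (Over.w w) fun s => ?_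
    exact isIso_fibre_of_geom w s (hwiso s)
  haveI : IsIso ((Over.forget S).map w) := ‹IsIso w.left›
  haveI : IsIso w := isIso_of_reflects_iso w (Over.forget S)
  refine ⟨T, hTg, i, hi, hcm, hcmono, fun X x => ?_⟩
  refine Iff.trans ⟨?_, ?_⟩ (hd.2.2 X x)
  · rintro ⟨z, rfl⟩
    exact ⟨z ≫ w, by rw [Category.assoc, hw]⟩
  · rintro ⟨z, rfl⟩
    exact ⟨z ≫ inv w, by rw [Category.assoc, ← hw, IsIso.inv_hom_id_assoc]⟩

end Groth.Agent.MTImage
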