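import Groth.Agent.S13206
import Groth.Agent.FixFin.Main
import Groth.Agent.MTImage.Cartan

/-!
# Centralizers and roots of sections of finite invertible order

Both are schemes of fixed points of automorphisms of finite invertible order of smooth schemes.
-/

set_option autoImplicit false
set_option linter.style.haveILetI false
set_option backward.isDefEq.respectTransparency false
set_option maxHeartbeats 1000000
set_option synthInstance.maxHeartbeats 400000

universe u

noncomputable section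

open CategoryTheory Limits MonoidalCategory CartesianMonoidalCategory MonObj GrpObj AlgebraicGeometry
open scoped CategoryTheory.Obj

namespace Groth.Agent.MTImage

variable {S : Scheme.{u}}

/-- The fixed scheme of an automorphism of finite invertible order. -/
theorem exists_fixed_scheme (X : Over S) [Smooth X.hom] [IsSeparated X.hom] [QuasiCompact X.hom] (σ : Aut X) (n : ℕ)
    (hn : 0 < n) (hσ : σ ^ n = 1) (hu : IsUnit (n : Γ(S, ⊤))) :
    ∃ (Z : Over S) (i : Z ⟶ X), IsClosedImmersion i.left ∧ Smooth Z.hom ∧ QuasiCompact Z.hom ∧ IsSeparated Z.hom ∧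
      ∀ (T : Over S) (t : T ⟶ X), t ≫ σ.hom = t ↔ ∃ z, z ≫ i = t := by
  classical
  let τ : Aut X.left := (Over.forget S).mapIso σ
  let H : Subgroup (Aut X.left) := Subgroup.zpowers τ
  have hpow : τ ^ n = 1 := by
    let Φ : Aut X →* Aut X.left :=
      { toFun := fun a => (Over.forget S).mapIso a
        map_one' := by ext; rfl
        map_mul' := fun a b => by ext; rfl }
    show (Φ σ) ^ n = 1
    rw [← map_pow, hσ, map_one]
  have hord : IsOfFinOrder τ := isOfFinOrder_iff_pow_eq_one.2 ⟨n, hn, hpow⟩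
  haveI : Finite H := Set.finite_coe_iff.2 hord.finite_zpowers
  have hH : ∀ g : H, g.1.hom ≫ X.hom = X.hom := by
    rintro ⟨g, k, rfl⟩
    induction k using Int.induction_on with
    | zero => simp only [zpow_zero]; exact Category.id_comp _
    | succ k ih =>
      simp only [zpow_add_one] at ih ⊢
      rw [show (τ ^ (k : ℤ) * τ).hom =
        σ.hom.left ≫ (τ ^ (k : ℤ)).hom from rfl, Category.assoc, ih, Over.w]
    | pred k ih =>
      simp only [zpow_sub_one] at ih ⊢
      rw [show (τ ^ (-(k : ℤ)) * τ⁻¹).hom =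
        σ.inv.left ≫ (τ ^ (-(k : ℤ))).hom from rfl, Category.assoc, ih, Over.w]
  obtain ⟨Z₀, i₀, hc, hi, huniv⟩ := Groth.Agent.S13206.result X.hom H (Subgroup.subtype H) hH
  haveI := hc
  have hcard : IsUnit (Nat.card H : Γ(S, ⊤)) := by
    refine isUnit_of_dvd_unit (Nat.cast_dvd_cast ?_) hu
    rw [Nat.card_zpowers]
    exact orderOf_dvd_of_pow_eq_one hpow
  haveI hs : Smooth (i₀ ≫ X.hom) := Groth.Agent.FixFin.smooth_of_fixed X.hom (Subgroup.subtype H) hH hcard i₀ hi
    fun T t ht => (huniv T t ht).exists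
  refine ⟨Over.mk (i₀ ≫ X.hom), Over.homMk i₀ rfl, hc, hs, inferInstanceAs (QuasiCompact (i₀ ≫ X.hom)),
    inferInstanceAs (IsSeparated (i₀ ≫ X.hom)), fun T t => ⟨fun ht => ?_, ?_⟩⟩
  · obtain ⟨z, hz, -⟩ := huniv T.left t.left (by
      rintro ⟨g, k, rfl⟩
      show t.left ≫ (τ ^ k).hom = t.left
      have hfix : t.left ≫ σ.hom.left = t.left := congrArg (fun w => w.left) ht
      have hfix' : t.left ≫ σ.inv.left = t.left := by
        conv_lhs => rw [← hfix, Category.assoc, ← Over.comp_left, Iso.hom_inv_id]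
        exact Category.comp_id _
      induction k using Int.induction_on with
      | zero => rw [zpow_zero]; exact Category.comp_id _
      | succ k ih =>
        rw [zpow_add_one]
        show t.left ≫ σ.hom.left ≫ _ = _
        rw [← Category.assoc, hfix, ih]
      | pred k ih =>
        rw [zpow_sub_one]
        show t.left ≫ σ.inv.left ≫ _ = _
        rw [← Category.assoc, hfix', ih])
    exact ⟨Over.homMk z (by show z ≫ i₀ ≫ X.hom = _; rw [reassoc_of% hz, Over.w]), Over.OverMorphism.ext hz⟩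
  · rintro ⟨z, rfl⟩
    rw [Category.assoc]
    refine congrArg (fun w => z ≫ w) (Over.OverMorphism.ext ?_)
    exact hi ⟨τ, Subgroup.mem_zpowers _⟩

variable {G : Over S} [GrpObj G]

/-- Conjugation by a section as an automorphism. -/
def innAut (g : 𝟙_ (Over S) ⟶ G) : Aut G := inn g

theorem inn_pow_comp (g : 𝟙_ (Over S) ⟶ G) (k : ℕ) {X : Over S} (x : X ⟶ G) :
    x ≫ ((innAut g) ^ k).hom = (toUnit X ≫ g) ^ k * x * ((toUnit X ≫ g) ^ k)⁻¹ := by
  induction k generalizing x with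
  | zero =>
    simp only [pow_zero, _root_.one_mul, _root_.inv_one, _root_.mul_one]
    exact Category.comp_id _
  | succ k ih =>
    rw [pow_succ (innAut g), show ((innAut g) ^ k * (innAut g)).hom =
      (inn g).hom ≫ ((innAut g) ^ k).hom from rfl, ← Category.assoc, comp_inn, ih, pow_succ]
    group

/-- **The centralizer of a section of finite invertible order is a smooth closed subgroup.** -/
theorem exists_centralizer_section [Smooth G.hom] [IsSeparated G.hom] [QuasiCompact G.hom] (g : 𝟙_ (Over S) ⟶ G)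
    (n : ℕ) (hn : 0 < n) (hg : g ^ n = 1) (hu : IsUnit (n : Γ(S, ⊤))) :
    ∃ (Z : Over S) (_ : GrpObj Z) (i : Z ⟶ G), IsMonHom i ∧ IsClosedImmersion i.left ∧ Smooth Z.hom ∧
      QuasiCompact Z.hom ∧ IsSeparated Z.hom ∧
      ∀ (T : Over S) (t : T ⟶ G), (toUnit T ≫ g) * t = t * (toUnit T ≫ g) ↔ ∃ z, z ≫ i = t := by
  have hσ : (innAut g) ^ n = 1 := by
    refine Iso.ext ?_
    have h := inn_pow_comp g n (𝟙 G)
    rw [Category.id_comp, ← MonObj.comp_pow, hg, MonObj.comp_one, _root_.one_mul, _root_.inv_one,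
      _root_.mul_one] at h
    exact h
  obtain ⟨Z, i, hic, hZs, hZq, hZsep, hZ⟩ := exists_fixed_scheme G (innAut g) n hn hσ hu
  haveI := hic
  haveI : Mono i.left := inferInstance
  haveI : Mono i := Over.mono_of_mono_left i
  have hZ' : ∀ (T : Over S) (t : T ⟶ G), (toUnit T ≫ g) * t = t * (toUnit T ≫ g) ↔ ∃ z, z ≫ i = t := fun T t => by
    rw [← hZ]
    show _ ↔ t ≫ (inn g).hom = t
    rw [comp_inn, mul_inv_eq_iff_eq_mul]
  obtain ⟨hZg, him⟩ := Groth.Agent.MTBridge.exists_grpObj_of_div i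
    (by
      refine (hZ' _ η[G]).1 ?_
      rw [show η[G] = (1 : 𝟙_ _ ⟶ G) by rw [Hom.one_def, toUnit_unit, Category.id_comp], _root_.mul_one,
        _root_.one_mul])
    fun T a b => by
      refine (hZ' T _).1 ?_
      have ha := (hZ' T (a ≫ i)).2 ⟨a, rfl⟩
      have hb := (hZ' T (b ≫ i)).2 ⟨b, rfl⟩
      exact (Commute.inv_right ha).mul_right hb
  exact ⟨Z, hZg, i, him, hic, hZs, hZq, hZsep, hZ'⟩

theorem smooth_tensor (A B : Over S) [Smooth A.hom] [Smooth B.hom] : Smooth (A ⊗ B).hom :=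
  inferInstanceAs (Smooth (pullback.fst A.hom B.hom ≫ A.hom))

/-- **Square and cube roots of a central section form a smooth scheme** when `l` is invertible. -/
theorem exists_root_scheme [Smooth G.hom] [IsSeparated G.hom] [QuasiCompact G.hom] (h : 𝟙_ (Over S) ⟶ G)
    (hh : ∀ (X : Over S) (x : X ⟶ G), (toUnit X ≫ h) * x = x * (toUnit X ≫ h)) (l : ℕ) (hl : l = 2 ∨ l = 3)
    (hu : IsUnit (l : Γ(S, ⊤))) :
    ∃ (P : Over S) (g : P ⟶ G), Smooth P.hom ∧ QuasiCompact P.hom ∧ IsSeparated P.hom ∧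
      g ^ l = toUnit P ≫ h ∧ ∀ (T : Over S) (t : T ⟶ G), t ^ l = toUnit T ≫ h → ∃ p, p ≫ g = t := by
  rcases hl with rfl | rfl
  · have hinv : ∀ {X : Over S} (x : X ⟶ G), x ≫ ((toUnit G ≫ h) * (𝟙 G)⁻¹) = (toUnit X ≫ h) * x⁻¹ := fun x => by
      rw [MonObj.comp_mul, GrpObj.comp_inv, ← Category.assoc, comp_toUnit, Category.comp_id]
    let s : G ⟶ G := (toUnit G ≫ h) * (𝟙 G)⁻¹
    have hss : s ≫ s = 𝟙 G := by
      show ((toUnit G ≫ h) * (𝟙 G)⁻¹) ≫ ((toUnit G ≫ h) * (𝟙 G)⁻¹) = _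
      rw [hinv, _root_.mul_inv_rev, _root_.inv_inv, ← _root_.mul_assoc, hh, mul_inv_cancel_right]
    let σ : Aut G := ⟨s, s, hss, hss⟩
    have hσ : σ ^ 2 = 1 := by rw [pow_two]; exact Iso.ext hss
    obtain ⟨P, i, hic, hPs, hPq, hPsep, hP⟩ := exists_fixed_scheme G σ 2 two_pos hσ hu
    have key : ∀ {T : Over S} (t : T ⟶ G), t ≫ σ.hom = t ↔ t ^ 2 = toUnit T ≫ h := fun {T} t => by
      show t ≫ ((toUnit G ≫ h) * (𝟙 G)⁻¹) = t ↔ _
      rw [hinv, mul_inv_eq_iff_eq_mul, pow_two, eq_comm]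
    exact ⟨P, i, hPs, hPq, hPsep, (key i).1 ((hP P i).2 ⟨𝟙 _, Category.id_comp _⟩), fun T t ht =>
      (hP T t).1 ((key t).2 ht)⟩
  · haveI := smooth_tensor G G
    haveI : QuasiCompact (G ⊗ G).hom := inferInstanceAs (QuasiCompact (pullback.fst G.hom G.hom ≫ G.hom))
    haveI : IsSeparated (G ⊗ G).hom := inferInstanceAs (IsSeparated (pullback.fst G.hom G.hom ≫ G.hom))
    let s : G ⊗ G ⟶ G ⊗ G :=
      lift (snd G G) ((toUnit (G ⊗ G) ≫ h) * (fst G G * snd G G)⁻¹)
    let Φ : ∀ {X : Over S}, (X ⟶ G) × (X ⟶ G) → (X ⟶ G) × (X ⟶ G) := fun {X} p =>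
      (p.2, (toUnit X ≫ h) * (p.1 * p.2)⁻¹)
    have hs : ∀ {X : Over S} (a b : X ⟶ G), lift a b ≫ s = lift b ((toUnit X ≫ h) * (a * b)⁻¹) := fun a b => by
      simp only [s, comp_lift, lift_snd, MonObj.comp_mul, GrpObj.comp_inv, lift_fst, ← Category.assoc, comp_toUnit]
    have h3 : ∀ {X : Over S} (a b : X ⟶ G), lift a b ≫ s ≫ s ≫ s = lift a b := fun {X} a b => by
      have e1 : (toUnit X ≫ h) * (b * ((toUnit X ≫ h) * (a * b)⁻¹))⁻¹ = a := by
        rw [_root_.mul_inv_rev, _root_.mul_inv_rev, _root_.inv_inv, _root_.mul_assoc (a * b), ← _root_.mul_assoc (toUnit X ≫ h),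
          hh X (a * b), _root_.mul_assoc (a * b), mul_inv_cancel_left, mul_inv_cancel_right]
      have e2 : (toUnit X ≫ h) * (((toUnit X ≫ h) * (a * b)⁻¹) * a)⁻¹ = b := by
        rw [_root_.mul_inv_rev, _root_.mul_inv_rev, _root_.inv_inv, ← _root_.mul_assoc, hh X a⁻¹, _root_.mul_assoc a⁻¹,
          ← _root_.mul_assoc (toUnit X ≫ h), hh X (a * b), mul_inv_cancel_right, inv_mul_cancel_left]
      rw [← Category.assoc, hs, ← Category.assoc, hs, e1, hs, e2]
    have hsss : s ≫ s ≫ s = 𝟙 _ := by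
      have := h3 (fst G G) (snd G G)
      rwa [lift_fst_snd, Category.id_comp] at this
    let σ : Aut (G ⊗ G) := ⟨s, s ≫ s, hsss, by rw [Category.assoc]; exact hsss⟩
    have hσ : σ ^ 3 = 1 := by
      rw [pow_succ, pow_two]
      exact Iso.ext hsss
    obtain ⟨P, i, hic, hPs, hPq, hPsep, hP⟩ := exists_fixed_scheme (G ⊗ G) σ 3 (by norm_num) hσ hu
    have key : ∀ {T : Over S} (a b : T ⟶ G), lift a b ≫ σ.hom = lift a b ↔ b = a ∧ a ^ 3 = toUnit T ≫ h :=
        fun {T} a b => by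
      show lift a b ≫ s = _ ↔ _
      rw [hs]
      constructor
      · intro e
        have e1 : b = a := by simpa using congrArg (fun w => w ≫ fst G G) e
        have e2 : (toUnit T ≫ h) * (a * b)⁻¹ = b := by simpa using congrArg (fun w => w ≫ snd G G) e
        subst e1
        refine ⟨rfl, ?_⟩
        rw [mul_inv_eq_iff_eq_mul] at e2
        rw [e2, pow_three]
      · rintro ⟨rfl, e⟩
        rw [← e, pow_three, ← _root_.mul_assoc, _root_.mul_assoc b b b, mul_inv_cancel_right]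
    have hi : i = lift (i ≫ fst G G) (i ≫ snd G G) := by rw [← comp_lift, lift_fst_snd, Category.comp_id]
    refine ⟨P, i ≫ fst G G, hPs, hPq, hPsep, ?_, fun T t ht => ?_⟩
    · have := (hP P i).2 ⟨𝟙 _, Category.id_comp _⟩
      rw [hi] at this
      exact ((key _ _).1 this).2
    · obtain ⟨p, hp⟩ := (hP T (lift t t)).1 ((key t t).2 ⟨rfl, ht⟩)
      exact ⟨p, by rw [← Category.assoc, hp, lift_fst]⟩

end Groth.Agent.MTImage
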