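import Groth.Agent.MTImage.CartanTransporterMain

/-!
# Conjugates of connected subgroups inside open subgroups
-/

set_option autoImplicit false
set_option linter.style.haveILetI false
set_option backward.isDefEq.respectTransparency false
set_option maxHeartbeats 1000000
set_option synthInstance.maxHeartbeats 400000

universe u

noncomputable section

open CategoryTheory Limits MonoidalCategory CartesianMonoidalCategory MonObj GrpObj AlgebraicGeometry
open scoped CategoryTheory.Obj

namespace Groth.Agent.MTImage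

open Groth.Agent.MTBridge Groth.Agent.Chev Groth.Agent.Chev.MaxTorusExt

variable {S : Scheme.{u}}

/-- If a conjugate of a subgroup with connected fibres lies in `H`, it lies in every open subgroup of `H`. -/
theorem conj_factor_open {G C H H₀ : Over S} [GrpObj G] [GrpObj C] [GrpObj H] [GrpObj H₀] [LocallyOfFiniteType C.hom]
    [LocallyOfFiniteType H.hom] (hC : ∀ s : S, _root_.IsConnected (C.hom.base ⁻¹' {s})) (c : C ⟶ G) [IsMonHom c]
    (j : H ⟶ G) [IsMonHom j] [Mono j] (i₀ : H₀ ⟶ H) [IsMonHom i₀] [IsOpenImmersion i₀.left] {X : Over S} (g : X ⟶ G)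
    (h : ∀ (X' : Over S) (x : X' ⟶ X) (y : X' ⟶ C), ∃ h : X' ⟶ H, (x ≫ g) * (y ≫ c) * (x ≫ g)⁻¹ = h ≫ j)
    (X' : Over S) (x : X' ⟶ X) (y : X' ⟶ C) :
    ∃ h₀ : X' ⟶ H₀, (x ≫ g) * (y ≫ c) * (x ≫ g)⁻¹ = h₀ ≫ i₀ ≫ j := by
  let f := X.hom
  haveI : PreservesLimitsOfShape WalkingCospan (Over.pullback f) :=
    (Adjunction.rightAdjoint_preservesLimits (Over.mapPullbackAdj f)).preservesLimitsOfShape
  haveI : Mono ((Over.pullback f).map j) := inferInstance
  haveI : LocallyOfFiniteType (Red.bc f H).hom := inferInstanceAs (LocallyOfFiniteType (pullback.snd H.hom f))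
  haveI : IsOpenImmersion ((Over.pullback f).map i₀).left :=
    MorphismProperty.of_isPullback (P := @IsOpenImmersion) (isPullback_map i₀ f) ‹IsOpenImmersion i₀.left›
  let u : Red.bc f C ⟶ Red.bc f G :=
    (toUnit _ ≫ sec g) * (Over.pullback f).map c * (toUnit _ ≫ sec g)⁻¹
  haveI : IsMonHom u := MTBridge.isMonHom_conj _ _
  have key : ∀ {Y : Over X.left} (a : (Over.map f).obj Y ⟶ C),
      toBC f a ≫ u = toBC f (((Over.map f).map (toUnit Y) ≫ (secIso X).hom ≫ g) * (a ≫ c) *
        ((Over.map f).map (toUnit Y) ≫ (secIso X).hom ≫ g)⁻¹) := fun {Y} a => by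
    simp only [u, MonObj.comp_mul, GrpObj.comp_inv, ← Category.assoc, comp_toUnit]
    rw [sec, ← toBC_naturality, ← toBC_comp, ← toBC_inv, ← toBC_mul, ← toBC_mul]
    simp only [Category.assoc, f]
  obtain ⟨a, ha⟩ := exists_toBC' f (𝟙 (Red.bc f C))
  obtain ⟨w₀, hw₀⟩ := h _ ((Over.map f).map (toUnit (Red.bc f C)) ≫ (secIso X).hom) a
  let w : Red.bc f C ⟶ Red.bc f H := toBC f w₀
  have hw : w ≫ (Over.pullback f).map j = u := by
    rw [show u = toBC f a ≫ u by rw [ha, Category.id_comp], key, ← toBC_comp, ← hw₀]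
    simp only [Category.assoc]
  haveI : IsMonHom w := MTSplit.isMonHom_of_comp_mono w _ u hw
  obtain ⟨k, hk⟩ := exists_factor_connected w ((Over.pullback f).map i₀) (isConnected_fibre_bc C hC f)
  let Y : Over X.left := Over.mk x.left
  let e : (Over.map f).obj Y ≅ X' := Over.isoMk (Iso.refl _) (by
    show 𝟙 _ ≫ X'.hom = x.left ≫ X.hom
    rw [Category.id_comp]
    exact (Over.w x).symm)
  have he : (Over.map f).map (toUnit Y) ≫ (secIso X).hom = e.hom ≫ x := by
    apply Over.OverMorphism.ext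
    show x.left ≫ 𝟙 _ = 𝟙 _ ≫ x.left
    simp
  obtain ⟨b, hb⟩ := exists_toBC' f (toBC f (e.hom ≫ y) ≫ k)
  have h1 := key (e.hom ≫ y)
  rw [← hw, ← hk, ← Category.assoc, ← Category.assoc, ← hb, ← toBC_comp, ← toBC_comp] at h1
  have h2 := toBC_inj f h1
  rw [← Category.assoc ((Over.map f).map (toUnit Y)), he] at h2
  refine ⟨e.inv ≫ b, (cancel_epi e.hom).1 ?_⟩
  simp only [MonObj.comp_mul, GrpObj.comp_inv, Category.assoc, Iso.hom_inv_id_assoc] at h2 ⊢
  exact h2.symm

end Groth.Agent.MTImage
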