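import Groth.Agent.MTImage.ToriConj
import Groth.Agent.Chev.TorusCommMax
import Groth.Agent.Chev.CentBC
import Groth.Agent.MTBridge.NormalCentral

/-!
# Subgroups containing a central maximal torus on geometric fibres
-/

set_option autoImplicit false
set_option linter.style.haveILetI false
set_option backward.isDefEq.respectTransparency false
set_option maxHeartbeats 1000000
set_option synthInstance.maxHeartbeats 400000

universe u

noncomputable section

open CategoryTheory Limits MonoidalCategory CartesianMonoidalCategory MonObj GrpObj AlgebraicGeometry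
open scoped CategoryTheory.Obj

namespace Groth.Agent.MTImage

open Groth.Agent.MTBridge Groth.Agent.Chev

variable {S U : Scheme.{u}}

/-- Over every algebraically closed point, `C` contains as a central subgroup a maximal torus of `G`. -/
def HasGeomTorus {C G : Over S} [GrpObj C] [GrpObj G] (c : C ⟶ G) : Prop :=
  ∀ (K : Type u) [Field K] [IsAlgClosed K] (ψ : Spec (CommRingCat.of K) ⟶ S),
    ∃ (R : Over (Spec (CommRingCat.of K))) (_ : GrpObj R) (r : R ⟶ Red.bc ψ C), IsMonHom r ∧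
      AGF.IsMaxTorus (r ≫ (Over.pullback ψ).map c) ∧
      ∀ (X : Over (Spec (CommRingCat.of K))) (a : X ⟶ R) (x : X ⟶ Red.bc ψ C), (a ≫ r) * x = x * (a ≫ r)

/-- An algebraically closed point factors through a geometric point. -/
theorem exists_lift_geomPt {K : Type u} [Field K] [IsAlgClosed K] (φ : Spec (CommRingCat.of K) ⟶ S) :
    ∃ τ : Spec (CommRingCat.of K) ⟶
        Spec (CommRingCat.of (AlgebraicClosure (S.residueField (φ (IsLocalRing.closedPoint K))))),
      τ ≫ Red.geomPt (φ (IsLocalRing.closedPoint K)) = φ := by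
  let s : S := φ (IsLocalRing.closedPoint K)
  let a := S.descResidueField (Scheme.stalkClosedPointTo φ)
  letI : Algebra (S.residueField s) K := a.hom.toAlgebra
  let k := AlgebraicClosure (S.residueField s)
  let iota : k →ₐ[S.residueField s] K := IsAlgClosed.lift
  refine ⟨Spec.map (CommRingCat.ofHom iota.toRingHom), ?_⟩
  show Spec.map _ ≫ Spec.map _ ≫ S.fromSpecResidueField s = φ
  rw [← Category.assoc, ← Spec.map_comp,
    show CommRingCat.ofHom (algebraMap (S.residueField s) k) ≫ CommRingCat.ofHom iota.toRingHom = a from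
      CommRingCat.hom_ext (iota.comp_algebraMap)]
  exact Scheme.descResidueField_stalkClosedPointTo_fromSpecResidueField K S φ

theorem tr_eq_comp {V : Scheme.{u}} {g : V ⟶ U} {f : U ⟶ S} {ψ : V ⟶ S} (h : g ≫ f = ψ) {G : Over S}
    {X : Over V} (x : X ⟶ Red.bc ψ G) : MaxTorusExt.tr h x = x ≫ MaxTorusExt.tr h (𝟙 _) := by
  rw [← MaxTorusExt.tr_naturality, Category.comp_id]

theorem trIso_natural {V : Scheme.{u}} {g : V ⟶ U} {f : U ⟶ S} {ψ : V ⟶ S} (h : g ≫ f = ψ) {A B : Over S}
    (c : A ⟶ B) : (Over.pullback ψ).map c ≫ MaxTorusExt.tr h (𝟙 (Red.bc ψ B)) =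
      MaxTorusExt.tr h (𝟙 (Red.bc ψ A)) ≫ (Over.pullback g).map ((Over.pullback f).map c) := by
  rw [← tr_eq_comp, ← MaxTorusExt.tr_comp, Category.id_comp]

/-- Transport of the geometric torus along an isomorphism. -/
theorem exists_geomTorus_iso {V : Scheme.{u}} {C G C' G' R : Over V} [GrpObj C] [GrpObj G] [GrpObj C'] [GrpObj G']
    [GrpObj R] (c : C ⟶ G) (c' : C' ⟶ G') (eC : C ≅ C') (eG : G ≅ G') [IsMonHom eC.hom] [IsMonHom eG.hom]
    (hsq : c ≫ eG.hom = eC.hom ≫ c') (r : R ⟶ C) [IsMonHom r] (hmax : AGF.IsMaxTorus (r ≫ c))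
    (hcent : ∀ (X : Over V) (a : X ⟶ R) (x : X ⟶ C), (a ≫ r) * x = x * (a ≫ r)) :
    IsMonHom (r ≫ eC.hom) ∧ AGF.IsMaxTorus ((r ≫ eC.hom) ≫ c') ∧
      ∀ (X : Over V) (a : X ⟶ R) (x : X ⟶ C'), (a ≫ r ≫ eC.hom) * x = x * (a ≫ r ≫ eC.hom) := by
  refine ⟨inferInstance, ?_, fun X a x => ?_⟩
  · haveI : IsMonHom (Iso.refl R).hom := inferInstanceAs (IsMonHom (𝟙 R))
    refine MaxTorusBC.isMaxTorus_of_iso (Iso.refl R) eG (r ≫ c) _ ?_ hmax.2.2.1 hmax
    rw [Iso.refl_hom, Category.id_comp, Category.assoc, Category.assoc, hsq]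
  · have h := congrArg (fun w => w ≫ eC.hom) (hcent X a (x ≫ eC.inv))
    simpa only [MonObj.mul_comp, Category.assoc, Iso.inv_hom_id, Category.comp_id] using h

/-- Cartan subgroups contain a central maximal torus on geometric fibres. -/
theorem hasGeomTorus_of_isCartan {C G : Over S} [GrpObj C] [GrpObj G] [LocallyOfFiniteType G.hom]
    [QuasiCompact G.hom] (c : C ⟶ G) (hc : SGA3x.IsCartan c) : HasGeomTorus c := by
  intro K _ _ ψ
  obtain ⟨hcm, hcmono, -, hfib⟩ := hc
  obtain ⟨τ, hτ⟩ := exists_lift_geomPt ψ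
  let s : S := ψ (IsLocalRing.closedPoint K)
  obtain ⟨hm₁, hm₂, T, hTg, i, hi, hcent⟩ := hfib s
  haveI := hi.1; haveI := hi.2.1
  haveI := hm₁; haveI := hm₂
  haveI : PreservesLimitsOfShape WalkingCospan (Over.pullback τ) :=
    (Adjunction.rightAdjoint_preservesLimits (Over.mapPullbackAdj τ)).preservesLimitsOfShape
  haveI : LocallyOfFiniteType (Red.bc (Red.geomPt s) G).hom :=
    inferInstanceAs (LocallyOfFiniteType (pullback.snd G.hom (Red.geomPt s)))
  haveI : QuasiCompact (Red.bc (Red.geomPt s) G).hom :=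
    inferInstanceAs (QuasiCompact (pullback.snd G.hom (Red.geomPt s)))
  have hmaxτ := Borel.isMaxTorus_of_isMaximalTorus _ (MaxTorusBC.isMaximalTorus_bc i hi τ)
  have hcentτ := CentBC.isCentralizerOf_bc τ i _ hcent
  obtain ⟨r, hr⟩ : ∃ r, r ≫ (Over.pullback τ).map ((Over.pullback (Red.geomPt s)).map c) =
      (Over.pullback τ).map i := (hcentτ.2.2 _ _).2 fun X' x h => by
    rw [← MonObj.mul_comp, ← MonObj.mul_comp, RedR1.mul_comm_torus (Borel.isTorus_bc_scheme T τ hi.2.2.1)]
  haveI : IsMonHom r := MTSplit.isMonHom_of_comp_mono r _ _ hr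
  obtain ⟨eC, heC, hC'⟩ := MaxTorusBC.exists_trIso hτ C
  obtain ⟨eG, heG, hG'⟩ := MaxTorusBC.exists_trIso hτ G
  haveI : IsMonHom eC.hom := hC'
  haveI : IsMonHom eG.hom := hG'
  haveI : IsMonHom eC.symm.hom := inferInstanceAs (IsMonHom eC.inv)
  haveI : IsMonHom eG.symm.hom := inferInstanceAs (IsMonHom eG.inv)
  obtain ⟨h1, h2, h3⟩ := exists_geomTorus_iso _ ((Over.pullback ψ).map c) eC.symm eG.symm (by
    show _ ≫ eG.inv = eC.inv ≫ _
    rw [Iso.eq_inv_comp, ← Category.assoc, Iso.comp_inv_eq, heC, heG, trIso_natural]) r (by rw [hr]; exact hmaxτ)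
    fun X a x => by
      haveI := hcentτ.2.1
      rw [← cancel_mono ((Over.pullback τ).map ((Over.pullback (Red.geomPt s)).map c)), MonObj.mul_comp,
        MonObj.mul_comp, Category.assoc, hr]
      have h := (hcentτ.2.2 X _).1 ⟨x, rfl⟩ X (𝟙 X) a
      rw [Category.id_comp] at h
      exact h.symm
  exact ⟨_, inferInstance, r ≫ eC.symm.hom, h1, h2, h3⟩

/-- The property is stable under base change. -/
theorem hasGeomTorus_bc {C G : Over S} [GrpObj C] [GrpObj G] (c : C ⟶ G) [IsMonHom c] (hc : HasGeomTorus c)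
    (f : U ⟶ S) : HasGeomTorus ((Over.pullback f).map c) := by
  intro K _ _ ψ
  obtain ⟨R, hRg, r, hrm, hrmax, hrc⟩ := hc K (ψ ≫ f)
  haveI := hrm
  obtain ⟨eC, heC, hC'⟩ := MaxTorusBC.exists_trIso (show ψ ≫ f = ψ ≫ f from rfl) C
  obtain ⟨eG, heG, hG'⟩ := MaxTorusBC.exists_trIso (show ψ ≫ f = ψ ≫ f from rfl) G
  haveI : IsMonHom eC.hom := hC'
  haveI : IsMonHom eG.hom := hG'
  obtain ⟨h1, h2, h3⟩ := exists_geomTorus_iso ((Over.pullback (ψ ≫ f)).map c)
    ((Over.pullback ψ).map ((Over.pullback f).map c)) eC eG (by rw [heC, heG, trIso_natural]) r hrmax hrc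
  exact ⟨R, hRg, r ≫ eC.hom, h1, h2, h3⟩

/-- An open subgroup contains the tori. -/
theorem exists_factor_open {k : Type u} [Field k] {R C C₀ : Over (Spec (CommRingCat.of k))} [GrpObj R] [GrpObj C]
    [GrpObj C₀] [LocallyOfFiniteType C.hom] (hR : Red.IsTorus R) (r : R ⟶ C) [IsMonHom r] (c₀ : C₀ ⟶ C) [IsMonHom c₀]
    [IsOpenImmersion c₀.left] : ∃ r₀ : R ⟶ C₀, r₀ ≫ c₀ = r := by
  haveI := Chev.connectedSpace_of_isTorus hR
  have hsub := GrpField.isSubgroupSet_range c₀
  have hclopen : IsClopen (Set.range c₀.left) :=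
    ⟨hsub.isClosed_of_isOpen c₀.left.isOpenEmbedding.isOpen_range, c₀.left.isOpenEmbedding.isOpen_range⟩
  have hr : Set.range r.left ⊆ Set.range c₀.left := by
    refine (isPreconnected_range r.left.continuous).subset_isClopen hclopen ?_
    refine ⟨η[C].left (IsLocalRing.closedPoint k), ?_, ?_⟩
    · refine ⟨η[R].left (IsLocalRing.closedPoint k), ?_⟩
      rw [← IsMonHom.one_hom (f := r)]
      rfl
    · refine ⟨η[C₀].left (IsLocalRing.closedPoint k), ?_⟩
      rw [← IsMonHom.one_hom (f := c₀)]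
      rfl
  exact ⟨Over.homMk (IsOpenImmersion.lift c₀.left r.left hr) (by
    show _ ≫ C₀.hom = _
    rw [← Over.w c₀, IsOpenImmersion.lift_fac_assoc, Over.w]),
    Over.OverMorphism.ext (IsOpenImmersion.lift_fac _ _ _)⟩

/-- Centrality may be checked on geometric fibres. -/
theorem central_of_geom {T C : Over S} [GrpObj T] [GrpObj C] [LocallyOfFiniteType C.hom]
    (hT : SGA3x.IsMultTypeFT T) (u : T ⟶ C) [IsMonHom u]
    (h : ∀ (s : S) (X : Over (Spec (CommRingCat.of (AlgebraicClosure (S.residueField s)))))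
      (a : X ⟶ Red.bc (Red.geomPt s) T) (x : X ⟶ Red.bc (Red.geomPt s) C),
      (a ≫ (Over.pullback (Red.geomPt s)).map u) * x = x * (a ≫ (Over.pullback (Red.geomPt s)).map u)) :
    ∀ (X : Over S) (t : X ⟶ T) (g : X ⟶ C), (t ≫ u) * g = g * (t ≫ u) := by
  intro X t g
  refine (central_of_fibres hT u ?_ X g t).symm
  intro Y K _ b w hw p q
  let L := AlgebraicClosure K
  let θ : Spec (CommRingCat.of L) ⟶ Spec (CommRingCat.of K) :=
    Spec.map (CommRingCat.ofHom (algebraMap K L))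
  haveI : Surjective θ := ⟨fun _ => ⟨IsLocalRing.closedPoint L, Subsingleton.elim (α := PrimeSpectrum K) _ _⟩⟩
  haveI : Flat θ := Flat.SpecMap_iff.2 (RingHom.flat_algebraMap_iff.2 (inferInstanceAs (Module.Flat K L)))
  haveI : QuasiCompact θ := inferInstance
  haveI : Surjective (pullback.fst b θ) := MorphismProperty.pullback_fst _ _ ‹_›
  haveI : Flat (pullback.fst b θ) := MorphismProperty.pullback_fst _ _ ‹_›
  haveI : QuasiCompact (pullback.fst b θ) := MorphismProperty.pullback_fst _ _ ‹_›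
  haveI : Epi (pullback.fst b θ) := Flat.epi_of_flat_of_surjective _
  obtain ⟨τ, hτ⟩ := exists_lift_geomPt (θ ≫ w)
  let Y' : Over S := Over.mk (pullback.fst b θ ≫ Y.hom)
  let e : Y' ⟶ Y := Over.homMk (pullback.fst b θ) rfl
  have he : Y'.hom = (pullback.snd b θ ≫ τ) ≫ Red.geomPt ((θ ≫ w) (IsLocalRing.closedPoint L)) := by
    rw [Category.assoc, hτ]
    show pullback.fst b θ ≫ Y.hom = _
    rw [← hw]
    rw [← Category.assoc, pullback.condition, Category.assoc]
  have key := comm_of_factor (Red.geomPt _) u (fun X g h' => (h _ X h' g).symm) Y' (pullback.snd b θ ≫ τ) he.symm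
    (e ≫ p) (e ≫ q)
  rw [Category.assoc, ← MonObj.comp_mul, ← MonObj.comp_mul] at key
  haveI : Epi e := (Over.forget S).epi_of_epi_map (inferInstanceAs (Epi (pullback.fst b θ)))
  exact (cancel_epi e).1 key

/-- A maximal torus lying in such a subgroup is central in it. -/
theorem central_of_hasGeomTorus {T C G : Over S} [GrpObj T] [GrpObj C] [GrpObj G] [LocallyOfFiniteType C.hom]
    [LocallyOfFiniteType G.hom] [QuasiCompact G.hom] (c : C ⟶ G) [IsMonHom c] [Mono c] (hc : HasGeomTorus c)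
    (t : T ⟶ C) [IsMonHom t] (ht : Red.IsMaximalTorus (t ≫ c)) :
    ∀ (X : Over S) (a : X ⟶ T) (x : X ⟶ C), (a ≫ t) * x = x * (a ≫ t) := by
  refine central_of_geom (isMultTypeFT_of_isTorus T ht.2.2.1) t fun s X a x => ?_
  let ψ := Red.geomPt s
  obtain ⟨R, hRg, r, hrm, hrmax, hrc⟩ := hc _ ψ
  haveI := hrm
  haveI : LocallyOfFiniteType (Red.bc ψ G).hom := inferInstanceAs (LocallyOfFiniteType (pullback.snd G.hom ψ))
  haveI : QuasiCompact (Red.bc ψ G).hom := inferInstanceAs (QuasiCompact (pullback.snd G.hom ψ))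
  haveI : PreservesLimitsOfShape WalkingCospan (Over.pullback ψ) :=
    (Adjunction.rightAdjoint_preservesLimits (Over.mapPullbackAdj ψ)).preservesLimitsOfShape
  haveI : Mono ((Over.pullback ψ).map c) := inferInstance
  obtain ⟨y, hy⟩ := Chev.Borel.exists_factor_maxTorus_of_commute (r ≫ (Over.pullback ψ).map c) hrmax
    (Borel.isTorus_bc_scheme T ψ ht.2.2.1) ((Over.pullback ψ).map t ≫ (Over.pullback ψ).map c) fun X' a' x' => by
      rw [← Category.assoc, ← Category.assoc, ← MonObj.mul_comp, ← MonObj.mul_comp, hrc]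
  have hy' : y ≫ r = (Over.pullback ψ).map t := (cancel_mono ((Over.pullback ψ).map c)).1 (by rw [Category.assoc, hy])
  rw [← hy', ← Category.assoc, hrc]

end Groth.Agent.MTImage
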