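import Groth.Agent.MTImage.CartanFamily

/-!
# Subgroups containing Cartan subgroups on geometric fibres
-/

set_option autoImplicit false
set_option linter.style.haveILetI false
set_option backward.isDefEq.respectTransparency false
set_option maxHeartbeats 1000000
set_option synthInstance.maxHeartbeats 400000

universe u

noncomputable section

open CategoryTheory Limits MonoidalCategory CartesianMonoidalCategory MonObj GrpObj AlgebraicGeometry
open scoped CategoryTheory.Obj

namespace Groth.Agent.MTImage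

open Groth.Agent.MTBridge Groth.Agent.Chev Groth.Agent.Chev.MaxTorusExt

variable {S : Scheme.{u}}

/-- The geometric fibres of `i : H ⟶ G` contain Cartan subgroups. -/
def CartanIn {H G : Over S} [GrpObj H] [GrpObj G] (i : H ⟶ G) : Prop :=
  ∀ s : S, ∃ (C' : Over (Spec (CommRingCat.of (AlgebraicClosure (S.residueField s))))) (_ : GrpObj C')
    (c' : C' ⟶ Red.geomFibre s H), SGA3x.IsCartanOver _ (c' ≫ (Over.pullback (Red.geomPt s)).map i)

/-- Containing Cartan subgroups holds at every geometric point. -/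
theorem exists_cartan_pt {H G : Over S} [GrpObj H] [GrpObj G] [LocallyOfFiniteType G.hom] [QuasiCompact G.hom]
    (i : H ⟶ G) [IsMonHom i] (h : CartanIn i) {K : Type u} [Field K] [IsAlgClosed K]
    (ψ : Spec (CommRingCat.of K) ⟶ S) :
    ∃ (C' : Over (Spec (CommRingCat.of K))) (_ : GrpObj C') (c' : C' ⟶ Red.bc ψ H),
      SGA3x.IsCartanOver K (c' ≫ (Over.pullback ψ).map i) := by
  obtain ⟨τ, hτ⟩ := exists_lift_geomPt ψ
  let a := Red.geomPt (ψ (IsLocalRing.closedPoint K))
  obtain ⟨C', hC'g, c', hc'⟩ := h (ψ (IsLocalRing.closedPoint K))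
  haveI : LocallyOfFiniteType (Red.bc a G).hom := inferInstanceAs (LocallyOfFiniteType (pullback.snd G.hom a))
  haveI : QuasiCompact (Red.bc a G).hom := inferInstanceAs (QuasiCompact (pullback.snd G.hom a))
  obtain ⟨eH, heH, hH'⟩ := MaxTorusBC.exists_trIso hτ H
  obtain ⟨eG, heG, hG'⟩ := MaxTorusBC.exists_trIso hτ G
  haveI : IsMonHom eH.hom := hH'
  haveI : IsMonHom eG.hom := hG'
  haveI : IsMonHom eG.symm.hom := inferInstanceAs (IsMonHom eG.inv)
  haveI : IsMonHom (Iso.refl (Red.bc τ C')).hom := inferInstanceAs (IsMonHom (𝟙 _))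
  have h1 := isCartanOver_bc _ hc' τ
  refine ⟨Red.bc τ C', inferInstance, (Over.pullback τ).map c' ≫ eH.inv,
    isCartanOver_iso (Iso.refl _) eG.symm _ _ ?_ h1⟩
  show _ ≫ eG.inv = 𝟙 _ ≫ _
  have hn : eH.inv ≫ (Over.pullback ψ).map i = (Over.pullback τ).map ((Over.pullback a).map i) ≫ eG.inv := by
    rw [Iso.inv_comp_eq, ← Category.assoc, Iso.eq_comp_inv, heH, heG, trIso_natural]
  rw [Category.id_comp, Category.assoc, hn, Functor.map_comp, Category.assoc]

/-- Containing Cartan subgroups is stable under base change. -/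
theorem cartanIn_bc {U : Scheme.{u}} {H G : Over S} [GrpObj H] [GrpObj G] [LocallyOfFiniteType G.hom]
    [QuasiCompact G.hom] (i : H ⟶ G) [IsMonHom i] (h : CartanIn i) (f : U ⟶ S) :
    CartanIn ((Over.pullback f).map i) := fun u => by
  let φ := Red.geomPt u
  obtain ⟨C', hC'g, c', hc'⟩ := exists_cartan_pt i h (φ ≫ f)
  obtain ⟨eH, heH, hH'⟩ := MaxTorusBC.exists_trIso (show φ ≫ f = φ ≫ f from rfl) H
  obtain ⟨eG, heG, hG'⟩ := MaxTorusBC.exists_trIso (show φ ≫ f = φ ≫ f from rfl) G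
  haveI : IsMonHom eH.hom := hH'
  haveI : IsMonHom eG.hom := hG'
  haveI : IsMonHom (Iso.refl C').hom := inferInstanceAs (IsMonHom (𝟙 _))
  refine ⟨C', hC'g, c' ≫ eH.hom, isCartanOver_iso (Iso.refl _) eG _ _ ?_ hc'⟩
  have hn : (Over.pullback (φ ≫ f)).map i ≫ eG.hom = eH.hom ≫ (Over.pullback φ).map ((Over.pullback f).map i) := by
    rw [heH, heG, trIso_natural]
  rw [Iso.refl_hom, Category.id_comp]
  exact (Category.assoc _ _ _).trans ((congrArg (c' ≫ ·) hn).trans (Category.assoc _ _ _).symm)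

/-- A conjugated family gives the transporter property. -/
theorem conj_of_family {C H G X : Over S} [GrpObj G] (c : C ⟶ G) (j : H ⟶ G) (g : X ⟶ G)
    (w : Red.bc X.hom C ⟶ Red.bc X.hom H)
    (hw : w ≫ (Over.pullback X.hom).map j = (Over.pullback X.hom).map c ≫ (inn (sec g)).hom)
    (X' : Over S) (x : X' ⟶ X) (y : X' ⟶ C) : ∃ h : X' ⟶ H, (x ≫ g) * (y ≫ c) * (x ≫ g)⁻¹ = h ≫ j := by
  let f := X.hom
  let Y : Over X.left := Over.mk x.left
  let e : (Over.map f).obj Y ≅ X' := Over.isoMk (Iso.refl _) (by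
    show 𝟙 _ ≫ X'.hom = x.left ≫ X.hom
    rw [Category.id_comp]
    exact (Over.w x).symm)
  have he : (Over.map f).map (toUnit Y) ≫ (secIso X).hom = e.hom ≫ x := by
    apply Over.OverMorphism.ext
    show x.left ≫ 𝟙 _ = 𝟙 _ ≫ x.left
    simp
  obtain ⟨h₀, hh₀⟩ := exists_toBC' f (toBC f (e.hom ≫ y) ≫ w)
  have h := congrArg (fun m => toBC f (e.hom ≫ y) ≫ m) hw
  simp only [comp_inn, MonObj.comp_mul, GrpObj.comp_inv, ← Category.assoc, comp_toUnit] at h
  rw [← hh₀, sec, ← toBC_naturality, ← toBC_comp, ← toBC_comp, ← toBC_inv, ← toBC_mul, ← toBC_mul] at h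
  have h' := toBC_inj f h
  rw [show toBC f (e.hom ≫ y) ≫ toUnit ((Over.pullback X.hom).obj C) = toUnit Y from toUnit_unique _ _,
    ← Category.assoc ((Over.map f).map (toUnit Y)), he] at h'
  refine ⟨e.inv ≫ h₀, (cancel_epi e.hom).1 ?_⟩
  simp only [MonObj.comp_mul, GrpObj.comp_inv, Category.assoc, Iso.hom_inv_id_assoc] at h' ⊢
  exact h'.symm

/-- **In a subgroup containing Cartan subgroups, what commutes with a maximal torus lies in the subgroup.** -/
theorem factor_of_commute_maxTorus {R H G : Over S} [GrpObj R] [GrpObj H] [GrpObj G] [Smooth G.hom]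
    [IsSeparated G.hom] [QuasiCompact G.hom] [Smooth H.hom] [QuasiCompact H.hom] [IsSeparated H.hom] (i : H ⟶ G)
    [IsMonHom i] [Mono i] (hH : CartanIn i) (r : R ⟶ H) [IsMonHom r] (hr : Red.IsMaximalTorus (r ≫ i))
    (X : Over S) (u : X ⟶ G)
    (hu : ∀ (X' : Over S) (x : X' ⟶ X) (a : X' ⟶ R), (x ≫ u) * (a ≫ r ≫ i) = (a ≫ r ≫ i) * (x ≫ u)) :
    ∃ f : X ⟶ H, f ≫ i = u := by
  haveI : Mono (r ≫ i) := hr.2.1
  haveI : Mono r := mono_of_mono r i
  have hr' : Red.IsMaximalTorus r := isMaximalTorus_of_comp r i hr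
  obtain ⟨C₁, hC₁g, c₁, hC₁, hc₁c, hc₁, -⟩ := Groth.Agent.S4118.result S G R (r ≫ i) hr
  obtain ⟨C₂, hC₂g, c₂, hC₂, hc₂c, hc₂, -⟩ := Groth.Agent.S4118.result S H R r hr'
  haveI := hC₁.1; haveI := hC₁.2.1; haveI := hC₂.1; haveI := hC₂.2.1
  haveI := hc₁c; haveI := hc₂c
  haveI : Smooth C₁.hom := hc₁.2.2.1; haveI : Smooth C₂.hom := hc₂.2.2.1
  obtain ⟨w, hw⟩ := (hC₁.2.2 C₂ (c₂ ≫ i)).2 fun X' x a => by
    have h := (hC₂.2.2 C₂ c₂).1 ⟨𝟙 _, Category.id_comp _⟩ X' x a
    have h2 := congrArg (fun m => m ≫ i) h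
    simpa only [MonObj.mul_comp, Category.assoc] using h2
  haveI : IsMonHom w := MTSplit.isMonHom_of_comp_mono w c₁ (c₂ ≫ i) hw
  haveI : Mono (w ≫ c₁) := by rw [hw]; exact mono_comp _ _
  haveI : Mono w := mono_of_mono w c₁
  haveI : IsIso w.left := FibCrit.isIso_of_fibres (Over.w w) fun t => by
    refine isIso_fibre_of_geom w t ?_
    let a := Red.geomPt t
    haveI : PreservesLimitsOfShape WalkingCospan (Over.pullback a) :=
      (Adjunction.rightAdjoint_preservesLimits (Over.mapPullbackAdj a)).preservesLimitsOfShape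
    haveI : Mono ((Over.pullback a).map i) := inferInstance
    haveI : Smooth (Red.bc a G).hom := inferInstanceAs (Smooth (pullback.snd G.hom a))
    haveI : QuasiCompact (Red.bc a G).hom := inferInstanceAs (QuasiCompact (pullback.snd G.hom a))
    haveI : Smooth (Red.bc a H).hom := inferInstanceAs (Smooth (pullback.snd H.hom a))
    haveI : QuasiCompact (Red.bc a H).hom := inferInstanceAs (QuasiCompact (pullback.snd H.hom a))
    have hC₁a := CentBC.isCentralizerOf_bc a (r ≫ i) c₁ hC₁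
    have hC₂a := CentBC.isCentralizerOf_bc a r c₂ hC₂
    obtain ⟨C', hC'g, c', hc'⟩ := hH t
    have hmax : AGF.IsMaxTorus ((Over.pullback a).map r ≫ (Over.pullback a).map i) := by
      rw [← Functor.map_comp]
      exact Borel.isMaxTorus_of_isMaximalTorus _ (MaxTorusBC.isMaximalTorus_bc _ hr a)
    obtain ⟨f, hf⟩ := exists_factor_of_commute _ c' hc' _ hmax _ ((Over.pullback a).map c₁) fun X' x b => by
      rw [← Functor.map_comp]
      exact (hC₁a.2.2 _ _).1 ⟨𝟙 _, Category.id_comp _⟩ X' x b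
    obtain ⟨v, hv⟩ := (hC₂a.2.2 _ f).2 fun X' x b => by
      rw [← cancel_mono ((Over.pullback a).map i), MonObj.mul_comp, MonObj.mul_comp, Category.assoc, Category.assoc,
        hf, ← Functor.map_comp]
      exact (hC₁a.2.2 _ _).1 ⟨𝟙 _, Category.id_comp _⟩ X' x b
    haveI : Mono ((Over.pullback a).map w) := inferInstance
    haveI : Mono ((Over.pullback a).map c₁) := inferInstance
    haveI : IsSplitEpi ((Over.pullback a).map w) := ⟨⟨⟨v, by
      rw [← cancel_mono ((Over.pullback a).map c₁), Category.assoc, ← Functor.map_comp, hw, Functor.map_comp,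
        reassoc_of% hv, hf, Category.id_comp]⟩⟩⟩
    haveI : IsIso ((Over.pullback a).map w) := isIso_of_mono_of_isSplitEpi _
    exact ((Over.forget _).mapIso (asIso ((Over.pullback a).map w))).isIso_hom
  haveI : IsIso w := (isIso_iff_of_reflects_iso w (Over.forget _)).1 ‹IsIso w.left›
  obtain ⟨z, hz⟩ := (hC₁.2.2 X u).2 hu
  exact ⟨z ≫ CategoryTheory.inv w ≫ c₂, by rw [Category.assoc, Category.assoc, ← hw, IsIso.inv_hom_id_assoc, hz]⟩

/-- **Transporting a maximal torus into such a subgroup transports its Cartan subgroup.** -/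
theorem transporter_torus_eq {G H C T : Over S} [GrpObj G] [GrpObj H] [GrpObj C] [GrpObj T] [Smooth G.hom]
    [IsSeparated G.hom] [QuasiCompact G.hom] [Smooth H.hom] [QuasiCompact H.hom] [IsSeparated H.hom] (i : H ⟶ G)
    [IsMonHom i] [Mono i] (hH : CartanIn i) (t : T ⟶ G) (ht : Red.IsMaximalTorus t) (c : C ⟶ G)
    (hc : Red.IsCentralizerOf t c) (X : Over S) (g : X ⟶ G) :
    (∀ (X' : Over S) (x : X' ⟶ X) (y : X' ⟶ T), ∃ h : X' ⟶ H, (x ≫ g) * (y ≫ t) * (x ≫ g)⁻¹ = h ≫ i) ↔
      ∀ (X' : Over S) (x : X' ⟶ X) (y : X' ⟶ C), ∃ h : X' ⟶ H, (x ≫ g) * (y ≫ c) * (x ≫ g)⁻¹ = h ≫ i := by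
  haveI := ht.1; haveI := ht.2.1; haveI := hc.1; haveI := hc.2.1
  constructor
  · intro hT X' x y
    let f := X.hom
    obtain ⟨w, hwm, hwmono, hw⟩ := exists_conj_family t i g hT
    haveI := hwm
    haveI : PreservesLimitsOfShape WalkingCospan (Over.pullback f) :=
      (Adjunction.rightAdjoint_preservesLimits (Over.mapPullbackAdj f)).preservesLimitsOfShape
    haveI : Mono ((Over.pullback f).map i) := inferInstance
    haveI : Smooth (Red.bc f G).hom := inferInstanceAs (Smooth (pullback.snd G.hom f))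
    haveI : IsSeparated (Red.bc f G).hom := inferInstanceAs (IsSeparated (pullback.snd G.hom f))
    haveI : QuasiCompact (Red.bc f G).hom := inferInstanceAs (QuasiCompact (pullback.snd G.hom f))
    haveI : Smooth (Red.bc f H).hom := inferInstanceAs (Smooth (pullback.snd H.hom f))
    haveI : IsSeparated (Red.bc f H).hom := inferInstanceAs (IsSeparated (pullback.snd H.hom f))
    haveI : QuasiCompact (Red.bc f H).hom := inferInstanceAs (QuasiCompact (pullback.snd H.hom f))
    have htf := MaxTorusBC.isMaximalTorus_bc t ht f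
    have hcf := CentBC.isCentralizerOf_bc f t c hc
    haveI : IsMonHom (Iso.refl (Red.bc f T)).hom := inferInstanceAs (IsMonHom (𝟙 _))
    have hmax : Red.IsMaximalTorus (w ≫ (Over.pullback f).map i) :=
      isMaximalTorus_iso (Iso.refl _) (inn (sec g)) _ _ (by rw [Iso.refl_hom, Category.id_comp]; exact hw.symm)
        htf.2.2.1 htf
    obtain ⟨v, hv⟩ := factor_of_commute_maxTorus _ (cartanIn_bc i hH f) w hmax _
      ((Over.pullback f).map c ≫ (inn (sec g)).hom) fun X'' z a => by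
        have h := congrArg (fun m => m ≫ (inn (sec g)).hom)
          ((hcf.2.2 _ _).1 ⟨𝟙 _, Category.id_comp _⟩ X'' z a)
        simp only [MonObj.mul_comp, Category.assoc] at h
        rw [hw]
        exact h
    exact conj_of_family c i g v hv X' x y
  · intro hC X' x y
    obtain ⟨t', ht'⟩ : ∃ t' : T ⟶ C, t' ≫ c = t := (hc.2.2 T t).2 fun X'' z a => by
      rw [← MonObj.mul_comp, ← MonObj.mul_comp, RedR1.mul_comm_torus ht.2.2.1]
    obtain ⟨h, hh⟩ := hC X' x (y ≫ t')
    exact ⟨h, by rw [← hh, Category.assoc, ht']⟩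

end Groth.Agent.MTImage
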