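import Groth.Agent.MTImage.CartanField
import Groth.Agent.Chev.CentNilp

/-!
# Nilpotent groups and central tori

A smooth connected algebraic group over an algebraically closed field is nilpotent if and only if its tori are
central, if and only if it has a single maximal torus.
-/

set_option autoImplicit false
set_option linter.style.haveILetI false
set_option backward.isDefEq.respectTransparency false
set_option maxHeartbeats 1000000
set_option synthInstance.maxHeartbeats 400000

universe u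

noncomputable section

open CategoryTheory CategoryTheory.Limits MonoidalCategory CartesianMonoidalCategory MonObj GrpObj AlgebraicGeometry

namespace Groth.Agent.MTImage

open Groth.Agent.Chev Groth.Agent.Chev.Borel Groth.Agent.Chev.BorelFixed

variable {k : Type u} [Field k] [IsAlgClosed k]
  {G : Over (Spec (CommRingCat.of k))} [GrpObj G] [Smooth G.hom] [QuasiCompact G.hom] [ConnectedSpace G.left]

/-- **In a nilpotent group every torus is central.** -/
theorem torus_central_general (hnil : Group.IsNilpotent (RP G)) {T : Over (Spec (CommRingCat.of k))} [GrpObj T]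
    (j : T ⟶ G) [IsMonHom j] [Mono j] (hT : Red.IsTorus T) (X : Over (Spec (CommRingCat.of k))) (t : X ⟶ T)
    (g : X ⟶ G) : (t ≫ j) * g = g * (t ≫ j) := by
  obtain ⟨L, D, Q, hL, hD, hQ, l, d, q, R⟩ := exists_affReduction G
  haveI := R.l_hom; haveI := R.l_closed; haveI := R.l_affine; haveI := R.l_smooth; haveI := R.l_connected
  haveI : Mono l := GrpField.SchImg.mono_of_isClosedImmersion l
  obtain ⟨t₀, ht₀, htm, htmono⟩ := exists_factor_torus R j hT
  haveI := htm; haveI := htmono
  haveI := hnil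
  haveI : Group.IsNilpotent (RP L) := Subgroup.isNilpotent_of_ker_le_center (rpHom l) fun a ha => by
    have h1 : a ≫ l = 1 ≫ l := (MonoidHom.mem_ker.1 ha).trans (MonObj.one_comp l).symm
    rw [(cancel_mono l).1 h1]
    exact one_mem _
  have hrp : ∀ (g : RP G) (p : RP T), g * (p ≫ j) = (p ≫ j) * g := fun g p => by
    obtain ⟨a, z, rfl⟩ := R.decomp g
    have h1 : (a ≫ l) * (p ≫ j) = (p ≫ j) * (a ≫ l) := by
      rw [← ht₀, ← Category.assoc, ← MonObj.mul_comp, torus_central_of_nilpotent hT t₀ a p, MonObj.mul_comp]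
    calc (a ≫ l) * (z ≫ d) * (p ≫ j) = (a ≫ l) * ((p ≫ j) * (z ≫ d)) := by
          rw [_root_.mul_assoc, R.central _ z (p ≫ j)]
      _ = _ := by rw [← _root_.mul_assoc, h1, _root_.mul_assoc]
  haveI := smooth_of_isTorus hT
  haveI : IsSeparated G.hom := GrpField.isSeparated_hom G
  haveI : Smooth (G ⊗ T).hom := by
    show Smooth (pullback.fst G.hom T.hom ≫ G.hom)
    infer_instance
  have huniv : fst G T * (snd G T ≫ j) = (snd G T ≫ j) * fst G T := hom_ext_kpts fun z => by
    rw [MonObj.comp_mul, MonObj.comp_mul, ← Category.assoc, hrp]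
  have e := congrArg (fun m => lift g t ≫ m) huniv
  simp only [MonObj.comp_mul, lift_fst, lift_snd_assoc] at e
  exact e.symm

/-- **Central tori form a single maximal torus.** -/
theorem unique_maxTorus_of_central
    (h : ∀ (T : Over (Spec (CommRingCat.of k))) [GrpObj T] (j : T ⟶ G) [IsMonHom j] [Mono j], Red.IsTorus T →
      ∀ (X : Over (Spec (CommRingCat.of k))) (t : X ⟶ T) (g : X ⟶ G), (t ≫ j) * g = g * (t ≫ j))
    {T₁ T₂ : Over (Spec (CommRingCat.of k))} [GrpObj T₁] [GrpObj T₂] (i₁ : T₁ ⟶ G) (i₂ : T₂ ⟶ G)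
    (h₁ : Red.IsMaximalTorus i₁) (h₂ : Red.IsMaximalTorus i₂) : ∃ φ : T₁ ≅ T₂, φ.hom ≫ i₂ = i₁ := by
  haveI := h₁.1; haveI := h₁.2.1
  obtain ⟨g, φ, hφ⟩ := exists_conjBy_maxTori i₁ (isMaxTorus_of_isMaximalTorus _ h₁) i₂
    (isMaxTorus_of_isMaximalTorus _ h₂)
  refine ⟨φ, ?_⟩
  have hc := h T₁ i₁ h₁.2.2.1 T₁ (𝟙 T₁) (toUnit T₁ ≫ g)
  rw [Category.id_comp] at hc
  rw [← hφ, ← hc, mul_inv_cancel_right]

/-- **A single maximal torus makes the group nilpotent.** -/
theorem isNilpotent_of_unique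
    (h : ∀ (T₁ T₂ : Over (Spec (CommRingCat.of k))) [GrpObj T₁] [GrpObj T₂] (i₁ : T₁ ⟶ G) (i₂ : T₂ ⟶ G),
      Red.IsMaximalTorus i₁ → Red.IsMaximalTorus i₂ → ∃ φ : T₁ ≅ T₂, φ.hom ≫ i₂ = i₁) :
    Group.IsNilpotent (RP G) := by
  obtain ⟨L, D, Q, hL, hD, hQ, l, d, q, R⟩ := exists_affReduction G
  haveI := R.l_hom; haveI := R.l_closed; haveI := R.l_affine; haveI := R.l_smooth; haveI := R.l_connected
  haveI := R.d_hom; haveI := R.d_closed
  haveI : Mono l := GrpField.SchImg.mono_of_isClosedImmersion l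
  obtain ⟨T, B, hT, hB, t, b, htm, -, hb, hmax, -⟩ := exists_maxTorus L
  have hmaxG : ∀ (i : T ⟶ L), AGF.IsMaxTorus i → Red.IsMaximalTorus (i ≫ l) := fun i hi => by
    haveI := hi.1; haveI := hi.2.1
    refine isMaximalTorus_of_isMaxTorus _
      ⟨inferInstance, inferInstance, hi.2.2.1, fun T' _ j _ _ f hT' hf => ?_⟩
    obtain ⟨t', ht', htm', htmono'⟩ := exists_factor_torus R j hT'
    haveI := htm'; haveI := htmono'
    exact hi.2.2.2 T' t' f hT' (by rw [← cancel_mono l, Category.assoc, ht', hf])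
  have hconj : ∀ a : RP L, AGF.IsMaxTorus (AGF.conjBy a (t ≫ b)) := fun a => by
    haveI := hmax.1; haveI := hmax.2.1
    haveI := isMonHom_conjBy a (t ≫ b)
    haveI := mono_conjBy a (t ≫ b)
    refine ⟨inferInstance, inferInstance, hmax.2.2.1, fun T' _ j _ _ f hT' hf => ?_⟩
    haveI := isMonHom_conjBy a⁻¹ j
    haveI := mono_conjBy a⁻¹ j
    exact hmax.2.2.2 T' (AGF.conjBy a⁻¹ j) f hT' (by
      rw [comp_conjBy', hf, conjBy_conjBy, inv_mul_cancel, conjBy_one])
  haveI hLnil : Group.IsNilpotent (RP L) := isNilpotent_rp_of_central (t ≫ b) hmax fun p g =>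
    torus_central_of_normal (t ≫ b) hmax (fun a => by
      obtain ⟨φ, hφ⟩ := h T T ((t ≫ b) ≫ l) (AGF.conjBy a (t ≫ b) ≫ l) (hmaxG _ hmax) (hmaxG _ (hconj a))
      refine ⟨φ.symm, ?_⟩
      rw [← Category.assoc, cancel_mono] at hφ
      rw [Iso.symm_hom, Iso.inv_comp_eq, hφ]) g p
  letI : CommGroup (RP D) :=
    { (inferInstance : Group (RP D)) with
      mul_comm := fun a c => by
        haveI : Mono d := GrpField.SchImg.mono_of_isClosedImmersion d
        rw [← cancel_mono d, MonObj.mul_comp, MonObj.mul_comp]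
        exact R.central _ a (c ≫ d) }
  exact Group.nilpotent_of_surjective
    (MonoidHom.noncommCoprod (rpHom l) (rpHom d) fun a z => (R.central _ z (a ≫ l)).symm)
    fun g => by
      obtain ⟨a, z, hg⟩ := R.decomp g
      exact ⟨(a, z), hg⟩

end Groth.Agent.MTImage
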