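import Groth.Agent.MTImage.Cartan
import Groth.Agent.S8433

/-!
# Descent of maximal tori

A maximal torus over an fpqc cover whose two pullbacks to the fibre square agree descends.
-/

set_option autoImplicit false
set_option linter.style.haveILetI false
set_option backward.isDefEq.respectTransparency false
set_option maxHeartbeats 1000000
set_option synthInstance.maxHeartbeats 400000

universe u

noncomputable section

open CategoryTheory Limits MonoidalCategory CartesianMonoidalCategory MonObj GrpObj AlgebraicGeometry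
open scoped CategoryTheory.Obj

namespace Groth.Agent.MTImage

open Groth.Agent.MTBridge

/-- The two pullbacks of a subgroup over a cover agree. -/
def DescentPair {S S' : Scheme.{u}} {π : S' ⟶ S} {G : Over S} {T : Over S'} (i : T ⟶ Red.bc π G) : Prop :=
  ∀ {W : Scheme.{u}} (x₁ x₂ : W ⟶ S') (c : W ⟶ S) (e₁c : x₁ ≫ π = c) (e₂c : x₂ ≫ π = c)
    (e₁ : Red.bc c G ≅ Red.bc x₁ (Red.bc π G)) (e₂ : Red.bc c G ≅ Red.bc x₂ (Red.bc π G)),
    e₁.hom = Chev.MaxTorusExt.tr e₁c (𝟙 _) → e₂.hom = Chev.MaxTorusExt.tr e₂c (𝟙 _) →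
    ∃ y : Red.bc x₁ T ⟶ Red.bc x₂ T,
      y ≫ (Over.pullback x₂).map i = (Over.pullback x₁).map i ≫ e₁.inv ≫ e₂.hom

/-- The kernel-pair criterion for a central maximal torus on a cover. -/
theorem kernelPair {S S' : Scheme.{u}} {π : S' ⟶ S} {G : Over S} [GrpObj G] [LocallyOfFiniteType G.hom]
    [QuasiCompact G.hom] {T : Over S'} [GrpObj T] (i : T ⟶ Red.bc π G) (hT : Red.IsMaximalTorus i)
    (hpair : DescentPair i) {W : Scheme.{u}}
    (w₁ w₂ : W ⟶ pullback G.hom π) (hw : w₁ ≫ pullback.fst G.hom π = w₂ ≫ pullback.fst G.hom π)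
    (h₁ : ∃ l, l ≫ i.left = w₁) : ∃ l, l ≫ i.left = w₂ := by
  obtain ⟨l, hl⟩ := h₁
  haveI := hT.1
  let x₁ := w₁ ≫ pullback.snd G.hom π
  let x₂ := w₂ ≫ pullback.snd G.hom π
  have h : x₁ ≫ π = x₂ ≫ π := by
    simp only [x₁, x₂, Category.assoc, ← pullback.condition]
    rw [reassoc_of% hw]
  let c := x₁ ≫ π
  have e₁c : x₁ ≫ π = c := rfl
  have e₂c : x₂ ≫ π = c := h.symm
  obtain ⟨e₁, he₁, he₁'⟩ := Chev.MaxTorusBC.exists_trIso e₁c G
  obtain ⟨e₂, he₂, he₂'⟩ := Chev.MaxTorusBC.exists_trIso e₂c G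
  haveI : IsMonHom e₁.hom := he₁'
  haveI : IsMonHom e₂.hom := he₂'
  haveI : IsMonHom e₁.inv := inferInstance
  haveI : LocallyOfFiniteType (Red.bc π G).hom := inferInstanceAs (LocallyOfFiniteType (pullback.snd G.hom π))
  haveI : QuasiCompact (Red.bc π G).hom := inferInstanceAs (QuasiCompact (pullback.snd G.hom π))
  haveI : LocallyOfFiniteType (Red.bc x₂ (Red.bc π G)).hom :=
    inferInstanceAs (LocallyOfFiniteType (pullback.snd (Red.bc π G).hom x₂))
  haveI : QuasiCompact (Red.bc x₂ (Red.bc π G)).hom :=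
    inferInstanceAs (QuasiCompact (pullback.snd (Red.bc π G).hom x₂))
  obtain ⟨y, hy⟩ := hpair x₁ x₂ c e₁c e₂c e₁ e₂ he₁ he₂
  let I : Over W := Over.mk (𝟙 W)
  let a₁ : (Over.map x₁).obj I ⟶ T := Over.homMk l (by
    show l ≫ T.hom = 𝟙 W ≫ x₁
    rw [Category.id_comp, ← Over.w i, reassoc_of% hl]
    rfl)
  obtain ⟨a₂, ha₂⟩ := exists_toBC' x₂ (toBC x₁ a₁ ≫ y)
  let b₁ : (Over.map x₁).obj I ⟶ Red.bc π G := Over.homMk w₁ (by
    show w₁ ≫ pullback.snd G.hom π = 𝟙 W ≫ x₁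
    rw [Category.id_comp])
  let b₂ : (Over.map x₂).obj I ⟶ Red.bc π G := Over.homMk w₂ (by
    show w₂ ≫ pullback.snd G.hom π = 𝟙 W ≫ x₂
    rw [Category.id_comp])
  let z : (Over.map c).obj I ⟶ G := Over.homMk (w₁ ≫ pullback.fst G.hom π) (by
    show (w₁ ≫ pullback.fst G.hom π) ≫ G.hom = 𝟙 W ≫ c
    rw [Category.id_comp, Category.assoc, pullback.condition]
    exact (Category.assoc _ _ _).symm)
  have hb₁ : toBC x₁ b₁ = toBC c z ≫ e₁.hom := by
    rw [he₁, ← Chev.MaxTorusExt.tr_naturality, Category.comp_id, Chev.MaxTorusExt.tr_toBC]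
    congr 1
    apply Over.OverMorphism.ext
    apply pullback.hom_ext
    · rw [MTDescent.left_toBC_fst_eq]
      show w₁ ≫ pullback.fst G.hom π = 𝟙 W ≫ w₁ ≫ pullback.fst G.hom π
      rw [Category.id_comp]
    · exact (Over.w b₁).trans (Over.w (toBC π _)).symm
  have hb₂ : toBC x₂ b₂ = toBC c z ≫ e₂.hom := by
    rw [he₂, ← Chev.MaxTorusExt.tr_naturality, Category.comp_id, Chev.MaxTorusExt.tr_toBC]
    congr 1
    apply Over.OverMorphism.ext
    apply pullback.hom_ext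
    · rw [MTDescent.left_toBC_fst_eq]
      show w₂ ≫ pullback.fst G.hom π = 𝟙 W ≫ w₁ ≫ pullback.fst G.hom π
      rw [Category.id_comp, hw]
    · exact (Over.w b₂).trans (Over.w (toBC π _)).symm
  have hab : a₁ ≫ i = b₁ := Over.OverMorphism.ext hl
  have hfin : a₂ ≫ i = b₂ := MTBridge.toBC_inj x₂ (by
    rw [toBC_comp, ha₂, Category.assoc, hy, ← Category.assoc, ← toBC_comp, hab, hb₁, hb₂, Category.assoc,
      e₁.hom_inv_id_assoc])
  exact ⟨a₂.left, congrArg (fun m => m.left) hfin⟩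


/-- **Maximal tori descend.** -/
theorem exists_descend_maxTorus {S S' : Scheme.{u}} {G : Over S} [GrpObj G] [QuasiCompact G.hom]
    [QuasiSeparated G.hom] [LocallyOfFinitePresentation G.hom] (f : S' ⟶ S) (hf : Flat f) (hfs : Surjective f)
    (hcov : ∀ V : S.Opens, IsAffineOpen V → ∃ W : S'.Opens, IsCompact (W : Set S') ∧ f.base '' (W : Set S') = (V : Set S))
    {T' : Over S'} [GrpObj T'] (i' : T' ⟶ Red.bc f G) (hmax : Red.IsMaximalTorus i') (hpair : DescentPair i') :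
    ∃ (T : Over S) (_ : GrpObj T) (i : T ⟶ G), Red.IsMaximalTorus i ∧
      ∃ φ : Red.bc f T ≅ T', IsMonHom φ.hom ∧ φ.hom ≫ i' = (Over.pullback f).map i := by
  haveI := hf; haveI := hfs
  haveI := hmax.1; haveI := hmax.2.1
  haveI : LocallyOfFiniteType G.hom := inferInstance
  haveI : Mono i'.left := inferInstanceAs (Mono ((Over.forget _).map i'))
  have hTm := MTBridge.isMultTypeFT_of_isTorus T' hmax.2.2.1
  haveI : IsAffineHom (i'.left ≫ Limits.pullback.snd G.hom f) := by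
    rw [show i'.left ≫ Limits.pullback.snd G.hom f = T'.hom from Over.w i']
    exact MTBridge.isAffineHom T' hTm
  obtain ⟨Y, m, hm, e, he⟩ := MTDescent.exists_descend_affine_mono f hcov G i'.left
    (fun w₁ w₂ hw h₁ => kernelPair i' hmax hpair w₁ w₂ hw h₁)
  haveI : Flat (Over.mk f).hom := hf
  haveI : Surjective (Over.mk f).hom := hfs
  obtain ⟨hg, i, hi, hil, hHm, φ, hφ⟩ := MTDescent.exists_subgroup_of_descended (B := Over.mk f) hcov hTm i' m hm e he
  haveI := hi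
  replace hφ : φ.hom ≫ i' = (Over.pullback f).map i := hφ
  let T := Over.mk (m ≫ G.hom)
  haveI : Mono i.left := by rw [hil]; exact hm
  haveI : Mono i := Over.mono_of_mono_left i
  haveI : Limits.PreservesLimitsOfShape Limits.WalkingCospan (Over.pullback f) :=
    (Adjunction.rightAdjoint_preservesLimits (Over.mapPullbackAdj f)).preservesLimitsOfShape
  haveI : IsMonHom φ.hom := MTSplit.isMonHom_of_comp_mono φ.hom i' ((Over.pullback f).map i) hφ
  have hTt : Red.IsTorus T := by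
    obtain ⟨S'', g', hf', hs', hlift, hloc⟩ := hmax.2.2.1
    haveI := hf'
    haveI := hs'
    refine ⟨S'', g' ≫ f, inferInstance, inferInstance, MTDescent.cov_comp g' f hlift hcov, fun s => ?_⟩
    obtain ⟨V, hV, r, ⟨eM⟩⟩ := hloc s
    exact ⟨V, hV, r, ⟨MTBridge.bcCongr (Category.assoc V.ι g' f).symm T ≪≫
      MTBridge.bcComp f (V.ι ≫ g') T ≪≫ MTBridge.bcMapIso (V.ι ≫ g') (Grp.mkIso' φ) ≪≫ eM⟩⟩
  have hT : Red.IsMaximalTorus i := Chev.MaxTorusBC.isMaximalTorus_descend f i hTt (by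
    rw [← hφ]
    exact Groth.Agent.S8433.isMaximalTorus_of_iso_left φ i' (Chev.Borel.isTorus_bc_scheme T f hTt) hmax)
  exact ⟨T, hg, i, hT, φ, inferInstance, hφ⟩

end Groth.Agent.MTImage
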