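import Groth.Agent.MTImage.Kernel
import Groth.Agent.MTImage.RootScheme
import Groth.Agent.Chev.Complement
import Groth.Agent.Chev.TorusExt
import Groth.Agent.SubGen.AlgClosed
import Groth.Agent.CoverMap.Quot

/-!
# Torsion of a split torus is dense, so finitely many torsion points have the centralizer of the torus
-/

set_option autoImplicit false
set_option linter.style.haveILetI false
set_option backward.isDefEq.respectTransparency false
set_option maxHeartbeats 1000000
set_option synthInstance.maxHeartbeats 400000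

universe u

noncomputable section

open CategoryTheory Limits MonoidalCategory CartesianMonoidalCategory MonObj GrpObj AlgebraicGeometry
open scoped CategoryTheory.Obj
open Groth.Agent.MTBridge Groth.Agent.HomDiag Groth.Agent.MTQuot
open Groth.Agent.SubGen (rpt exists_rpt map_rpt)

namespace Groth.Agent.MTImage

variable {k : Type u} [Field k] [IsAlgClosed k] {r : ℕ}

local notation "Sk" => Spec (CommRingCat.of k)

/-- A root of unity placed on one coordinate. -/
theorem exists_coord_point (ζ : kˣ) (j : Fin r) :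
    ∃ t : 𝟙_ (Over Sk) ⟶ Red.DS Sk (Fin r → ℤ), ∀ v : Fin r → ℤ,
      ch t (Multiplicative.ofAdd v) = (Scheme.ΓSpecIso (CommRingCat.of k)).inv.hom ((ζ ^ (v j) : kˣ) : k) := by
  let χ : Multiplicative (Fin r → ℤ) →* Γ((𝟙_ (Over Sk)).left, ⊤) :=
    { toFun := fun v => (Scheme.ΓSpecIso (CommRingCat.of k)).inv.hom ((ζ ^ (v.toAdd j) : kˣ) : k)
      map_one' := by
        rw [show (1 : Multiplicative (Fin r → ℤ)).toAdd j = 0 from rfl, zpow_zero, Units.val_one, map_one]
      map_mul' := fun v w => by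
        rw [show (v * w).toAdd j = v.toAdd j + w.toAdd j from rfl, zpow_add, Units.val_mul, map_mul]
        }
  obtain ⟨t, ht⟩ := exists_ch (S := Sk) χ
  exact ⟨t, fun v => ht _⟩

/-- **A closed subgroup of a split torus containing the `l`-power torsion is everything.** -/
theorem factor_of_torsion (l : ℕ) (hl : 1 < l) (hlk : (l : k) ≠ 0) {E : Over Sk} [GrpObj E]
    (i : E ⟶ Red.DS Sk (Fin r → ℤ)) [IsMonHom i] [IsClosedImmersion i.left]
    (h : ∀ (n : ℕ) (t : 𝟙_ (Over Sk) ⟶ Red.DS Sk (Fin r → ℤ)), t ^ (l ^ n) = 1 → ∃ y, y ≫ i = t)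
    {X : Over Sk} (x : X ⟶ Red.DS Sk (Fin r → ℤ)) : ∃ y, y ≫ i = x := by
  haveI : LocallyOfFinitePresentation (Red.DS Sk (Fin r → ℤ)).hom :=
    Groth.Agent.MTBridge.locallyOfFinitePresentation_of_isMultTypeFT _ (MTTorus.isMultTypeFT_DS _ _)
  haveI : LocallyOfFiniteType E.hom := by rw [← Over.w i]; infer_instance
  haveI : LocallyOfFinitePresentation E.hom := inferInstance
  haveI : Mono i.left := inferInstance
  haveI : Mono i := Over.mono_of_mono_left i
  have hEm := Groth.Agent.S19598.result E _ (MTTorus.isMultTypeFT_DS _ _) i inferInstance inferInstance inferInstance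
  obtain ⟨S', f, Nf, hf, hopen, hloc⟩ := exists_nfun i hEm
  let s₀ : Sk := IsLocalRing.closedPoint k
  haveI : Subsingleton Sk := inferInstanceAs (Subsingleton (PrimeSpectrum k))
  have hfac : ∀ {X : Over Sk} (x : X ⟶ Red.DS Sk (Fin r → ℤ)),
      (∃ y, y ≫ i = x) ↔ x ≫ Red.DSmap Sk (Nf s₀).subtype = 1 := fun {X} x =>
    factor_iff i hf hloc (Nf s₀) (fun p => congrArg Nf (Subsingleton.elim _ _)) x
  have hN : ∀ v ∈ Nf s₀, v = 0 := fun v hv => by
    by_contra hne
    obtain ⟨j, hj⟩ : ∃ j, v j ≠ 0 := Function.ne_iff.1 hne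
    let n := (v j).natAbs
    haveI : NeZero ((l ^ n : ℕ) : k) := ⟨by rw [Nat.cast_pow]; exact pow_ne_zero _ hlk⟩
    obtain ⟨ζ₀, hζ⟩ := HasEnoughRootsOfUnity.exists_primitiveRoot k (l ^ n)
    obtain ⟨ζ, rfl⟩ := hζ.isUnit (pow_ne_zero _ (by omega))
    obtain ⟨t, ht⟩ := exists_coord_point ζ j
    have htn : t ^ (l ^ n) = 1 := ch_ext fun w => by
      obtain ⟨w, rfl⟩ := Multiplicative.ofAdd.surjective w
      rw [MTTorus.ch_pow, ch_one, ← ofAdd_nsmul, ht]
      rw [show ((l ^ n) • w) j = ((l ^ n : ℕ) : ℤ) * w j by simp, zpow_mul, zpow_natCast,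
        show ζ ^ (l ^ n) = 1 from Units.ext (by simpa using hζ.pow_eq_one), one_zpow, Units.val_one, map_one]
    obtain ⟨y, hy⟩ := h n t htn
    have h1 := (hfac t).1 ⟨y, hy⟩
    rw [comp_eq_one_iff] at h1
    have h2 := h1 v hv
    rw [ht v] at h2
    have h3 : ((ζ ^ (v j) : kˣ) : k) = 1 := by
      have := congrArg (Scheme.ΓSpecIso (CommRingCat.of k)).hom.hom h2
      simpa using this
    have h4 : ((l ^ n : ℕ) : ℤ) ∣ v j := by
      rw [← (IsPrimitiveRoot.coe_units_iff.1 hζ).zpow_eq_one_iff_dvd]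
      exact Units.ext h3
    have h5 : l ^ n ∣ n := by simpa [n] using Int.natAbs_dvd_natAbs.2 h4
    have h6 : n < l ^ n := Nat.lt_pow_self hl
    exact absurd (Nat.le_of_dvd (by omega) h5) (by omega)
  refine (hfac x).2 ((comp_eq_one_iff _ x).2 fun v hv => ?_)
  rw [hN v hv, ofAdd_zero, map_one]

/-- Points of a split torus are determined by the values on the coordinates. -/
theorem finite_torsion (N : ℕ) (hN : 0 < N) :
    {t : 𝟙_ (Over Sk) ⟶ Red.DS Sk (Fin r → ℤ) | t ^ N = 1}.Finite := by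
  classical
  let gam := (Scheme.ΓSpecIso (CommRingCat.of k)).hom.hom
  let val : (𝟙_ (Over Sk) ⟶ Red.DS Sk (Fin r → ℤ)) → (Fin r → k) := fun t j =>
    gam (ch t (Multiplicative.ofAdd (Pi.single j 1)))
  have hgam : Function.Injective gam := ((Scheme.ΓSpecIso (CommRingCat.of k)).commRingCatIsoToRingEquiv).injective
  refine Set.Finite.of_finite_image (f := val) ?_ ?_
  · refine Set.Finite.subset (Set.Finite.pi' fun _ : Fin r => (Polynomial.nthRoots N (1 : k)).toFinset.finite_toSet) ?_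
    rintro _ ⟨t, ht, rfl⟩ j
    show gam _ ∈ ((Polynomial.nthRoots N (1 : k)).toFinset : Set k)
    rw [Finset.mem_coe, Multiset.mem_toFinset, Polynomial.mem_nthRoots hN, ← map_pow, (map_pow (ch t) _ N).symm,
      ← MTTorus.ch_pow,
      show t ^ N = 1 from ht, ch_one, map_one]
  · intro a _ b _ hab
    refine ch_ext fun v => ?_
    have key : AddMonoidHom.comp (MonoidHom.toAdditiveRight (ch a)) (AddMonoidHom.id _) =
        AddMonoidHom.comp (MonoidHom.toAdditiveRight (ch b)) (AddMonoidHom.id _) := by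
      refine AddMonoidHom.functions_ext _ _ _ fun j z => ?_
      have h1 : ch a (Multiplicative.ofAdd (Pi.single j 1)) = ch b (Multiplicative.ofAdd (Pi.single j 1)) :=
        hgam (congrFun hab j)
      have h2 : MonoidHom.comp (ch a) (zpowersHom _ (Multiplicative.ofAdd (Pi.single j (1 : ℤ)))) =
          MonoidHom.comp (ch b) (zpowersHom _ (Multiplicative.ofAdd (Pi.single j (1 : ℤ)))) := by
        refine MonoidHom.ext_mint ?_
        simp only [MonoidHom.comp_apply, zpowersHom_apply]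
        simpa using h1
      have h3 := DFunLike.congr_fun h2 (Multiplicative.ofAdd z)
      simp only [MonoidHom.comp_apply, zpowersHom_apply] at h3
      have h4 : (Multiplicative.ofAdd (Pi.single (M := fun _ : Fin r => ℤ) j (1 : ℤ))) ^ z = Multiplicative.ofAdd (Pi.single j z) := by
        rw [← ofAdd_zsmul, ← Pi.single_smul, smul_eq_mul, _root_.mul_one]
      rw [show (Multiplicative.ofAdd z).toAdd = z from rfl, h4] at h3
      exact congrArg Additive.ofMul h3
    exact congrArg Additive.toMul (DFunLike.congr_fun key v.toAdd)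

/-- Finitely many torsion points have the same centralizer as all of them, when torsion is dense. -/
theorem exists_torsion_centralizer_aux (l : ℕ) (hl : 1 < l) (hlk : (l : k) ≠ 0) {D G : Over Sk} [GrpObj D] [GrpObj G]
    [Smooth G.hom] [QuasiCompact G.hom] (u : D ⟶ G) [IsMonHom u]
    (hfinD : ∀ N, 0 < N → {t : 𝟙_ (Over Sk) ⟶ D | t ^ N = 1}.Finite)
    (hdense : ∀ {E : Over Sk} [GrpObj E] (i : E ⟶ D) [IsMonHom i] [IsClosedImmersion i.left],
      (∀ (n : ℕ) (t : 𝟙_ (Over Sk) ⟶ D), t ^ (l ^ n) = 1 → ∃ y, y ≫ i = t) →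
        ∀ t : 𝟙_ (Over Sk) ⟶ D, ∃ y, y ≫ i = t) :
    ∃ (m : ℕ) (L : List (𝟙_ (Over Sk) ⟶ D)), (∀ t ∈ L, t ^ (l ^ m) = 1) ∧
      ∀ b : 𝟙_ (Over Sk) ⟶ G, (∀ t ∈ L, (t ≫ u) * b = b * (t ≫ u)) →
        ∀ t : 𝟙_ (Over Sk) ⟶ D, (t ≫ u) * b = b * (t ≫ u) := by
  classical
  haveI : IsSeparated G.hom := GrpField.isSeparated_hom G
  haveI : IsLocallyNoetherian G.left := LocallyOfFiniteType.isLocallyNoetherian G.hom
  haveI : CompactSpace G.left := QuasiCompact.compactSpace_of_compactSpace G.hom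
  haveI : IsNoetherian G.left := {}
  have hu1 : ∀ (n : ℕ) (t : 𝟙_ (Over Sk) ⟶ D), t ^ (l ^ n) = 1 → (t ≫ u) ^ (l ^ n) = 1 := fun n t ht => by
    rw [← MTTorus.comp_pow_hom, ht, MonObj.one_comp]
  have hlu : ∀ n, IsUnit ((l ^ n : ℕ) : Γ(Sk, ⊤)) := fun n => by
    have h : IsUnit ((l ^ n : ℕ) : k) := (isUnit_iff_ne_zero.2 hlk).map (RingHom.id k) |>.pow n |> fun h => by
      simpa using h
    have h' := h.map (Scheme.ΓSpecIso (CommRingCat.of k)).inv.hom
    rwa [map_natCast] at h'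
  choose C hCg c hcm hcc _ _ _ hC using fun p : {p : ℕ × (𝟙_ (Over Sk) ⟶ D) // p.2 ^ (l ^ p.1) = 1} =>
    exists_centralizer_section (p.1.2 ≫ u) (l ^ p.1.1) (pow_pos (by omega) _) (hu1 _ _ p.2) (hlu _)
  have hcomm : ∀ p (b : 𝟙_ (Over Sk) ⟶ G), (p.1.2 ≫ u) * b = b * (p.1.2 ≫ u) ↔ ∃ z, z ≫ c p = b := fun p b => by
    have h := hC p _ b
    rwa [toUnit_unit, Category.id_comp] at h
  let W : ℕ → TopologicalSpace.Closeds G.left := fun n =>
    ⨅ (p : {p : ℕ × (𝟙_ (Over Sk) ⟶ D) // p.2 ^ (l ^ p.1) = 1}) (_ : p.1.1 ≤ n),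
      ⟨Set.range (c p).left, haveI := hcc p; (c p).left.isClosedEmbedding.isClosed_range⟩
  obtain ⟨m, hm⟩ : ∃ m, ∀ n, m ≤ n → W m = W n := by
    have hmono : Antitone W := fun a b hab => le_iInf₂ fun p hp => iInf₂_le p (hp.trans hab)
    obtain ⟨m, hm⟩ := WellFoundedLT.antitone_chain_condition hmono
    exact ⟨m, fun n hn => (hm n hn)⟩
  have hfin : {t : 𝟙_ (Over Sk) ⟶ D | t ^ (l ^ m) = 1}.Finite := hfinD _ (pow_pos (by omega) m)
  refine ⟨m, hfin.toFinset.toList, fun t ht => by simpa using ht, fun b hb t₀ => ?_⟩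
  have hmem : ∀ (n : ℕ) (t : 𝟙_ (Over Sk) ⟶ D), t ^ (l ^ n) = 1 → (t ≫ u) * b = b * (t ≫ u) := by
    have h0 : rpt b ∈ (W m : Set G.left) := by
      simp only [W, TopologicalSpace.Closeds.coe_iInf, Set.mem_iInter]
      intro p hp
      have hpm : p.1.2 ^ (l ^ m) = 1 := by
        obtain ⟨j, hj⟩ := Nat.exists_eq_add_of_le hp
        rw [hj, pow_add, pow_mul, p.2, _root_.one_pow]
      obtain ⟨z, hz⟩ := (hcomm p b).1 (hb p.1.2 (by simpa using hpm))
      exact ⟨rpt z, by rw [map_rpt, hz]⟩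
    intro n t ht
    have h1 : rpt b ∈ (W (max m n) : Set G.left) := by rw [← hm _ (le_max_left m n)]; exact h0
    simp only [W, TopologicalSpace.Closeds.coe_iInf, Set.mem_iInter] at h1
    have h2 := h1 ⟨(n, t), ht⟩ (le_max_right m n)
    haveI := hcc ⟨(n, t), ht⟩
    haveI : IsReduced (𝟙_ (Over Sk)).left := inferInstanceAs (IsReduced Sk)
    haveI : Subsingleton (𝟙_ (Over Sk)).left := inferInstanceAs (Subsingleton (PrimeSpectrum k))
    obtain ⟨z, hz⟩ := Chev.exists_lift_range b (c ⟨(n, t), ht⟩) (by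
      rintro _ ⟨y, rfl⟩
      rw [Subsingleton.elim y (IsLocalRing.closedPoint k)]
      exact h2)
    exact (hcomm ⟨(n, t), ht⟩ b).2 ⟨z, hz⟩
  -- the equalizer of `u` and its conjugate
  let v : D ⟶ G := u ≫ (inn b).hom
  haveI : IsMonHom v := inferInstanceAs (IsMonHom (u ≫ (inn b).hom))
  let δ : G ⟶ G ⊗ G := lift (𝟙 G) (𝟙 G)
  haveI : IsClosedImmersion δ.left := by
    rw [show δ.left = pullback.diagonal G.hom from CoverMap.diag_left G]; infer_instance
  let q : D ⟶ G ⊗ G := lift u v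
  let E : Over Sk := Over.mk (pullback.fst q.left δ.left ≫ D.hom)
  let i : E ⟶ D := Over.homMk (pullback.fst q.left δ.left) rfl
  haveI : IsClosedImmersion i.left := inferInstanceAs (IsClosedImmersion (pullback.fst q.left δ.left))
  haveI : Mono i.left := inferInstance
  haveI : Mono i := Over.mono_of_mono_left i
  have hE : ∀ {X : Over Sk} (x : X ⟶ D), (∃ y, y ≫ i = x) ↔ x ≫ u = x ≫ v := fun {X} x => by
    constructor
    · rintro ⟨y, rfl⟩
      let snd' : E ⟶ G := Over.homMk (pullback.snd q.left δ.left) (by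
        show pullback.snd q.left δ.left ≫ G.hom = pullback.fst q.left δ.left ≫ D.hom
        rw [← Over.w q, ← Over.w δ, pullback.condition_assoc])
      have h : i ≫ q = snd' ≫ δ := Over.OverMorphism.ext pullback.condition
      have h1 := congrArg (fun z => z ≫ fst G G) h
      have h2 := congrArg (fun z => z ≫ snd G G) h
      simp only [q, δ, Category.assoc, lift_fst, lift_snd, Category.comp_id] at h1 h2
      rw [Category.assoc, Category.assoc, h1, h2]
    · intro hx
      have h : x ≫ q = (x ≫ u) ≫ δ := by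
        simp only [q, δ, comp_lift, Category.comp_id]
        rw [hx]
      exact ⟨Over.homMk (pullback.lift x.left (x ≫ u).left (congrArg (fun z => z.left) h)) (by
        show pullback.lift _ _ _ ≫ pullback.fst _ _ ≫ D.hom = _
        rw [pullback.lift_fst_assoc, Over.w]), Over.OverMorphism.ext (pullback.lift_fst _ _ _)⟩
  obtain ⟨hEg, hEm⟩ := Groth.Agent.MTBridge.exists_grpObj_of_div i
    ((hE η[D]).2 (by rw [IsMonHom.one_hom (f := u), IsMonHom.one_hom (f := v)]))
    fun X p q' => (hE _).2 (by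
      have hp := (hE (p ≫ i)).1 ⟨p, rfl⟩
      have hq := (hE (q' ≫ i)).1 ⟨q', rfl⟩
      rw [MonObj.mul_comp, MonObj.mul_comp, GrpObj.inv_comp, GrpObj.inv_comp, hp, hq])
  haveI := hEm
  have hiff : ∀ t : 𝟙_ (Over Sk) ⟶ D, (t ≫ u) * b = b * (t ≫ u) ↔ t ≫ u = t ≫ v := fun t => by
    have e : t ≫ v = b * (t ≫ u) * b⁻¹ := by
      show t ≫ u ≫ (inn b).hom = _
      rw [← Category.assoc, comp_inn, toUnit_unit, Category.id_comp]
    rw [e, eq_mul_inv_iff_mul_eq]
  have key := hdense i (fun n t ht => (hE t).2 ((hiff t).1 (hmem n t ht))) t₀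
  exact (hiff _).2 ((hE _).1 key)

/-- Torsion of a split torus, transported. -/
theorem finite_torsion_of_iso {R D : Over Sk} [GrpObj R] [GrpObj D] (e : R ≅ D) [IsMonHom e.hom] (N : ℕ)
    (h : {t : 𝟙_ (Over Sk) ⟶ D | t ^ N = 1}.Finite) : {t : 𝟙_ (Over Sk) ⟶ R | t ^ N = 1}.Finite := by
  refine (h.image (· ≫ e.inv)).subset fun t ht => ⟨t ≫ e.hom, ?_, by simp⟩
  show (t ≫ e.hom) ^ N = 1
  rw [← MTTorus.comp_pow_hom, show t ^ N = 1 from ht, MonObj.one_comp]

/-- Density, for split tori. -/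
theorem dense_of_split (l : ℕ) (hl : 1 < l) (hlk : (l : k) ≠ 0) {R : Over Sk} [GrpObj R]
    (e : R ≅ Red.DS Sk (Fin r → ℤ)) [IsMonHom e.hom] {E : Over Sk} [GrpObj E] (i : E ⟶ R) [IsMonHom i]
    [IsClosedImmersion i.left] (ht : ∀ (n : ℕ) (t : 𝟙_ (Over Sk) ⟶ R), t ^ (l ^ n) = 1 → ∃ y, y ≫ i = t)
    (t : 𝟙_ (Over Sk) ⟶ R) : ∃ y, y ≫ i = t := by
  haveI : IsMonHom e.inv := inferInstance
  haveI : IsIso e.hom.left := ((Over.forget _).mapIso e).isIso_hom
  haveI : IsClosedImmersion (i ≫ e.hom).left := inferInstanceAs (IsClosedImmersion (i.left ≫ e.hom.left))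
  obtain ⟨y, hy⟩ := factor_of_torsion l hl hlk (i ≫ e.hom) (fun n s hs => by
    obtain ⟨y, hy⟩ := ht n (s ≫ e.inv) (by
      rw [← MTTorus.comp_pow_hom e.inv s, hs]
      exact one_comp_hom (A := Red.DS Sk (Fin r → ℤ)) (B := R) e.inv)
    exact ⟨y, by rw [reassoc_of% hy, Iso.inv_hom_id, Category.comp_id]⟩) (t ≫ e.hom)
  exact ⟨y, (cancel_mono e.hom).1 (by rw [Category.assoc, hy])⟩

/-- **Finitely many torsion points of a torus have the same centralizer as the torus.** -/
theorem exists_torsion_centralizer (l : ℕ) (hl : 1 < l) (hlk : (l : k) ≠ 0) {R G : Over Sk} [GrpObj R] [GrpObj G]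
    [Smooth G.hom] [QuasiCompact G.hom] (hR : Red.IsTorus R) (w : R ⟶ G) [IsMonHom w] :
    ∃ (m : ℕ) (L : List (𝟙_ (Over Sk) ⟶ R)), (∀ t ∈ L, t ^ (l ^ m) = 1) ∧
      ∀ b : 𝟙_ (Over Sk) ⟶ G, (∀ t ∈ L, (t ≫ w) * b = b * (t ≫ w)) →
        ∀ t : 𝟙_ (Over Sk) ⟶ R, (t ≫ w) * b = b * (t ≫ w) := by
  obtain ⟨d, ⟨e⟩⟩ := Chev.exists_split_algClosed hR
  let e' : R ≅ Red.DS Sk (Fin d → ℤ) := ⟨e.hom.hom.hom, e.inv.hom.hom, ((Grp.forget _).mapIso e).hom_inv_id,
    ((Grp.forget _).mapIso e).inv_hom_id⟩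
  haveI : IsMonHom e'.hom := e.hom.hom.isMonHom_hom
  exact exists_torsion_centralizer_aux l hl hlk w
    (fun N hN => finite_torsion_of_iso e' N (finite_torsion N hN))
    (fun i _ _ ht t => dense_of_split l hl hlk e' i ht t)

end Groth.Agent.MTImage
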