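import Groth.Agent.MTImage.RootScheme
import Groth.Agent.MTTorus.Basic

/-!
# Lifting finitely many commuting torsion points over a smooth base

After a smooth base change through a given geometric point, the common centralizer of finitely many commuting points of
invertible `l`-power order (`l = 2, 3`) becomes a smooth closed subgroup.
-/

set_option autoImplicit false
set_option linter.style.haveILetI false
set_option backward.isDefEq.respectTransparency false
set_option maxHeartbeats 1000000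
set_option synthInstance.maxHeartbeats 400000

universe u

noncomputable section

open CategoryTheory Limits MonoidalCategory CartesianMonoidalCategory MonObj GrpObj AlgebraicGeometry
open scoped CategoryTheory.Obj

namespace Groth.Agent.MTImage

open Groth.Agent.MTBridge Groth.Agent.Chev.MaxTorusExt

variable {S : Scheme.{u}} {K : Type u} [Field K] {x : Spec (CommRingCat.of K) ⟶ S}

/-- A point of `P` seen over `P`. -/
def ptIso {P : Over S} (p : Over.mk x ⟶ P) : (Over.map P.hom).obj (Over.mk p.left) ≅ Over.mk x :=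
  Over.isoMk (Iso.refl _) (by simpa using (Over.w p).symm)

/-- The value of a point in the base change. -/
def pt {P G : Over S} (p : Over.mk x ⟶ P) (b : Over.mk x ⟶ G) : Over.mk p.left ⟶ Red.bc P.hom G :=
  toBC P.hom ((ptIso p).hom ≫ b)

theorem pt_mul {P G : Over S} [GrpObj G] (p : Over.mk x ⟶ P) (a b : Over.mk x ⟶ G) :
    pt p (a * b) = pt p a * pt p b := by
  rw [pt, MonObj.comp_mul, toBC_mul]; rfl

theorem pt_pow {P G : Over S} [GrpObj G] (p : Over.mk x ⟶ P) (a : Over.mk x ⟶ G) (n : ℕ) :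
    pt p (a ^ n) = pt p a ^ n := by
  rw [pt, MonObj.comp_pow, MTTorus.toBC_pow]; rfl

theorem pt_injective {P G : Over S} (p : Over.mk x ⟶ P) {a b : Over.mk x ⟶ G} (h : pt p a = pt p b) : a = b :=
  (cancel_epi (ptIso p).hom).1 (toBC_inj P.hom h)

theorem pt_comm_iff {P G : Over S} [GrpObj G] (p : Over.mk x ⟶ P) (a b : Over.mk x ⟶ G) :
    pt p a * pt p b = pt p b * pt p a ↔ a * b = b * a := by
  rw [← pt_mul, ← pt_mul]
  exact ⟨pt_injective p, fun h => by rw [h]⟩

theorem exists_pt {P G : Over S} (p : Over.mk x ⟶ P) (z : Over.mk p.left ⟶ Red.bc P.hom G) :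
    ∃ a, pt p a = z := by
  obtain ⟨a, rfl⟩ := exists_toBC' P.hom z
  exact ⟨(ptIso p).inv ≫ a, by rw [pt, Iso.hom_inv_id_assoc]⟩

/-- A point of a scheme over `S` seen as a section over that scheme. -/
def secIso (P : Over S) : (Over.map P.hom).obj (𝟙_ (Over P.left)) ≅ P :=
  Over.isoMk (Iso.refl _) (show 𝟙 P.left ≫ P.hom = 𝟙 P.left ≫ P.hom from rfl)

/-- The section given by a point. -/
def sec {P G : Over S} (g : P ⟶ G) : 𝟙_ (Over P.left) ⟶ Red.bc P.hom G :=
  toBC P.hom ((secIso P).hom ≫ g)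

theorem toUnit_sec {P G : Over S} (p : Over.mk x ⟶ P) (g : P ⟶ G) :
    toUnit (Over.mk p.left) ≫ sec g = pt p (p ≫ g) := by
  have e : (Over.map P.hom).map (toUnit (Over.mk p.left)) ≫ (secIso P).hom = (ptIso p).hom ≫ p := by
    apply Over.OverMorphism.ext
    show p.left ≫ 𝟙 _ = 𝟙 _ ≫ p.left
    simp
  rw [sec, ← toBC_naturality, pt, ← Category.assoc, e, Category.assoc]

theorem sec_pow {P G : Over S} [GrpObj G] (g : P ⟶ G) (n : ℕ) : sec (g ^ n) = sec g ^ n := by
  rw [sec, MonObj.comp_pow, MTTorus.toBC_pow]; rfl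

theorem sec_one {P G : Over S} [GrpObj G] : sec (1 : P ⟶ G) = 1 := by
  rw [sec, MonObj.comp_one, MTKernel.toBC_one]

theorem isUnit_natCast {U : Scheme.{u}} (π : U ⟶ S) (l : ℕ) (hu : IsUnit (l : Γ(S, ⊤))) :
    IsUnit (l : Γ(U, ⊤)) := by
  have h := hu.map π.appTop.hom
  rwa [map_natCast] at h

/-- **Torsion points lift after a smooth base change.** -/
theorem exists_torsion_lift (l : ℕ) (hl : l = 2 ∨ l = 3) (m : ℕ) : ∀ {S : Scheme.{u}} (G : Over S) [GrpObj G]
    [Smooth G.hom] [IsSeparated G.hom] [QuasiCompact G.hom], IsUnit (l : Γ(S, ⊤)) →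
    ∀ {x : Spec (CommRingCat.of K) ⟶ S} (a : Over.mk x ⟶ G), a ^ (l ^ m) = 1 →
    ∃ (P : Over S) (p : Over.mk x ⟶ P) (g : P ⟶ G), Smooth P.hom ∧ g ^ (l ^ m) = 1 ∧ p ≫ g = a := by
  induction m with
  | zero =>
    intro S G _ _ _ _ hu x a ha
    rw [pow_zero, pow_one] at ha
    exact ⟨𝟙_ (Over S), toUnit _, 1, inferInstanceAs (Smooth (𝟙 S)), by rw [_root_.one_pow], by rw [ha, MonObj.comp_one]⟩
  | succ m ih =>
    intro S G _ _ _ _ hu x a ha
    have hlpos : 0 < l := by rcases hl with rfl | rfl <;> norm_num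
    rw [pow_succ', pow_mul] at ha
    obtain ⟨P, p, g, hP, hg, hpg⟩ := ih G hu (a ^ l) ha
    haveI := hP
    haveI : Smooth (Red.bc P.hom G).hom := inferInstanceAs (Smooth (pullback.snd G.hom P.hom))
    haveI : IsSeparated (Red.bc P.hom G).hom := inferInstanceAs (IsSeparated (pullback.snd G.hom P.hom))
    haveI : QuasiCompact (Red.bc P.hom G).hom := inferInstanceAs (QuasiCompact (pullback.snd G.hom P.hom))
    have hu' := isUnit_natCast P.hom l hu
    obtain ⟨Z, hZg, i, him, hic, hZs, hZq, hZsep, hZ⟩ := exists_centralizer_section (sec g) (l ^ m)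
      (pow_pos hlpos m) (by rw [← sec_pow, hg, sec_one]) (by rw [Nat.cast_pow]; exact hu'.pow m)
    haveI := him; haveI := hic; haveI := hZs; haveI := hZq; haveI := hZsep
    haveI : Mono i.left := inferInstance
    haveI : Mono i := Over.mono_of_mono_left i
    obtain ⟨h, hh⟩ := (hZ _ (sec g)).1 (by rw [toUnit_unit, Category.id_comp])
    have hhc : ∀ (X : Over P.left) (z : X ⟶ Z), (toUnit X ≫ h) * z = z * (toUnit X ≫ h) := fun X z => by
      rw [← cancel_mono i, MonObj.mul_comp, MonObj.mul_comp, Category.assoc, hh]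
      exact (hZ X _).2 ⟨z, rfl⟩
    obtain ⟨P', r, hP', -, -, hr, hroot⟩ := exists_root_scheme h hhc l hl hu'
    haveI := hP'
    obtain ⟨za, hza⟩ := (hZ _ (pt p a)).1 (by
      rw [toUnit_sec p g, hpg, pt_comm_iff]
      exact (Commute.self_pow a l).symm)
    obtain ⟨p', hp'⟩ := hroot _ za (by
      rw [← cancel_mono i, MTTorus.comp_pow_hom, hza, Category.assoc, hh, toUnit_sec p g, hpg, pt_pow])
    obtain ⟨g', hg'⟩ := exists_toBC' P.hom (r ≫ i)
    haveI : Smooth ((Over.map P.hom).obj P').hom := inferInstanceAs (Smooth (P'.hom ≫ P.hom))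
    refine ⟨(Over.map P.hom).obj P', (ptIso p).inv ≫ (Over.map P.hom).map p', g', inferInstance, ?_, ?_⟩
    · refine toBC_inj P.hom ?_
      rw [MTTorus.toBC_pow, MTKernel.toBC_one, hg', ← MTTorus.comp_pow_hom, pow_succ', pow_mul, hr,
        MTTorus.comp_pow_hom, Category.assoc, hh, ← MonObj.comp_pow, ← sec_pow, hg, sec_one, MonObj.comp_one]
    · refine pt_injective p ?_
      rw [pt, Category.assoc, Iso.hom_inv_id_assoc, toBC_naturality, hg', ← Category.assoc, hp', hza]

/-- **The common centralizer of commuting torsion points, after a smooth base change.** -/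
theorem exists_centralizer_list (l : ℕ) (hl : l = 2 ∨ l = 3) (m : ℕ) {S : Scheme.{u}} (G : Over S) [GrpObj G]
    [Smooth G.hom] [IsSeparated G.hom] [QuasiCompact G.hom] (hu : IsUnit (l : Γ(S, ⊤)))
    {x : Spec (CommRingCat.of K) ⟶ S} : ∀ (L : List (Over.mk x ⟶ G)), (∀ a ∈ L, a ^ (l ^ m) = 1) →
    (∀ a ∈ L, ∀ b ∈ L, a * b = b * a) →
    ∃ (P : Over S) (p : Over.mk x ⟶ P) (Z : Over P.left) (_ : GrpObj Z) (i : Z ⟶ Red.bc P.hom G),
      Smooth P.hom ∧ IsMonHom i ∧ IsClosedImmersion i.left ∧ Smooth Z.hom ∧ QuasiCompact Z.hom ∧ IsSeparated Z.hom ∧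
      ∀ b : Over.mk x ⟶ G, (∃ z, z ≫ i = pt p b) ↔ ∀ a ∈ L, a * b = b * a := by
  intro L
  induction L with
  | nil =>
    intro _ _
    exact ⟨𝟙_ (Over S), toUnit _, Red.bc (𝟙_ (Over S)).hom G, inferInstance, 𝟙 _,
      inferInstanceAs (Smooth (𝟙 S)), inferInstance, inferInstanceAs (IsClosedImmersion (𝟙 _)),
      inferInstanceAs (Smooth (pullback.snd G.hom (𝟙_ (Over S)).hom)),
      inferInstanceAs (QuasiCompact (pullback.snd G.hom (𝟙_ (Over S)).hom)),
      inferInstanceAs (IsSeparated (pullback.snd G.hom (𝟙_ (Over S)).hom)),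
      fun b => ⟨fun _ a ha => (List.not_mem_nil ha).elim, fun _ => ⟨_, Category.comp_id _⟩⟩⟩
  | cons a L ih =>
    intro hN hc
    obtain ⟨P, p, Z, hZg, i, hP, him, hic, hZs, hZq, hZsep, hZ⟩ := ih
      (fun b hb => hN b (List.mem_cons_of_mem _ hb))
      (fun b hb c hc' => hc b (List.mem_cons_of_mem _ hb) c (List.mem_cons_of_mem _ hc'))
    haveI := hP; haveI := him; haveI := hic; haveI := hZs; haveI := hZq; haveI := hZsep
    haveI : Mono i.left := inferInstance
    haveI : Mono i := Over.mono_of_mono_left i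
    have hlpos : 0 < l := by rcases hl with rfl | rfl <;> norm_num
    obtain ⟨za, hza⟩ := (hZ a).2 fun b hb => hc b (List.mem_cons_of_mem _ hb) a List.mem_cons_self
    obtain ⟨P', p', g, hP', hg, hpg⟩ := exists_torsion_lift (K := K) l hl m Z (isUnit_natCast P.hom l hu) za (by
      rw [← cancel_mono i, MTTorus.comp_pow_hom, hza, ← pt_pow, hN a List.mem_cons_self, MonObj.one_comp i, pt,
        MonObj.comp_one, MTKernel.toBC_one])
    haveI := hP'
    haveI : Smooth (Red.bc P'.hom Z).hom := inferInstanceAs (Smooth (pullback.snd Z.hom P'.hom))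
    haveI : IsSeparated (Red.bc P'.hom Z).hom := inferInstanceAs (IsSeparated (pullback.snd Z.hom P'.hom))
    haveI : QuasiCompact (Red.bc P'.hom Z).hom := inferInstanceAs (QuasiCompact (pullback.snd Z.hom P'.hom))
    obtain ⟨C, hCg, c, hcm, hcc, hCs, hCq, hCsep, hC⟩ := exists_centralizer_section (sec g) (l ^ m)
      (pow_pos hlpos m) (by rw [← sec_pow, hg, sec_one])
      (by rw [Nat.cast_pow]; exact (isUnit_natCast P'.hom l (isUnit_natCast P.hom l hu)).pow m)
    haveI := hcm; haveI := hcc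
    obtain ⟨eG, heG, hG'⟩ := Chev.MaxTorusBC.exists_trIso (show P'.hom ≫ P.hom = P'.hom ≫ P.hom from rfl) G
    haveI : IsMonHom eG.hom := hG'
    haveI : IsMonHom eG.inv := inferInstance
    haveI : IsClosedImmersion ((Over.pullback P'.hom).map i).left :=
      MorphismProperty.of_isPullback (P := @IsClosedImmersion) (isPullback_map i P'.hom) hic
    haveI : Mono ((Over.pullback P'.hom).map i).left := inferInstance
    haveI : Mono ((Over.pullback P'.hom).map i) := Over.mono_of_mono_left _
    haveI : IsIso eG.inv.left := ((Over.forget _).mapIso eG).symm.isIso_hom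
    let j : C ⟶ Red.bc (P'.hom ≫ P.hom) G := c ≫ (Over.pullback P'.hom).map i ≫ eG.inv
    let P'' : Over S := (Over.map P.hom).obj P'
    let q : Over.mk x ⟶ P'' := (ptIso p).inv ≫ (Over.map P.hom).map p'
    have hq : q.left = p'.left := Category.id_comp _
    let ε : Over.mk q.left ≅ Over.mk p'.left := Over.isoMk (Iso.refl _) (by
      show 𝟙 _ ≫ p'.left = q.left
      rw [Category.id_comp, hq])
    have htr : ∀ b : Over.mk x ⟶ G, pt q b ≫ eG.hom = ε.hom ≫ toBC P'.hom ((ptIso p').hom ≫ pt p b) := fun b => by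
      rw [heG]
      refine (tr_eq_comp (show P'.hom ≫ P.hom = P''.hom from rfl) (pt q b)).symm.trans ?_
      refine (tr_toBC _ _).trans ?_
      rw [pt, ← toBC_naturality]
      congr 1
      rw [← toBC_naturality (j := P.hom), ← toBC_naturality (j := P.hom)]
      congr 1
    haveI : Smooth P''.hom := inferInstanceAs (Smooth (P'.hom ≫ P.hom))
    haveI : IsMonHom j := inferInstanceAs (IsMonHom (c ≫ (Over.pullback P'.hom).map i ≫ eG.inv))
    haveI : IsClosedImmersion j.left :=
      inferInstanceAs (IsClosedImmersion (c.left ≫ ((Over.pullback P'.hom).map i).left ≫ eG.inv.left))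
    refine ⟨P'', q, C, hCg, j, inferInstance, inferInstance, inferInstance, hCs, hCq, hCsep, fun b => ?_⟩
    constructor
    · rintro ⟨z, hz⟩
      have hz1 : (z ≫ c) ≫ (Over.pullback P'.hom).map i = ε.hom ≫ toBC P'.hom ((ptIso p').hom ≫ pt p b) := by
        rw [← htr, ← hz]
        simp only [j, Category.assoc, Iso.inv_hom_id, Category.comp_id]
      obtain ⟨w, hw⟩ := exists_pt p' (ε.inv ≫ z ≫ c)
      have hwb : w ≫ i = pt p b := pt_injective p' (by
        have h2 : pt p' w ≫ (Over.pullback P'.hom).map i = toBC P'.hom ((ptIso p').hom ≫ pt p b) := by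
          rw [hw, Category.assoc, Category.assoc]
          rw [Category.assoc] at hz1
          rw [hz1, Iso.inv_hom_id_assoc]
        rw [pt, ← toBC_comp] at h2
        rw [pt, pt, ← Category.assoc]
        exact h2)
      intro a' ha'
      rcases List.mem_cons.1 ha' with rfl | ha'
      · have hcom := (hC _ (ε.inv ≫ z ≫ c)).2 ⟨ε.inv ≫ z, Category.assoc _ _ _⟩
        rw [← hw, toUnit_sec p' g, hpg, pt_comm_iff] at hcom
        have h3 := congrArg (fun y => y ≫ i) hcom
        simp only [MonObj.mul_comp, hza, hwb] at h3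
        exact (pt_comm_iff p _ _).1 h3
      · exact (hZ b).1 ⟨w, hwb⟩ a' ha'
    · intro hb
      obtain ⟨w, hw⟩ := (hZ b).2 fun a' ha' => hb a' (List.mem_cons_of_mem _ ha')
      obtain ⟨z, hz⟩ := (hC _ (pt p' w)).1 (by
        rw [toUnit_sec p' g, hpg, pt_comm_iff, ← cancel_mono i, MonObj.mul_comp, MonObj.mul_comp, hza, hw,
          pt_comm_iff]
        exact hb a List.mem_cons_self)
      refine ⟨ε.hom ≫ z, (cancel_mono eG.hom).1 ?_⟩
      rw [htr, Category.assoc]
      simp only [j, Category.assoc, Iso.inv_hom_id, Category.comp_id]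
      rw [← Category.assoc z c, hz, pt, ← toBC_comp, Category.assoc, hw]

end Groth.Agent.MTImage
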