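import Groth.Agent.MTImage.CentralLocus
import Groth.Agent.MTImage.TorsionLift
import Groth.Agent.MTImage.TorsionDense
import Groth.Agent.MTImage.Sigma
import Groth.Agent.SmSect.Basic
import Groth.Agent.PtsDense.Basic
import Groth.Agent.SmoothRed.Basic
import Groth.Agent.S4098

/-!
# Maximal tori exist etale locally

A smooth separated group of finite type with maximal tori fpqc locally has maximal tori etale locally: near a point,
lift finitely many torsion points of a maximal torus of a geometric fibre over a smooth base, take their common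
centralizer, and cut the smooth base by an etale section.
-/

set_option autoImplicit false
set_option linter.style.haveILetI false
set_option backward.isDefEq.respectTransparency false
set_option maxHeartbeats 1000000
set_option synthInstance.maxHeartbeats 400000

universe u

noncomputable section

open CategoryTheory Limits MonoidalCategory CartesianMonoidalCategory MonObj GrpObj AlgebraicGeometry
open scoped CategoryTheory.Obj

namespace Groth.Agent.MTImage

open Groth.Agent.MTBridge Groth.Agent.Chev Groth.Agent.Chev.MaxTorusExt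

variable {S : Scheme.{u}} {K : Type u} [Field K]

/-- Being covered by maximal tori fpqc locally is stable under base change. -/
theorem hasMaxTorusFpqcLocally_bc {U : Scheme.{u}} {G : Over S} [GrpObj G] [LocallyOfFiniteType G.hom]
    [QuasiCompact G.hom] (hG : SGA3x.HasMaxTorusFpqcLocally G) (g : U ⟶ S) :
    SGA3x.HasMaxTorusFpqcLocally (Red.bc g G) := by
  obtain ⟨S₁, f, hff, hfs, hfc, T₁, hT₁g, i₁, hi₁⟩ := hG
  haveI := hi₁.1
  let a := pullback.fst f g
  let b := pullback.snd f g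
  haveI : LocallyOfFiniteType (Red.bc f G).hom := inferInstanceAs (LocallyOfFiniteType (pullback.snd G.hom f))
  haveI : QuasiCompact (Red.bc f G).hom := inferInstanceAs (QuasiCompact (pullback.snd G.hom f))
  obtain ⟨e₁, -, h₁⟩ := MaxTorusBC.exists_trIso (show a ≫ f = a ≫ f from rfl) G
  obtain ⟨e₂, -, h₂⟩ := MaxTorusBC.exists_trIso (show b ≫ g = a ≫ f from pullback.condition.symm) G
  haveI : IsMonHom e₁.hom := h₁
  haveI : IsMonHom e₂.hom := h₂
  haveI : IsMonHom e₁.inv := inferInstance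
  let e : Red.bc a (Red.bc f G) ≅ Red.bc b (Red.bc g G) := e₁.symm ≪≫ e₂
  haveI : IsMonHom e.hom := inferInstanceAs (IsMonHom (e₁.inv ≫ e₂.hom))
  haveI : IsMonHom (Iso.refl (Red.bc a T₁)).hom := inferInstanceAs (IsMonHom (𝟙 (Red.bc a T₁)))
  exact ⟨pullback f g, b, MorphismProperty.pullback_snd _ _ hff, MorphismProperty.pullback_snd _ _ hfs,
    MTBridge.lift_bc f g hfc, _, inferInstance, _,
    isMaximalTorus_iso (Iso.refl _) e _ ((Over.pullback a).map i₁ ≫ e.hom)
      (by rw [Iso.refl_hom, Category.id_comp]) (Borel.isTorus_bc_scheme T₁ a hi₁.2.2.1)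
      (MaxTorusBC.isMaximalTorus_bc i₁ hi₁ a)⟩

/-- The neutral component of a smooth group has connected fibres. -/
theorem connected_fibre_neutral {Z C : Over S} [GrpObj Z] [LocallyOfFiniteType Z.hom] (c : C ⟶ Z)
    [IsOpenImmersion c.left] (hc : Set.range c.left.base = SGA3x.neutralSet Z) (s : S) :
    ConnectedSpace ↥(pullback C.hom (S.fromSpecResidueField s)) := by
  have hfib : c.left.base '' (C.hom.base ⁻¹' {s}) = GrpDim.comp0 Z s := by
    rw [show (C.hom.base ⁻¹' {s} : Set C.left) = c.left.base ⁻¹' (Z.hom.base ⁻¹' {s}) by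
      rw [← Set.preimage_comp, ← TopCat.coe_comp, ← Scheme.Hom.comp_base, Over.w c],
      Set.image_preimage_eq_inter_range, hc]
    ext z
    constructor
    · rintro ⟨hz, hz'⟩
      rw [GrpDim.neutralSet_iff] at hz'
      obtain rfl : Z.hom z = s := hz
      exact hz'
    · intro hz
      obtain rfl : Z.hom z = s := connectedComponentIn_subset (Z.hom.base ⁻¹' {s}) _ hz
      exact ⟨rfl, (GrpDim.neutralSet_iff Z z).2 hz⟩
  have hconn : _root_.IsConnected (C.hom.base ⁻¹' {s}) := by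
    have h := (GrpDim.isIrreducible_comp0 Z s).isConnected
    rw [← hfib] at h
    refine ⟨h.1.of_image, ?_⟩
    exact c.left.isOpenEmbedding.isInducing.isPreconnected_image.1 h.2
  haveI : ConnectedSpace ↥(C.hom ⁻¹' {s}) := isConnected_iff_connectedSpace.1 hconn
  exact (C.hom.fiberHomeo s).symm.surjective.connectedSpace (C.hom.fiberHomeo s).symm.continuous

/-- The point as the terminal object of the base of a point. -/
def kptIso (q : Spec (CommRingCat.of K) ⟶ S) : (Over.map q).obj (𝟙_ (Over (Spec (CommRingCat.of K)))) ≅ Over.mk q :=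
  Over.isoMk (Iso.refl _) (by simp)

/-- A point of `H` over `q` as a point of the base change. -/
def kpt (q : Spec (CommRingCat.of K) ⟶ S) {H : Over S} (b : Over.mk q ⟶ H) :
    𝟙_ (Over (Spec (CommRingCat.of K))) ⟶ Red.bc q H :=
  toBC q ((kptIso q).hom ≫ b)

theorem exists_kpt (q : Spec (CommRingCat.of K) ⟶ S) {H : Over S}
    (z : 𝟙_ (Over (Spec (CommRingCat.of K))) ⟶ Red.bc q H) : ∃ b, kpt q b = z := by
  obtain ⟨a, rfl⟩ := exists_toBC' q z
  exact ⟨(kptIso q).inv ≫ a, by rw [kpt, Iso.hom_inv_id_assoc]⟩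

theorem kpt_mul (q : Spec (CommRingCat.of K) ⟶ S) {H : Over S} [GrpObj H] (a b : Over.mk q ⟶ H) :
    kpt q (a * b) = kpt q a * kpt q b := by
  rw [kpt, MonObj.comp_mul, toBC_mul]; rfl

theorem kpt_pow (q : Spec (CommRingCat.of K) ⟶ S) {H : Over S} [GrpObj H] (a : Over.mk q ⟶ H) (n : ℕ) :
    kpt q (a ^ n) = kpt q a ^ n := by
  rw [kpt, MonObj.comp_pow, MTTorus.toBC_pow]; rfl

theorem kpt_one (q : Spec (CommRingCat.of K) ⟶ S) {H : Over S} [GrpObj H] :
    kpt q (1 : Over.mk q ⟶ H) = 1 := by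
  rw [kpt, MonObj.comp_one, MTKernel.toBC_one]

theorem kpt_comp (q : Spec (CommRingCat.of K) ⟶ S) {H H' : Over S} (b : Over.mk q ⟶ H) (i : H ⟶ H') :
    kpt q (b ≫ i) = kpt q b ≫ (Over.pullback q).map i := by
  rw [kpt, ← Category.assoc, toBC_comp]; rfl

theorem kpt_inj (q : Spec (CommRingCat.of K) ⟶ S) {H : Over S} {a b : Over.mk q ⟶ H} (h : kpt q a = kpt q b) :
    a = b :=
  (cancel_epi (kptIso q).hom).1 (toBC_inj q h)

/-- Points of iterated base changes. -/
theorem kpt_pt {x : Spec (CommRingCat.of K) ⟶ S} {P G : Over S} (p : Over.mk x ⟶ P)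
    (h : p.left ≫ P.hom = x) (b : Over.mk x ⟶ G) :
    kpt x b ≫ MaxTorusExt.tr h (𝟙 _) = kpt p.left (pt p b) := by
  refine (tr_eq_comp h (kpt x b)).symm.trans ?_
  refine (tr_toBC _ _).trans ?_
  rw [kpt, pt, ← toBC_naturality]
  congr 1

section AlgClosed

variable [IsAlgClosed K]

/-- Morphisms from a reduced scheme of finite type to a separated one agree if they agree on points. -/
theorem hom_ext_kpts {A B : Over (Spec (CommRingCat.of K))} [Smooth A.hom] [IsSeparated B.hom]
    [LocallyOfFiniteType B.hom] {φ ψ : A ⟶ B}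
    (h : ∀ a : 𝟙_ (Over (Spec (CommRingCat.of K))) ⟶ A, a ≫ φ = a ≫ ψ) : φ = ψ := by
  refine Over.OverMorphism.ext ?_
  haveI : IsReduced A.left := Groth.Agent.SmoothRed.isReduced_of_smooth_scheme A.hom
  haveI : LocallyOfFiniteType (φ.left ≫ B.hom) := by rw [Over.w φ]; infer_instance
  refine ext_of_apply_eq (K := K) B.hom Set.univ isOpen_univ.isLocallyClosed dense_univ (fun x _ hx => ?_)
    ((Over.w φ).trans (Over.w ψ).symm)
  let p := (pointEquivClosedPoint A.hom).symm ⟨x, hx⟩
  have hp : p.1 (IsLocalRing.closedPoint K) = x :=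
    congrArg Subtype.val ((pointEquivClosedPoint A.hom).apply_symm_apply ⟨x, hx⟩)
  have h1 := congrArg (fun q => q.left (IsLocalRing.closedPoint K))
    (h (Over.homMk p.1 p.2))
  simp only [Over.comp_left, Scheme.Hom.comp_apply, Over.homMk_left] at h1
  exact (congrArg φ.left hp.symm).trans (h1.trans (congrArg ψ.left hp))

/-- A morphism from a smooth scheme lands in a closed subscheme if its points do. -/
theorem exists_factor_kpts {A B Z : Over (Spec (CommRingCat.of K))} [Smooth A.hom] (f : A ⟶ B) (i : Z ⟶ B)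
    [IsClosedImmersion i.left]
    (h : ∀ a : 𝟙_ (Over (Spec (CommRingCat.of K))) ⟶ A, ∃ z, z ≫ i = a ≫ f) : ∃ g, g ≫ i = f := by
  let j := pullback.snd i.left f.left
  haveI : IsIso j := PtsDense.isIso_of_points_factor K K A.hom j fun y hy => by
    let a : 𝟙_ (Over (Spec (CommRingCat.of K))) ⟶ A := Over.homMk y (by
      rw [hy, Algebra.algebraMap_self, CommRingCat.ofHom_id, Spec.map_id]; rfl)
    obtain ⟨z, hz⟩ := h a
    exact ⟨pullback.lift z.left y (congrArg (fun w => w.left) hz), pullback.lift_snd _ _ _⟩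
  have hfac : (CategoryTheory.inv j ≫ pullback.fst i.left f.left) ≫ i.left = f.left := by
    rw [Category.assoc, pullback.condition, IsIso.inv_hom_id_assoc]
  refine ⟨Over.homMk (CategoryTheory.inv j ≫ pullback.fst i.left f.left) ?_, Over.OverMorphism.ext hfac⟩
  show _ ≫ Z.hom = A.hom
  rw [← Over.w i, ← Category.assoc, hfac, Over.w f]

/-- **Near a point with `l` invertible, a maximal torus exists etale locally.** -/
theorem exists_etale_at {G : Over S} [GrpObj G] [Smooth G.hom] [IsSeparated G.hom] [QuasiCompact G.hom]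
    (hG : SGA3x.HasMaxTorusFpqcLocally G) (l : ℕ) (hl : l = 2 ∨ l = 3) (hu : IsUnit (l : Γ(S, ⊤)))
    (x : Spec (CommRingCat.of K) ⟶ S) {R : Over (Spec (CommRingCat.of K))} [GrpObj R] (r : R ⟶ Red.bc x G)
    (hr : AGF.IsMaxTorus r) :
    ∃ (S' : Scheme.{u}) (g : S' ⟶ S) (s' : S'), Etale g ∧ g s' = x (IsLocalRing.closedPoint K) ∧
      ∃ (T : Over S') (_ : GrpObj T) (t : T ⟶ Red.bc g G), Red.IsMaximalTorus t := by
  haveI := hr.1; haveI := hr.2.1
  haveI : Smooth (Red.bc x G).hom := inferInstanceAs (Smooth (pullback.snd G.hom x))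
  haveI : QuasiCompact (Red.bc x G).hom := inferInstanceAs (QuasiCompact (pullback.snd G.hom x))
  have hl1 : 1 < l := by rcases hl with rfl | rfl <;> norm_num
  have hlK : (l : K) ≠ 0 := by
    have h := ((hu.map x.appTop.hom).map (Scheme.ΓSpecIso (CommRingCat.of K)).hom.hom)
    rw [map_natCast, map_natCast] at h
    exact h.ne_zero
  obtain ⟨m, L, hL, hcent⟩ := exists_torsion_centralizer l hl1 hlK hr.2.2.1 r
  choose F hF using fun t : 𝟙_ (Over (Spec (CommRingCat.of K))) ⟶ R => exists_kpt x (t ≫ r)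
  have hcommR : ∀ t t', F t * F t' = F t' * F t := fun t t' => kpt_inj x (by
    rw [kpt_mul, kpt_mul, hF, hF, ← MonObj.mul_comp, ← MonObj.mul_comp, RedR1.mul_comm_torus hr.2.2.1])
  obtain ⟨P, p, Z, hZg, i, hP, him, hic, hZs, hZq, hZsep, hZ⟩ := exists_centralizer_list l hl m G hu (L.map F)
    (fun a ha => by
      obtain ⟨t, ht, rfl⟩ := List.mem_map.1 ha
      exact kpt_inj x (by rw [kpt_pow, hF, ← MTTorus.comp_pow_hom r t, hL t ht, MonObj.one_comp r, kpt_one]))
    (fun a ha b hb => by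
      obtain ⟨t, -, rfl⟩ := List.mem_map.1 ha
      obtain ⟨t', -, rfl⟩ := List.mem_map.1 hb
      exact hcommR t t')
  haveI := hP; haveI := him; haveI := hic; haveI := hZs; haveI := hZq; haveI := hZsep
  haveI : Mono i.left := inferInstance
  haveI : Mono i := Over.mono_of_mono_left i
  obtain ⟨-, C, hCg, c₀, hc₀m, hc₀o, hc₀r, hCs, hCq⟩ := Groth.Agent.S4098.result P.left Z
    ⟨⊤, by infer_instance, fun _ => trivial⟩
  haveI := hc₀m; haveI := hc₀o; haveI := hCs; haveI := hCq
  haveI : Mono c₀.left := inferInstance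
  haveI : Mono c₀ := Over.mono_of_mono_left c₀
  let GP := Red.bc P.hom G
  haveI : Smooth GP.hom := inferInstanceAs (Smooth (pullback.snd G.hom P.hom))
  haveI : IsSeparated GP.hom := inferInstanceAs (IsSeparated (pullback.snd G.hom P.hom))
  haveI : QuasiCompact GP.hom := inferInstanceAs (QuasiCompact (pullback.snd G.hom P.hom))
  let c : C ⟶ GP := c₀ ≫ i
  haveI : IsMonHom c := inferInstanceAs (IsMonHom (c₀ ≫ i))
  haveI : Mono c := mono_comp _ _
  let q := p.left
  have hq : q ≫ P.hom = x := Over.w p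
  obtain ⟨eG, heG, hG'⟩ := MaxTorusBC.exists_trIso hq G
  haveI : IsMonHom eG.hom := hG'
  haveI : IsMonHom (Iso.refl R).hom := inferInstanceAs (IsMonHom (𝟙 R))
  let r₁ : R ⟶ Red.bc q GP := r ≫ eG.hom
  have hr₁ : AGF.IsMaxTorus r₁ := MaxTorusBC.isMaxTorus_of_iso (Iso.refl R) eG r r₁
    (by rw [Iso.refl_hom, Category.id_comp]) hr.2.2.1 hr
  haveI := hr₁.1; haveI := hr₁.2.1
  haveI : Smooth R.hom := smooth_torus hr.2.2.1
  haveI : PreservesLimitsOfShape WalkingCospan (Over.pullback q) :=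
    (Adjunction.rightAdjoint_preservesLimits (Over.mapPullbackAdj q)).preservesLimitsOfShape
  let i' : Red.bc q Z ⟶ Red.bc q GP := (Over.pullback q).map i
  let c₀' : Red.bc q C ⟶ Red.bc q Z := (Over.pullback q).map c₀
  haveI : IsMonHom i' := inferInstanceAs (IsMonHom ((Over.pullback q).map i))
  haveI : IsMonHom c₀' := inferInstanceAs (IsMonHom ((Over.pullback q).map c₀))
  haveI : IsClosedImmersion i'.left :=
    MorphismProperty.of_isPullback (P := @IsClosedImmersion) (isPullback_map i q) hic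
  haveI : IsOpenImmersion c₀'.left :=
    MorphismProperty.of_isPullback (P := @IsOpenImmersion) (isPullback_map c₀ q) hc₀o
  haveI : Mono i' := inferInstanceAs (Mono ((Over.pullback q).map i))
  haveI : Mono c₀' := inferInstanceAs (Mono ((Over.pullback q).map c₀))
  haveI : LocallyOfFiniteType (Red.bc q Z).hom := inferInstanceAs (LocallyOfFiniteType (pullback.snd Z.hom q))
  haveI : LocallyOfFiniteType (Red.bc q GP).hom := inferInstanceAs (LocallyOfFiniteType (pullback.snd GP.hom q))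
  haveI : Smooth (Red.bc q C).hom := inferInstanceAs (Smooth (pullback.snd C.hom q))
  haveI : IsSeparated (Red.bc q GP).hom := inferInstanceAs (IsSeparated (pullback.snd GP.hom q))
  have hpts : ∀ b, kpt x b ≫ eG.hom = kpt q (pt p b) := fun b => by rw [heG]; exact kpt_pt p hq b
  obtain ⟨rZ, hrZ⟩ := exists_factor_kpts r₁ i' fun t => by
    obtain ⟨w, hw⟩ := (hZ (F t)).2 fun a ha => by
      obtain ⟨t', -, rfl⟩ := List.mem_map.1 ha
      exact hcommR t' t
    exact ⟨kpt q w, by rw [← kpt_comp, hw, ← hpts, hF, Category.assoc]⟩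
  haveI : IsMonHom rZ := MTSplit.isMonHom_of_comp_mono _ _ _ hrZ
  obtain ⟨r₀, hr₀⟩ := exists_factor_open hr.2.2.1 rZ c₀'
  haveI : IsMonHom r₀ := MTSplit.isMonHom_of_comp_mono _ _ _ hr₀
  have hr₀c : r₀ ≫ (Over.pullback q).map c = r₁ := by
    rw [Functor.map_comp, ← Category.assoc, hr₀, hrZ]
  have hcentral : CentralAt c q := by
    refine ⟨R, inferInstance, r₀, inferInstance, by rw [hr₀c]; exact hr₁, fun X a y => ?_⟩
    haveI : Smooth (R ⊗ Red.bc q C).hom := smooth_tensor _ _
    suffices h : (fst R (Red.bc q C) ≫ r₀) * snd R (Red.bc q C) = snd R (Red.bc q C) * (fst R (Red.bc q C) ≫ r₀) by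
      have h' := congrArg (fun w => lift a y ≫ w) h
      simpa only [MonObj.comp_mul, lift_fst_assoc, lift_snd] using h'
    haveI : Mono ((Over.pullback q).map c) := inferInstance
    rw [← cancel_mono ((Over.pullback q).map c), MonObj.mul_comp, MonObj.mul_comp, Category.assoc, hr₀c]
    refine hom_ext_kpts fun a => ?_
    simp only [MonObj.comp_mul, ← Category.assoc]
    obtain ⟨z, hz⟩ := exists_kpt q ((a ≫ snd R (Red.bc q C)) ≫ c₀')
    obtain ⟨b, hb⟩ := exists_pt p (z ≫ i)
    have hb' : (a ≫ snd R (Red.bc q C)) ≫ (Over.pullback q).map c = kpt x b ≫ eG.hom := by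
      rw [hpts, hb, kpt_comp, hz, Functor.map_comp]
      simp only [Category.assoc]
      rfl
    have hbc : ∀ t ∈ L, (t ≫ r) * kpt x b = kpt x b * (t ≫ r) := fun t ht => by
      rw [← hF, ← kpt_mul, ← kpt_mul, (hZ b).1 ⟨z, hb.symm⟩ (F t) (List.mem_map.2 ⟨t, ht, rfl⟩)]
    rw [hb', show (a ≫ fst R (Red.bc q C)) ≫ r₁ = ((a ≫ fst R (Red.bc q C)) ≫ r) ≫ eG.hom from
      (Category.assoc _ _ _).symm, ← MonObj.mul_comp, ← MonObj.mul_comp, hcent _ hbc]
  obtain ⟨V, hV, T, hTg, t, ht⟩ := exists_torus_nhd (hasMaxTorusFpqcLocally_bc hG P.hom) c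
    (connected_fibre_neutral c₀ hc₀r) q hcentral
  haveI : Smooth (V.ι ≫ P.hom) := inferInstance
  obtain ⟨S', g, s', hg, hgs, h, hh⟩ :=
    Groth.Agent.SmSect.exists_etale_section (V.ι ≫ P.hom) ⟨q (IsLocalRing.closedPoint K), hV⟩
  refine ⟨S', g, s', hg, ?_, ?_⟩
  · rw [hgs, ← hq]
    rfl
  haveI : LocallyOfFiniteType (Red.bc V.ι GP).hom := inferInstanceAs (LocallyOfFiniteType (pullback.snd GP.hom V.ι))
  haveI : QuasiCompact (Red.bc V.ι GP).hom := inferInstanceAs (QuasiCompact (pullback.snd GP.hom V.ι))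
  obtain ⟨eA, -, hA⟩ := MaxTorusBC.exists_trIso (show (h ≫ V.ι) ≫ P.hom = g by rw [Category.assoc, hh]) G
  obtain ⟨eB, -, hB⟩ := MaxTorusBC.exists_trIso (show h ≫ V.ι = h ≫ V.ι from rfl) GP
  haveI : IsMonHom eA.hom := hA
  haveI : IsMonHom eB.hom := hB
  haveI : IsMonHom eA.inv := inferInstance
  haveI : IsMonHom eB.inv := inferInstance
  let e : Red.bc h (Red.bc V.ι GP) ≅ Red.bc g G := eB.symm ≪≫ eA.symm
  haveI : IsMonHom e.hom := inferInstanceAs (IsMonHom (eB.inv ≫ eA.inv))
  haveI : IsMonHom (Iso.refl (Red.bc h T)).hom := inferInstanceAs (IsMonHom (𝟙 (Red.bc h T)))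
  exact ⟨_, inferInstance, (Over.pullback h).map t ≫ e.hom, isMaximalTorus_iso (Iso.refl _) e _ _
    (by rw [Iso.refl_hom, Category.id_comp]) (Borel.isTorus_bc_scheme T h ht.2.2.1)
    (MaxTorusBC.isMaximalTorus_bc t ht h)⟩

end AlgClosed

/-- Two or three is invertible at a point. -/
theorem exists_prime_invertible (s : S) :
    ∃ l : ℕ, (l = 2 ∨ l = 3) ∧ ∃ D : S.Opens, s ∈ D ∧ IsUnit (l : Γ((D : Scheme.{u}), ⊤)) := by
  have hl : ∃ l : ℕ, (l = 2 ∨ l = 3) ∧ (l : S.residueField s) ≠ 0 := by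
    by_cases h2 : ((2 : ℕ) : S.residueField s) = 0
    · refine ⟨3, Or.inr rfl, fun h3 => one_ne_zero (α := S.residueField s) ?_⟩
      push_cast at h2 h3
      linear_combination h3 - h2
    · exact ⟨2, Or.inl rfl, h2⟩
  obtain ⟨l, hl, hne⟩ := hl
  refine ⟨l, hl, S.basicOpen (l : Γ(S, ⊤)), ?_, ?_⟩
  · refine (S.mem_basicOpen (U := ⊤) (l : Γ(S, ⊤)) s trivial).2 ?_
    rw [map_natCast]
    exact IsLocalRing.residue_ne_zero_iff_isUnit _ |>.1 (by rwa [map_natCast])
  · have h := (S.toRingedSpace.isUnit_res_basicOpen (l : Γ(S, ⊤))).map (S.basicOpen (l : Γ(S, ⊤))).topIso.inv.hom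
    rwa [map_natCast, map_natCast] at h

/-- **fpqc-local maximal tori give etale-local maximal tori.** -/
theorem etaleLocally_of_fpqcLocally {G : Over S} [GrpObj G] [Smooth G.hom] [IsSeparated G.hom] [QuasiCompact G.hom]
    (hG : SGA3x.HasMaxTorusFpqcLocally G) : SGA3x.HasMaxTorusEtaleLocally G := by
  have hpt : ∀ s : S, ∃ (S' : Scheme.{u}) (g : S' ⟶ S), Etale g ∧ s ∈ Set.range g.base ∧
      ∃ (T : Over S') (_ : GrpObj T) (t : T ⟶ Red.bc g G), Red.IsMaximalTorus t := fun s => by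
    obtain ⟨l, hl, D, hsD, hu⟩ := exists_prime_invertible s
    let GD := Red.bc D.ι G
    haveI : Smooth GD.hom := inferInstanceAs (Smooth (pullback.snd G.hom D.ι))
    haveI : IsSeparated GD.hom := inferInstanceAs (IsSeparated (pullback.snd G.hom D.ι))
    haveI : QuasiCompact GD.hom := inferInstanceAs (QuasiCompact (pullback.snd G.hom D.ι))
    have hGD := hasMaxTorusFpqcLocally_bc hG D.ι
    obtain ⟨S₁, f, hff, hfs, hfc, T₁, hT₁g, i₁, hi₁⟩ := id hGD
    haveI := hi₁.1
    haveI : LocallyOfFiniteType (Red.bc f GD).hom := inferInstanceAs (LocallyOfFiniteType (pullback.snd GD.hom f))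
    haveI : QuasiCompact (Red.bc f GD).hom := inferInstanceAs (QuasiCompact (pullback.snd GD.hom f))
    obtain ⟨y, hy⟩ := hfs.surj ⟨s, hsD⟩
    let a := Red.geomPt y
    obtain ⟨e, -, he⟩ := MaxTorusBC.exists_trIso (show a ≫ f = a ≫ f from rfl) GD
    haveI : IsMonHom e.hom := he
    haveI : IsMonHom e.symm.hom := inferInstanceAs (IsMonHom e.inv)
    haveI : IsMonHom (Iso.refl (Red.bc a T₁)).hom := inferInstanceAs (IsMonHom (𝟙 (Red.bc a T₁)))
    have hr := MaxTorusBC.isMaxTorus_of_iso (Iso.refl _) e.symm _ ((Over.pullback a).map i₁ ≫ e.inv)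
      (by rw [Iso.refl_hom, Category.id_comp]; rfl) (Borel.isTorus_bc_scheme T₁ a hi₁.2.2.1)
      (MaxTorusBC.isMaxTorus_pt i₁ hi₁ a)
    obtain ⟨S', g, s', hg, hgs, T, hTg, t, ht⟩ := exists_etale_at hGD l hl hu (a ≫ f) _ hr
    haveI := hg
    refine ⟨S', g ≫ D.ι, inferInstance, ⟨s', ?_⟩, ?_⟩
    · have hay : a (IsLocalRing.closedPoint (AlgebraicClosure (S₁.residueField y))) = y := by
        show (Spec.map _ ≫ S₁.fromSpecResidueField y) _ = y
        rw [Scheme.Hom.comp_apply]
        exact S₁.fromSpecResidueField_apply y _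
      rw [Scheme.Hom.comp_apply, hgs, Scheme.Hom.comp_apply, hay, hy]
      rfl
    · obtain ⟨e', -, he'⟩ := MaxTorusBC.exists_trIso (show g ≫ D.ι = g ≫ D.ι from rfl) G
      haveI : IsMonHom e'.hom := he'
      haveI : IsMonHom e'.symm.hom := inferInstanceAs (IsMonHom e'.inv)
      haveI : IsMonHom (Iso.refl T).hom := inferInstanceAs (IsMonHom (𝟙 T))
      exact ⟨T, hTg, t ≫ e'.inv, isMaximalTorus_iso (Iso.refl T) e'.symm t _
        (by rw [Iso.refl_hom, Category.id_comp]; rfl) ht.2.2.1 ht⟩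
  choose S' g hg hgr hT using hpt
  obtain ⟨T, hTg, t, ht⟩ := exists_maxTorus_sigma g hT
  refine ⟨∐ S', Sigma.desc g, IsZariskiLocalAtSource.sigmaDesc (P := @Etale) hg, ⟨fun s => ?_⟩, T, hTg, t, ht⟩
  obtain ⟨z, hz⟩ := hgr s
  exact ⟨Sigma.ι S' s z, by rw [← Scheme.Hom.comp_apply, Sigma.ι_desc]; exact hz⟩

end Groth.Agent.MTImage
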