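import Groth.Agent.MTImage.Kernel
import Groth.Agent.MTBridge.MonoTori
import Groth.Agent.MTBridge.Centralizer
import Groth.Agent.LimDesc.FPCancel
import Groth.Agent.S5417
import Groth.Agent.S16615

/-!
# The image of a torus in a separated group

The kernel of a homomorphism from a torus to a separated group of finite presentation is flat, so the torus has an
image: a quotient torus which is a subgroup of the target.
-/

set_option autoImplicit false
set_option linter.style.haveILetI false
set_option backward.isDefEq.respectTransparency false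
set_option maxHeartbeats 1000000
set_option synthInstance.maxHeartbeats 400000

universe u

noncomputable section

open CategoryTheory Limits MonoidalCategory CartesianMonoidalCategory MonObj GrpObj AlgebraicGeometry
open scoped CategoryTheory.Obj

namespace Groth.Agent.MTImage

variable {S : Scheme.{u}}

/-- Kernels transport along an isomorphism of the source. -/
theorem isKernel_of_iso {A B K G : Over S} [GrpObj G] (e : A ≅ B) (k : K ⟶ A) [Mono k] (w : A ⟶ G)
    (hk : AlgGrp.IsKernel k w) : AlgGrp.IsKernel (k ≫ e.hom) (e.inv ≫ w) := by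
  refine IsPullback.mk' ?_ (fun T φ φ' e₁ _ => (cancel_mono (k ≫ e.hom)).1 e₁) fun T a b hab => ?_
  · rw [Category.assoc, e.hom_inv_id_assoc]
    exact hk.w
  · exact ⟨hk.lift (a ≫ e.inv) b (by rw [Category.assoc, hab]),
      by rw [hk.lift_fst_assoc, Category.assoc, e.inv_hom_id, Category.comp_id], hk.lift_snd _ _ _⟩

/-- The kernel of a homomorphism from a split torus is flat. -/
theorem flat_kernel_iso {M : Type} [AddCommGroup M] [AddGroup.FG M] (hfgN : ∀ N : AddSubgroup M, AddGroup.FG N)
    {T G K : Over S} [GrpObj T] [GrpObj G] [IsSeparated G.hom] [LocallyOfFinitePresentation G.hom]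
    [QuasiCompact G.hom] (e : Grp.mk T ≅ Grp.mk (Red.DS S M)) (w : T ⟶ G) [IsMonHom w] (k : K ⟶ T) [Mono k]
    (hk : AlgGrp.IsKernel k w) : Flat K.hom := by
  let e' : T ≅ Red.DS S M := ⟨e.hom.hom.hom, e.inv.hom.hom, ((Grp.forget _).mapIso e).hom_inv_id,
    ((Grp.forget _).mapIso e).inv_hom_id⟩
  haveI : IsMonHom e'.inv := e.inv.hom.isMonHom_hom
  haveI : IsMonHom (e'.inv ≫ w) := inferInstance
  haveI : Mono (k ≫ e'.hom) := mono_comp _ _
  exact flat_kernel_split hfgN (e'.inv ≫ w) (k ≫ e'.hom) (isKernel_of_iso e' k w hk)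

/-- The kernel of a homomorphism from a torus to a separated group is flat. -/
theorem flat_kernel_torus {T G K : Over S} [GrpObj T] [GrpObj G] [IsSeparated G.hom]
    [LocallyOfFinitePresentation G.hom] [QuasiCompact G.hom] (hT : Red.IsTorus T) (w : T ⟶ G) [IsMonHom w]
    (k : K ⟶ T) [Mono k] (hk : AlgGrp.IsKernel k w) : Flat K.hom := by
  obtain ⟨S', f, hf, hfs, -, hloc⟩ := hT
  choose U hsU r hr using hloc
  have hflat : ∀ s, Flat (pullback.snd K.hom ((U s).ι ≫ f)) := fun s => by
    let g : (U s : Scheme.{u}) ⟶ S := (U s).ι ≫ f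
    obtain ⟨e⟩ := hr s
    haveI : PreservesLimitsOfShape WalkingCospan (Over.pullback g) :=
      (Adjunction.rightAdjoint_preservesLimits (Over.mapPullbackAdj g)).preservesLimitsOfShape
    haveI : IsSeparated (Red.bc g G).hom := inferInstanceAs (IsSeparated (pullback.snd G.hom g))
    haveI : LocallyOfFinitePresentation (Red.bc g G).hom :=
      inferInstanceAs (LocallyOfFinitePresentation (pullback.snd G.hom g))
    haveI : QuasiCompact (Red.bc g G).hom := inferInstanceAs (QuasiCompact (pullback.snd G.hom g))
    haveI : Mono ((Over.pullback g).map k) := inferInstance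
    exact flat_kernel_iso (fun N => MTQuot.fg_addSubgroup N) e ((Over.pullback g).map w) ((Over.pullback g).map k)
      (Chev.isKernel_bc g k w hk)
  haveI : Flat (pullback.snd K.hom f) := by
    rw [IsZariskiLocalAtTarget.iff_of_iSup_eq_top (P := @Flat.{u}) U
      (eq_top_iff.2 fun x _ => TopologicalSpace.Opens.mem_iSup.2 ⟨x, hsU x⟩)]
    intro s
    haveI := hflat s
    haveI : Flat (pullback.snd (pullback.snd K.hom f) (U s).ι) := by
      rw [← pullbackLeftPullbackSndIso_hom_snd K.hom f (U s).ι]
      infer_instance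
    rw [← (isPullback_morphismRestrict (pullback.snd K.hom f) (U s)).flip.isoPullback_hom_snd]
    infer_instance
  haveI : Surjective (pullback.fst K.hom f) := MorphismProperty.pullback_fst _ _ hfs
  haveI : Flat (pullback.fst K.hom f) := MorphismProperty.pullback_fst _ _ hf
  haveI : Flat (pullback.fst K.hom f ≫ K.hom) := by rw [pullback.condition]; infer_instance
  exact Groth.Agent.GrpdLib.flat_of_flat_comp (pullback.fst K.hom f) K.hom

/-- **The image of a torus in a separated group of finite presentation is a torus.** -/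
theorem exists_image_torus {T G : Over S} [GrpObj T] [GrpObj G] [IsSeparated G.hom]
    [LocallyOfFinitePresentation G.hom] [QuasiCompact G.hom] (hT : Red.IsTorus T) (w : T ⟶ G) [IsMonHom w] :
    ∃ (Q : Over S) (_ : GrpObj Q) (q : T ⟶ Q) (m : Q ⟶ G), IsMonHom q ∧ IsMonHom m ∧ Mono m ∧ Red.IsTorus Q ∧
      Surjective q.left ∧ Flat q.left ∧ q ≫ m = w := by
  have hTm := MTBridge.isMultTypeFT_of_isTorus T hT
  haveI := MTBridge.flat_of_isMultTypeFT T hTm
  haveI : LocallyOfFinitePresentation T.hom := MTBridge.locallyOfFinitePresentation_of_isMultTypeFT T hTm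
  haveI : LocallyOfFinitePresentation ((η[G]).left ≫ G.hom) := by rw [Over.w]; infer_instance
  haveI : LocallyOfFinitePresentation (η[G]).left := LimDesc.lfp_of_comp (η[G]).left G.hom
  haveI : IsClosedImmersion (η[G]).left := by
    haveI : IsClosedImmersion ((η[G]).left ≫ G.hom) := by
      rw [Over.w η[G]]
      exact inferInstanceAs (IsClosedImmersion (𝟙 S))
    exact IsClosedImmersion.of_comp (η[G]).left G.hom
  let K : Over S := Over.mk (pullback.fst w.left (η[G]).left ≫ T.hom)
  let k : K ⟶ T := Over.homMk (pullback.fst w.left (η[G]).left) rfl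
  haveI : IsClosedImmersion k.left := inferInstanceAs (IsClosedImmersion (pullback.fst w.left (η[G]).left))
  haveI : LocallyOfFinitePresentation k.left :=
    inferInstanceAs (LocallyOfFinitePresentation (pullback.fst w.left (η[G]).left))
  haveI : LocallyOfFinitePresentation K.hom := inferInstanceAs (LocallyOfFinitePresentation (k.left ≫ T.hom))
  haveI : Mono k.left := inferInstance
  haveI : Mono k := Over.mono_of_mono_left k
  have hk : AlgGrp.IsKernel k w := by
    refine IsPullback.mk' ?_ (fun Y φ φ' e₁ _ => (cancel_mono k).1 e₁) fun Y a b e => ?_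
    · refine Over.OverMorphism.ext ?_
      show pullback.fst w.left (η[G]).left ≫ w.left = (toUnit K).left ≫ (η[G]).left
      rw [pullback.condition, Over.toUnit_left]
      congr 1
      show pullback.snd w.left (η[G]).left = pullback.fst w.left (η[G]).left ≫ T.hom
      rw [← Over.w w, ← Category.assoc, pullback.condition, Category.assoc, Over.w η[G]]
      exact (Category.comp_id _).symm
    · exact ⟨Over.homMk (pullback.lift a.left b.left (congrArg (fun z => z.left) e))
        (show pullback.lift _ _ _ ≫ pullback.fst _ _ ≫ T.hom = _ by rw [pullback.lift_fst_assoc, Over.w]),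
        Over.OverMorphism.ext (pullback.lift_fst _ _ _), toUnit_unique _ _⟩
  obtain ⟨hKg, hKm⟩ := MTBridge.exists_grpObj_of_div k
    ⟨hk.lift η[T] (𝟙 _) (by rw [IsMonHom.one_hom, Category.id_comp]), hk.lift_fst _ _ _⟩
    fun Y a b => ⟨hk.lift ((a ≫ k)⁻¹ * (b ≫ k)) (toUnit _) (by
      rw [MonObj.mul_comp, GrpObj.inv_comp, Category.assoc, Category.assoc, hk.w]
      simp only [← Category.assoc, toUnit_unique (a ≫ toUnit K) (toUnit Y), toUnit_unique (b ≫ toUnit K) (toUnit Y),
        ← Hom.one_def, _root_.inv_one, _root_.one_mul, _root_.mul_one, MonObj.comp_one]), hk.lift_fst _ _ _⟩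
  haveI := hKm
  haveI : Flat K.hom := flat_kernel_torus hT w k hk
  have hKT := Groth.Agent.S19598.result K T hTm k inferInstance inferInstance inferInstance
  obtain ⟨Q, hQg, q, hqm, hq, -, m, hmm, hmono, hqm'⟩ :=
    Groth.Agent.S5417.result S T G (Or.inl inferInstance) w K k hk
  haveI := hqm
  exact ⟨Q, hQg, q, m, hqm, hmm, hmono, Groth.Agent.S16615.result hT k hKT q hq, hq.1, hq.2.1, hqm'⟩

end Groth.Agent.MTImage
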