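import Groth.Agent.MTImage.Normalized
import Groth.Agent.MTImage.DescendTorus
import Groth.Agent.MTImage.EtaleLocal
import Groth.Agent.GrpField.SurjSmooth
import Groth.Agent.FibreFlat.FP
import Groth.Agent.S4116
import Groth.Agent.S4147

/-!
# Maximal tori above a maximal torus of a quotient by a central subgroup

For a homomorphism of smooth groups which is surjective on geometric fibres with central kernel, every maximal torus
of the target is the image of a unique maximal torus of the source.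
-/

set_option autoImplicit false
set_option linter.style.haveILetI false
set_option backward.isDefEq.respectTransparency false
set_option maxHeartbeats 1000000
set_option synthInstance.maxHeartbeats 400000

universe u

noncomputable section

open CategoryTheory Limits MonoidalCategory CartesianMonoidalCategory MonObj GrpObj AlgebraicGeometry
open scoped CategoryTheory.Obj

namespace Groth.Agent.MTImage

open Groth.Agent.MTBridge Groth.Agent.Chev

variable {S U : Scheme.{u}}

/-- Surjectivity on geometric fibres gives surjectivity. -/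
theorem surjective_of_geom {G G' : Over S} (u : G ⟶ G')
    (hu : ∀ s : S, Surjective ((Over.pullback (Red.geomPt s)).map u).left) : Surjective u.left := by
  refine ⟨fun y => ?_⟩
  have hgp : Red.geomPt (G'.hom y) (IsLocalRing.closedPoint (AlgebraicClosure (S.residueField (G'.hom y)))) =
      G'.hom y := by
    show (Spec.map _ ≫ S.fromSpecResidueField _) _ = G'.hom y
    rw [Scheme.Hom.comp_apply]
    exact S.fromSpecResidueField_apply _ _
  obtain ⟨z, hz, -⟩ := Scheme.Pullback.exists_preimage_pullback (f := G'.hom) (g := Red.geomPt (G'.hom y)) y _ hgp.symm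
  obtain ⟨w, hw⟩ := (hu _).surj z
  refine ⟨pullback.fst G.hom _ w, ?_⟩
  rw [← Scheme.Hom.comp_apply, (isPullback_map u _).w, Scheme.Hom.comp_apply]
  exact (congrArg (pullback.fst G'.hom (Red.geomPt (G'.hom y))) hw).trans hz

/-- A surjective homomorphism of smooth groups of finite type is flat. -/
theorem flat_hom {G G' : Over S} [GrpObj G] [GrpObj G'] [Smooth G.hom] [QuasiCompact G.hom] [Smooth G'.hom]
    [IsSeparated G'.hom] (u : G ⟶ G') [IsMonHom u] [Surjective u.left] : Flat u.left := by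
  have key : ∀ (L : Type u) [Field L] (b : Spec (CommRingCat.of L) ⟶ S), Flat ((Over.pullback b).map u).left := by
    intro L _ b
    haveI : Smooth (Red.bc b G).hom := inferInstanceAs (Smooth (pullback.snd G.hom b))
    haveI : Smooth (Red.bc b G').hom := inferInstanceAs (Smooth (pullback.snd G'.hom b))
    haveI : QuasiCompact (Red.bc b G).hom := inferInstanceAs (QuasiCompact (pullback.snd G.hom b))
    haveI : IsSeparated (Red.bc b G').hom := inferInstanceAs (IsSeparated (pullback.snd G'.hom b))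
    haveI : Surjective ((Over.pullback b).map u).left :=
      MorphismProperty.of_isPullback (isPullback_map u b) ‹_›
    haveI : QuasiCompact (((Over.pullback b).map u).left ≫ (Red.bc b G').hom) := by
      rw [Over.w ((Over.pullback b).map u)]; infer_instance
    haveI : QuasiCompact ((Over.pullback b).map u).left :=
      QuasiCompact.of_comp _ (Red.bc b G').hom
    haveI : IsReduced (Red.bc b G').left :=
      Groth.Agent.SmoothRed.isReduced_of_smooth_scheme (Red.bc b G').hom
    exact Groth.Agent.GrpField.flat_of_surjective_reduced _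
  have h1 : LocallyOfFinitePresentation (u.left ≫ G'.hom) := by rw [Over.w]; infer_instance
  have h2 : Flat (u.left ≫ G'.hom) := by rw [Over.w]; infer_instance
  refine Groth.Agent.FibreFlat.flat_of_fibres_lfp u.left G'.hom fun L _ b => ?_
  have h3 : ∀ (g : G.left ⟶ S) (hg : g = G.hom) (e : (pullback.fst g b ≫ u.left) ≫ G'.hom = pullback.snd g b ≫ b),
      Flat (pullback.lift (pullback.fst g b ≫ u.left) (pullback.snd g b) e) := by
    rintro g rfl e
    exact key L b
  exact h3 _ (Over.w u) _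

/-- The hypothesis of centrality of the kernel. -/
def CentralKer {G G' : Over S} [GrpObj G] [GrpObj G'] (u : G ⟶ G') : Prop :=
  ∀ (X : Over S) (z : X ⟶ G), z ≫ u = 1 → ∀ (X' : Over S) (x : X' ⟶ X) (g : X' ⟶ G), (x ≫ z) * g = g * (x ≫ z)

/-- Centrality of the kernel is stable under base change. -/
theorem centralKer_bc {G G' : Over S} [GrpObj G] [GrpObj G'] {u : G ⟶ G'} (h : CentralKer u) (j : U ⟶ S) :
    CentralKer ((Over.pullback j).map u) := by
  intro X z hz X' x g
  obtain ⟨z, rfl⟩ := exists_toBC' j z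
  obtain ⟨g, rfl⟩ := exists_toBC' j g
  have hz' : z ≫ u = 1 := toBC_inj j (by rw [toBC_comp, hz, MTKernel.toBC_one])
  rw [← toBC_naturality, ← toBC_mul, ← toBC_mul, h _ z hz']

/-- Maximal tori with image in the same torus commute. -/
theorem commute_of_image {T R Q G G' : Over S} [GrpObj T] [GrpObj R] [GrpObj Q] [GrpObj G] [GrpObj G']
    [Smooth G.hom] [QuasiCompact G.hom] {u : G ⟶ G'} [IsMonHom u] (hker : CentralKer u) (hQ : Red.IsTorus Q)
    (q : Q ⟶ G') [IsMonHom q] (i : T ⟶ G) (hi : Red.IsMaximalTorus i) (j : R ⟶ G) [IsMonHom j] (hR : Red.IsTorus R)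
    (v : T ⟶ Q) (w : R ⟶ Q) (hv : v ≫ q = i ≫ u) (hw : w ≫ q = j ≫ u) :
    ∀ (X : Over S) (a : X ⟶ T) (e : X ⟶ R), (a ≫ i) * (e ≫ j) = (e ≫ j) * (a ≫ i) := by
  refine commute_tori i hi j hR fun X a e => hker X _ ?_
  simp only [MonObj.mul_comp, GrpObj.inv_comp, Category.assoc, ← hv, ← hw]
  simp only [← Category.assoc, ← GrpObj.inv_comp, ← MonObj.mul_comp]
  rw [RedR1.mul_comm_torus hQ (e ≫ w) (a ≫ v)]
  simp

/-- **Maximal tori with the same image are equal.** -/
theorem exists_iso_of_image {T₁ T₂ Q G G' : Over S} [GrpObj T₁] [GrpObj T₂] [GrpObj Q] [GrpObj G] [GrpObj G']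
    [Smooth G.hom] [QuasiCompact G.hom] {u : G ⟶ G'} [IsMonHom u] (hker : CentralKer u) (hQ : Red.IsTorus Q)
    (q : Q ⟶ G') [IsMonHom q] (i₁ : T₁ ⟶ G) (h₁ : Red.IsMaximalTorus i₁) (i₂ : T₂ ⟶ G) (h₂ : Red.IsMaximalTorus i₂)
    (v₁ : T₁ ⟶ Q) (v₂ : T₂ ⟶ Q) (e₁ : v₁ ≫ q = i₁ ≫ u) (e₂ : v₂ ≫ q = i₂ ≫ u) :
    ∃ φ : T₁ ≅ T₂, φ.hom ≫ i₂ = i₁ := by
  haveI := h₁.1; haveI := h₁.2.1; haveI := h₂.1; haveI := h₂.2.1
  have hc := commute_of_image hker hQ q i₁ h₁ i₂ h₂.2.2.1 v₁ v₂ e₁ e₂
  obtain ⟨y, hy⟩ := MTTorus.exists_factor_maximalTorus i₁ h₁ h₂.2.2.1 i₂ fun X a e => hc X a e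
  obtain ⟨z, hz⟩ := MTTorus.exists_factor_maximalTorus i₂ h₂ h₁.2.2.1 i₁ fun X a e => (hc X e a).symm
  exact ⟨⟨z, y, by rw [← cancel_mono i₁, Category.assoc, hy, hz, Category.id_comp],
    by rw [← cancel_mono i₂, Category.assoc, hz, hy, Category.id_comp]⟩, hz⟩

/-- A maximal torus above `q` over `f`. -/
def Lifted {G G' Q : Over S} [GrpObj G] [GrpObj G'] [GrpObj Q] (u : G ⟶ G') (q : Q ⟶ G') (f : U ⟶ S) : Prop :=
  ∃ (T : Over U) (_ : GrpObj T) (t : T ⟶ Red.bc f G) (v : T ⟶ Red.bc f Q), Red.IsMaximalTorus t ∧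
    v ≫ (Over.pullback f).map q = t ≫ (Over.pullback f).map u ∧ Surjective v.left ∧ Flat v.left

/-- Lifts over an iterated base change. -/
theorem lifted_comp {V : Scheme.{u}} {G G' Q : Over S} [GrpObj G] [GrpObj G'] [GrpObj Q] (u : G ⟶ G') [IsMonHom u]
    (q : Q ⟶ G') [IsMonHom q] (f : U ⟶ S) (g : V ⟶ U)
    (h : Lifted ((Over.pullback f).map u) ((Over.pullback f).map q) g) : Lifted u q (g ≫ f) := by
  obtain ⟨T, hTg, t, v, ht, hv, hvs, hvf⟩ := h
  haveI := hvs; haveI := hvf
  obtain ⟨eG, hG, hG'⟩ := MaxTorusBC.exists_trIso (show g ≫ f = g ≫ f from rfl) G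
  obtain ⟨eH, hH, -⟩ := MaxTorusBC.exists_trIso (show g ≫ f = g ≫ f from rfl) G'
  obtain ⟨eQ, hQ, -⟩ := MaxTorusBC.exists_trIso (show g ≫ f = g ≫ f from rfl) Q
  haveI : IsMonHom eG.hom := hG'
  haveI : IsMonHom eG.symm.hom := inferInstanceAs (IsMonHom eG.inv)
  haveI : IsMonHom (Iso.refl T).hom := inferInstanceAs (IsMonHom (𝟙 T))
  haveI : IsIso eQ.inv.left := ((Over.forget V).mapIso eQ).symm.isIso_hom
  have n1 : (Over.pullback (g ≫ f)).map u ≫ eH.hom = eG.hom ≫ (Over.pullback g).map ((Over.pullback f).map u) := by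
    rw [hG, hH, trIso_natural]
  have n2 : (Over.pullback (g ≫ f)).map q ≫ eH.hom = eQ.hom ≫ (Over.pullback g).map ((Over.pullback f).map q) := by
    rw [hQ, hH, trIso_natural]
  refine ⟨T, hTg, t ≫ eG.inv, v ≫ eQ.inv,
    isMaximalTorus_iso (Iso.refl T) eG.symm t _ (by rw [Iso.refl_hom, Category.id_comp]; rfl) ht.2.2.1 ht, ?_, ?_, ?_⟩
  · rw [← cancel_mono eH.hom]
    simp only [Category.assoc]
    rw [n1, n2, Iso.inv_hom_id_assoc, Iso.inv_hom_id_assoc, hv]
  · exact inferInstanceAs (Surjective (v.left ≫ eQ.inv.left))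
  · exact inferInstanceAs (Flat (v.left ≫ eQ.inv.left))

/-- A quasi-compact surjection is a covering map on affine opens. -/
theorem hcov_of_quasiCompact {X Y : Scheme.{u}} (π : X ⟶ Y) [Surjective π] [QuasiCompact π] (V : Y.Opens)
    (hV : IsAffineOpen V) : ∃ W : X.Opens, IsCompact (W : Set X) ∧ π.base '' (W : Set X) = (V : Set Y) :=
  ⟨π ⁻¹ᵁ V, π.isCompact_preimage hV.isCompact, by
    exact Set.image_preimage_eq _ π.surjective⟩

/-- Lifting a conjugating section along a covering. -/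
theorem lifted_of_conj {G G' T R Q : Over S} [GrpObj G] [GrpObj G'] [GrpObj T] [GrpObj R] [GrpObj Q]
    [LocallyOfFiniteType G.hom] [QuasiCompact G.hom] (u : G ⟶ G') [IsMonHom u] (q : Q ⟶ G') (i : T ⟶ G)
    (hi : Red.IsMaximalTorus i) (r : R ⟶ G') (v : T ⟶ R) [Surjective v.left] [Flat v.left] (hv : v ≫ r = i ≫ u)
    (g' : 𝟙_ (Over S) ⟶ G') (hg' : SGA3x.ConjBy r q g') (P : Over S) (g : P ⟶ G) (hg : g ≫ u = toUnit P ≫ g') :
    Lifted u q P.hom := by
  haveI := hi.1
  obtain ⟨φ, hφ⟩ := hg'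
  haveI : LocallyOfFiniteType (Red.bc P.hom G).hom := inferInstanceAs (LocallyOfFiniteType (pullback.snd G.hom P.hom))
  haveI : QuasiCompact (Red.bc P.hom G).hom := inferInstanceAs (QuasiCompact (pullback.snd G.hom P.hom))
  haveI : IsIso φ.hom.left := ((Over.forget _).mapIso φ).isIso_hom
  haveI : IsMonHom (Iso.refl (Red.bc P.hom T)).hom := inferInstanceAs (IsMonHom (𝟙 (Red.bc P.hom T)))
  refine ⟨_, inferInstance, (Over.pullback P.hom).map i ≫ (inn (sec g)).hom, (Over.pullback P.hom).map (v ≫ φ.hom),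
    isMaximalTorus_iso (Iso.refl _) (inn (sec g)) _ _ (by rw [Iso.refl_hom, Category.id_comp])
      (Borel.isTorus_bc_scheme T P.hom hi.2.2.1) (MaxTorusBC.isMaximalTorus_bc i hi P.hom), ?_, ?_, ?_⟩
  · obtain ⟨a, ha⟩ := exists_toBC' P.hom (𝟙 (Red.bc P.hom T))
    have hs : ∀ {H : Over S} (b : P ⟶ H), toUnit (Red.bc P.hom T) ≫ sec b =
        toBC P.hom (((Over.map P.hom).map (toUnit (Red.bc P.hom T)) ≫ (secIso P).hom) ≫ b) := fun b => by
      rw [sec, ← toBC_naturality, Category.assoc]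
    have h1 : (Over.pullback P.hom).map i = toBC P.hom (a ≫ i) := by rw [toBC_comp, ha, Category.id_comp]
    rw [← Functor.map_comp, Category.assoc, ← hφ, ← Category.id_comp ((Over.pullback P.hom).map (_ ≫ _)), ← ha,
      ← toBC_comp, h1, comp_inn, hs g, ← toBC_inv, ← toBC_mul, ← toBC_mul, ← toBC_comp]
    refine congrArg (toBC P.hom) ?_
    simp only [MonObj.comp_mul, GrpObj.comp_inv, MonObj.mul_comp, GrpObj.inv_comp, Category.assoc, hg, hv]
    simp only [← Category.assoc, comp_toUnit]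
  · exact MorphismProperty.of_isPullback (P := @Surjective) (isPullback_map (v ≫ φ.hom) P.hom)
      (inferInstanceAs (Surjective (v.left ≫ φ.hom.left)))
  · exact MorphismProperty.of_isPullback (P := @Flat) (isPullback_map (v ≫ φ.hom) P.hom)
      (inferInstanceAs (Flat (v.left ≫ φ.hom.left)))

/-- A maximal torus above exists on an fpqc cover. -/
theorem exists_lifted {G G' Q : Over S} [GrpObj G] [GrpObj G'] [GrpObj Q] [Smooth G.hom] [IsSeparated G.hom]
    [QuasiCompact G.hom] [Smooth G'.hom] [IsSeparated G'.hom] [QuasiCompact G'.hom]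
    (hG : SGA3x.HasMaxTorusFpqcLocally G) (u : G ⟶ G') [IsMonHom u]
    (hu : ∀ s : S, Surjective ((Over.pullback (Red.geomPt s)).map u).left) (q : Q ⟶ G') (hq : Red.IsMaximalTorus q) :
    ∃ (S' : Scheme.{u}) (f : S' ⟶ S), Flat f ∧ Surjective f ∧
      (∀ V : S.Opens, IsAffineOpen V → ∃ W : S'.Opens, IsCompact (W : Set S') ∧ f.base '' (W : Set S') = (V : Set S)) ∧
      Lifted u q f := by
  haveI := hq.1
  haveI := surjective_of_geom u hu
  obtain ⟨S₁, f₁, hf₁, hf₁s, T₁, hT₁g, i₁, hi₁⟩ := etaleLocally_of_fpqcLocally hG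
  haveI := hf₁; haveI := hf₁s
  haveI : Smooth (Red.bc f₁ G).hom := inferInstanceAs (Smooth (pullback.snd G.hom f₁))
  haveI : IsSeparated (Red.bc f₁ G).hom := inferInstanceAs (IsSeparated (pullback.snd G.hom f₁))
  haveI : QuasiCompact (Red.bc f₁ G).hom := inferInstanceAs (QuasiCompact (pullback.snd G.hom f₁))
  haveI : Smooth (Red.bc f₁ G').hom := inferInstanceAs (Smooth (pullback.snd G'.hom f₁))
  haveI : IsSeparated (Red.bc f₁ G').hom := inferInstanceAs (IsSeparated (pullback.snd G'.hom f₁))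
  haveI : QuasiCompact (Red.bc f₁ G').hom := inferInstanceAs (QuasiCompact (pullback.snd G'.hom f₁))
  let u₁ := (Over.pullback f₁).map u
  let q₁ := (Over.pullback f₁).map q
  haveI : Surjective u₁.left := MorphismProperty.of_isPullback (isPullback_map u f₁) ‹_›
  obtain ⟨R, hRg, r, v, hr, hvm, hv, hvs, hvf⟩ := Groth.Agent.S4147.result S₁ (Red.bc f₁ G) (Red.bc f₁ G')
    (hasMaxTorusFpqcLocally_bc hG f₁) u₁ (fun x => MorphismProperty.of_isPullback (P := @Surjective)
      (isPullback_map u₁ (Red.geomPt x)) ‹_›) T₁ i₁ hi₁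
  haveI := hvs; haveI := hvf; haveI := hi₁.1
  obtain ⟨S₂, f₂, hf₂, hf₂s, g', hg'⟩ := Groth.Agent.S4116.result S₁ (Red.bc f₁ G') R _ r q₁ hr
    (MaxTorusBC.isMaximalTorus_bc q hq f₁)
  haveI := hf₂; haveI := hf₂s
  let G₂ := Red.bc f₂ (Red.bc f₁ G)
  let G₂' := Red.bc f₂ (Red.bc f₁ G')
  let u₂ : G₂ ⟶ G₂' := (Over.pullback f₂).map u₁
  haveI : Smooth G₂.hom := inferInstanceAs (Smooth (pullback.snd (Red.bc f₁ G).hom f₂))
  haveI : QuasiCompact G₂.hom := inferInstanceAs (QuasiCompact (pullback.snd (Red.bc f₁ G).hom f₂))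
  haveI : Smooth G₂'.hom := inferInstanceAs (Smooth (pullback.snd (Red.bc f₁ G').hom f₂))
  haveI : IsSeparated G₂'.hom := inferInstanceAs (IsSeparated (pullback.snd (Red.bc f₁ G').hom f₂))
  haveI : IsMonHom u₂ := inferInstanceAs (IsMonHom ((Over.pullback f₂).map u₁))
  haveI : Surjective u₂.left := MorphismProperty.of_isPullback (isPullback_map u₁ f₂) ‹_›
  haveI : Flat u₂.left := flat_hom u₂
  haveI : QuasiCompact (u₂.left ≫ G₂'.hom) := by rw [Over.w u₂]; infer_instance
  haveI : QuasiCompact u₂.left := QuasiCompact.of_comp _ G₂'.hom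
  let π : pullback g'.left u₂.left ⟶ S₂ := pullback.fst g'.left u₂.left
  haveI : Surjective π := MorphismProperty.pullback_fst _ _ ‹_›
  haveI : Flat π := MorphismProperty.pullback_fst _ _ ‹_›
  haveI : QuasiCompact π := MorphismProperty.pullback_fst _ _ ‹_›
  let P : Over S₂ := Over.mk π
  let g : P ⟶ G₂ := Over.homMk (pullback.snd g'.left u₂.left) (by
    show pullback.snd g'.left u₂.left ≫ G₂.hom = π
    rw [← Over.w u₂, ← pullback.condition_assoc]
    exact (congrArg (π ≫ ·) (Over.w g')).trans (Category.comp_id _))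
  have hg : g ≫ u₂ = toUnit P ≫ g' := by
    apply Over.OverMorphism.ext
    show pullback.snd g'.left u₂.left ≫ u₂.left = (toUnit P).left ≫ g'.left
    rw [← pullback.condition, show (toUnit P).left = π from (Category.comp_id _).symm.trans (Over.w (toUnit P))]
  haveI : Surjective ((Over.pullback f₂).map v).left := MorphismProperty.of_isPullback (isPullback_map v f₂) hvs
  haveI : Flat ((Over.pullback f₂).map v).left := MorphismProperty.of_isPullback (isPullback_map v f₂) hvf
  have hL : Lifted u₂ ((Over.pullback f₂).map q₁) π :=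
    lifted_of_conj u₂ ((Over.pullback f₂).map q₁) ((Over.pullback f₂).map i₁)
      (MaxTorusBC.isMaximalTorus_bc i₁ hi₁ f₂) ((Over.pullback f₂).map r) ((Over.pullback f₂).map v)
      (by rw [← Functor.map_comp, hv, Functor.map_comp]) g' hg' P g hg
  refine ⟨_, (π ≫ f₂) ≫ f₁, inferInstance, inferInstance, ?_, lifted_comp u q f₁ _ (lifted_comp u₁ q₁ f₂ π hL)⟩
  refine MTDescent.cov_comp (π ≫ f₂) f₁ (MTDescent.cov_comp π f₂ (hcov_of_quasiCompact π) ?_) ?_
  · exact fun V hV => exists_compact_lift f₂ V hV.isCompact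
  · exact fun V hV => exists_compact_lift f₁ V hV.isCompact

/-- The two pullbacks of a lift agree. -/
theorem descentPair_of_lifted {G G' Q : Over S} [GrpObj G] [GrpObj G'] [GrpObj Q] [Smooth G.hom]
    [QuasiCompact G.hom] {u : G ⟶ G'} [IsMonHom u] (hker : CentralKer u) (q : Q ⟶ G') [IsMonHom q]
    (hQ : Red.IsTorus Q) {f : U ⟶ S} {T : Over U} [GrpObj T] (t : T ⟶ Red.bc f G) (ht : Red.IsMaximalTorus t)
    (v : T ⟶ Red.bc f Q) (hv : v ≫ (Over.pullback f).map q = t ≫ (Over.pullback f).map u) : DescentPair t := by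
  intro W x₁ x₂ c e₁c e₂c e₁ e₂ he₁ he₂
  haveI := ht.1
  haveI : Smooth (Red.bc c G).hom := inferInstanceAs (Smooth (pullback.snd G.hom c))
  haveI : QuasiCompact (Red.bc c G).hom := inferInstanceAs (QuasiCompact (pullback.snd G.hom c))
  haveI : LocallyOfFiniteType (Red.bc f G).hom := inferInstanceAs (LocallyOfFiniteType (pullback.snd G.hom f))
  haveI : QuasiCompact (Red.bc f G).hom := inferInstanceAs (QuasiCompact (pullback.snd G.hom f))
  have key : ∀ (x : W ⟶ U) (ec : x ≫ f = c) (e : Red.bc c G ≅ Red.bc x (Red.bc f G)),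
      e.hom = MaxTorusExt.tr ec (𝟙 _) → Red.IsMaximalTorus ((Over.pullback x).map t ≫ e.inv) ∧
        ∃ w, w ≫ (Over.pullback c).map q = ((Over.pullback x).map t ≫ e.inv) ≫ (Over.pullback c).map u := by
    intro x ec e he
    obtain ⟨e', he', hm⟩ := MaxTorusBC.exists_trIso ec G
    obtain rfl : e = e' := Iso.ext (he.trans he'.symm)
    haveI : IsMonHom e.hom := hm
    haveI : IsMonHom e.symm.hom := inferInstanceAs (IsMonHom e.inv)
    haveI : IsMonHom (Iso.refl (Red.bc x T)).hom := inferInstanceAs (IsMonHom (𝟙 (Red.bc x T)))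
    obtain ⟨eH, hH, -⟩ := MaxTorusBC.exists_trIso ec G'
    obtain ⟨eQ, hQ', -⟩ := MaxTorusBC.exists_trIso ec Q
    refine ⟨isMaximalTorus_iso (Iso.refl _) e.symm _ _ (by rw [Iso.refl_hom, Category.id_comp]; rfl)
      (Borel.isTorus_bc_scheme T x ht.2.2.1) (MaxTorusBC.isMaximalTorus_bc t ht x),
      (Over.pullback x).map v ≫ eQ.inv, ?_⟩
    have n1 : (Over.pullback c).map u ≫ eH.hom = e.hom ≫ (Over.pullback x).map ((Over.pullback f).map u) := by
      rw [he, hH, trIso_natural]
    have n2 : (Over.pullback c).map q ≫ eH.hom = eQ.hom ≫ (Over.pullback x).map ((Over.pullback f).map q) := by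
      rw [hQ', hH, trIso_natural]
    rw [← cancel_mono eH.hom]
    simp only [Category.assoc]
    rw [n1, n2, Iso.inv_hom_id_assoc, Iso.inv_hom_id_assoc, ← Functor.map_comp, hv, Functor.map_comp]
  obtain ⟨h₁, w₁, hw₁⟩ := key x₁ e₁c e₁ he₁
  obtain ⟨h₂, w₂, hw₂⟩ := key x₂ e₂c e₂ he₂
  obtain ⟨φ, hφ⟩ := exists_iso_of_image (centralKer_bc hker c) (Borel.isTorus_bc_scheme Q c hQ)
    ((Over.pullback c).map q) _ h₁ _ h₂ w₁ w₂ hw₁ hw₂
  refine ⟨φ.hom, ?_⟩
  rw [← Category.assoc _ e₁.inv, ← hφ, Category.assoc, Category.assoc, Iso.inv_hom_id, Category.comp_id]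

/-- **A maximal torus of the quotient lifts.** -/
theorem exists_preimage_torus {G G' Q : Over S} [GrpObj G] [GrpObj G'] [GrpObj Q] [Smooth G.hom] [IsSeparated G.hom]
    [QuasiCompact G.hom] [Smooth G'.hom] [IsSeparated G'.hom] [QuasiCompact G'.hom]
    (hG : SGA3x.HasMaxTorusFpqcLocally G) (u : G ⟶ G') [IsMonHom u]
    (hu : ∀ s : S, Surjective ((Over.pullback (Red.geomPt s)).map u).left) (hker : CentralKer u)
    (q : Q ⟶ G') (hq : Red.IsMaximalTorus q) :
    ∃ (T : Over S) (_ : GrpObj T) (i : T ⟶ G) (v : T ⟶ Q), Red.IsMaximalTorus i ∧ IsMonHom v ∧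
      v ≫ q = i ≫ u ∧ Surjective v.left ∧ Flat v.left := by
  haveI := hq.1; haveI := hq.2.1
  obtain ⟨S', f, hf, hfs, hcov, T', hT'g, t, w, ht, hw, hws, hwf⟩ := exists_lifted hG u hu q hq
  haveI := ht.1
  obtain ⟨T, hTg, i, hi, φ, hφm, hφ⟩ := exists_descend_maxTorus f hf hfs hcov t ht
    (descentPair_of_lifted hker q hq.2.2.1 t ht w hw)
  haveI := hi.1
  let εl : (Over.map f).obj (Red.bc f T) ⟶ T := Over.homMk (pullback.fst T.hom f) pullback.condition
  have hεl : toBC f εl = 𝟙 (Red.bc f T) := by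
    apply Over.OverMorphism.ext
    apply pullback.hom_ext
    · rw [MTDescent.left_toBC_fst_eq]
      exact (Category.id_comp _).symm
    · exact (Over.w (toBC f εl)).trans (Category.id_comp _).symm
  have hC : CoverMap.Covers εl.left := (CoverMap.covers_of_hcov
    ⟨S', f, 𝟙 _, Category.id_comp _, hfs, hf, hcov⟩).of_isPullback (IsPullback.of_hasPullback T.hom f)
  obtain ⟨y, hy⟩ := exists_toBC' f (φ.hom ≫ w)
  have hyq : y ≫ q = εl ≫ i ≫ u := toBC_inj f (by
    rw [toBC_comp, hy, Category.assoc, hw, reassoc_of% hφ, toBC_comp, hεl, Category.id_comp, Functor.map_comp])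
  obtain ⟨v, hv, -⟩ := CoverMap.existsUnique_fac hC y fun W a b hab => by
    rw [← cancel_mono q, Category.assoc, Category.assoc, hyq, reassoc_of% hab]
  haveI := CoverMap.epi_over hC
  have hvq : v ≫ q = i ≫ u := by rw [← cancel_epi εl, reassoc_of% hv, hyq]
  haveI : IsMonHom v := MTSplit.isMonHom_of_comp_mono v q (i ≫ u) hvq
  have hfv : (Over.pullback f).map v = φ.hom ≫ w := by
    rw [← hy, ← hv, toBC_comp, hεl, Category.id_comp]
  haveI : IsIso φ.hom.left := ((Over.forget _).mapIso φ).isIso_hom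
  haveI := hws; haveI := hwf
  haveI hvs' : Surjective ((Over.pullback f).map v).left := by
    rw [hfv]; exact inferInstanceAs (Surjective (φ.hom.left ≫ w.left))
  haveI hvf' : Flat ((Over.pullback f).map v).left := by
    rw [hfv]; exact inferInstanceAs (Flat (φ.hom.left ≫ w.left))
  have hCQ : CoverMap.Covers (pullback.fst Q.hom f) := (CoverMap.covers_of_hcov
    ⟨S', f, 𝟙 _, Category.id_comp _, hfs, hf, hcov⟩).of_isPullback (IsPullback.of_hasPullback Q.hom f)
  haveI : Surjective (pullback.fst Q.hom f) := MorphismProperty.pullback_fst _ _ hfs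
  refine ⟨T, hTg, i, v, hi, inferInstance, hvq, ?_, hCQ.descend @Flat (isPullback_map v f) hvf'⟩
  haveI : Surjective (pullback.fst T.hom f ≫ v.left) := by
    rw [(isPullback_map v f).w]; infer_instance
  exact Surjective.of_comp (pullback.fst T.hom f) v.left

end Groth.Agent.MTImage
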