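import Groth.Agent.MTImage.PreimageTorus
import Groth.Agent.S4118
import Groth.Agent.S4119
import Groth.Agent.S8407
import Groth.Agent.S8428

/-!
# Cartan subgroups and central extensions

For a homomorphism with central kernel onto a group with connected fibres, the centralizer of a maximal torus is the
preimage of the centralizer of the image torus.
-/

set_option autoImplicit false
set_option linter.style.haveILetI false
set_option backward.isDefEq.respectTransparency false
set_option maxHeartbeats 1000000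
set_option synthInstance.maxHeartbeats 400000

universe u

noncomputable section

open CategoryTheory Limits MonoidalCategory CartesianMonoidalCategory MonObj GrpObj AlgebraicGeometry
open scoped CategoryTheory.Obj

namespace Groth.Agent.MTImage

open Groth.Agent.MTBridge Groth.Agent.Chev

variable {S : Scheme.{u}}

/-- Conjugation of a maximal torus by a family lands in it if the conjugates commute with it. -/
theorem exists_conj_torus {T E G : Over S} [GrpObj T] [GrpObj G] [Smooth G.hom] [QuasiCompact G.hom]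
    (i : T ⟶ G) (hi : Red.IsMaximalTorus i) (j : E ⟶ G)
    (hcomm : ∀ (X : Over S) (a b : X ⟶ T) (e : X ⟶ E),
      (a ≫ i) * ((e ≫ j) * (b ≫ i) * (e ≫ j)⁻¹) = ((e ≫ j) * (b ≫ i) * (e ≫ j)⁻¹) * (a ≫ i)) :
    ∃ c : T ⊗ E ⟶ T, c ≫ i = (snd T E ≫ j) * (fst T E ≫ i) * (snd T E ≫ j)⁻¹ := by
  haveI := hi.1; haveI := hi.2.1
  let g := E.hom
  haveI : LocallyOfFiniteType (Red.bc g G).hom := inferInstanceAs (LocallyOfFiniteType (pullback.snd G.hom g))
  haveI : QuasiCompact (Red.bc g G).hom := inferInstanceAs (QuasiCompact (pullback.snd G.hom g))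
  let σ : 𝟙_ (Over E.left) ⟶ Red.bc g G := sec j
  have hσ : ∀ (Y : Over E.left), ∃ e : (Over.map g).obj Y ⟶ E, toUnit Y ≫ σ = toBC g (e ≫ j) := fun Y =>
    ⟨(Over.map g).map (toUnit Y) ≫ (secIso E).hom, by
      show toUnit Y ≫ toBC E.hom ((secIso E).hom ≫ j) = _
      rw [← toBC_naturality, Category.assoc]⟩
  haveI : IsMonHom ((Over.pullback g).map i ≫ (inn σ).hom) := inferInstance
  obtain ⟨c₀, hc₀⟩ := MTTorus.exists_factor_maximalTorus ((Over.pullback g).map i)
    (MaxTorusBC.isMaximalTorus_bc i hi g) (Borel.isTorus_bc_scheme T g hi.2.2.1)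
    ((Over.pullback g).map i ≫ (inn σ).hom) fun Y a b => by
      obtain ⟨a, rfl⟩ := exists_toBC' g a
      obtain ⟨b, rfl⟩ := exists_toBC' g b
      obtain ⟨e, he⟩ := hσ Y
      rw [← Category.assoc, comp_inn, he, ← toBC_comp, ← toBC_comp, ← toBC_inv, ← toBC_mul, ← toBC_mul, ← toBC_mul,
        ← toBC_mul]
      exact congrArg (toBC g) (hcomm _ a b e)
  let X₀ := T ⊗ E
  let Y₀ : Over E.left := Over.mk (snd T E).left
  let ε : (Over.map g).obj Y₀ ≅ X₀ := Over.isoMk (Iso.refl _) (by
    show 𝟙 _ ≫ X₀.hom = (snd T E).left ≫ E.hom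
    rw [Category.id_comp, Over.w (snd T E)])
  obtain ⟨w, hw⟩ := exists_toBC' g (toBC g (ε.hom ≫ fst T E) ≫ c₀)
  have he : (Over.map g).map (toUnit Y₀) ≫ (secIso E).hom = ε.hom ≫ snd T E := by
    apply Over.OverMorphism.ext
    show (toUnit Y₀).left ≫ 𝟙 _ = 𝟙 _ ≫ (snd T E).left
    rw [Category.comp_id, Category.id_comp]
    exact (Category.comp_id _).symm.trans (Over.w (toUnit Y₀))
  refine ⟨ε.inv ≫ w, (cancel_epi ε.hom).1 (toBC_inj g ?_)⟩
  rw [Category.assoc, Iso.hom_inv_id_assoc, toBC_comp, hw, Category.assoc, hc₀, ← Category.assoc, comp_inn, ← toBC_comp]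
  simp only [MonObj.comp_mul, GrpObj.comp_inv, toBC_mul, toBC_inv, Category.assoc]
  have hs : toUnit Y₀ ≫ σ = toBC g (ε.hom ≫ snd T E ≫ j) := by
    show toUnit Y₀ ≫ toBC E.hom ((secIso E).hom ≫ j) = _
    rw [← toBC_naturality, ← Category.assoc, he, Category.assoc]
  rw [hs]

/-- A family normalizing a subgroup of multiplicative type whose action factors through a group with connected fibres
centralizes it. -/
theorem commute_of_saturated {H E U G : Over S} [GrpObj H] [GrpObj U] [GrpObj G] (hH : SGA3x.IsMultTypeFT H)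
    (i : H ⟶ G) [IsMonHom i] [Mono i] (j : E ⟶ G) (p : E ⟶ U) [Surjective p.left] [Flat p.left]
    [QuasiCompact p.left] (e₀ : 𝟙_ (Over S) ⟶ E) (he₀ : e₀ ≫ j = 1)
    (hU : ∀ s : S, _root_.IsConnected (U.hom.base ⁻¹' {s}))
    (hsame : ∀ (X : Over S) (e e' : X ⟶ E) (a : X ⟶ H), e ≫ p = e' ≫ p →
      (e ≫ j) * (a ≫ i) * (e ≫ j)⁻¹ = (e' ≫ j) * (a ≫ i) * (e' ≫ j)⁻¹)
    (c : H ⊗ E ⟶ H) (hc : c ≫ i = (snd H E ≫ j) * (fst H E ≫ i) * (snd H E ≫ j)⁻¹) :
    ∀ (X : Over S) (a : X ⟶ H) (e : X ⟶ E), (a ≫ i) * (e ≫ j) = (e ≫ j) * (a ≫ i) := by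
  have hH' := locally_of_isMultTypeFT' H hH
  have hc' : ∀ (X : Over S) (a : X ⟶ H) (e : X ⟶ E),
      (lift a e ≫ c) ≫ i = (e ≫ j) * (a ≫ i) * (e ≫ j)⁻¹ := by
    intro X a e
    rw [Category.assoc, hc]
    simp [MonObj.comp_mul, GrpObj.comp_inv]
  let d : H ⊗ E ⟶ H := c * (fst H E)⁻¹
  have hd' : ∀ (X : Over S) (a : X ⟶ H) (e : X ⟶ E), lift a e ≫ d = (lift a e ≫ c) * a⁻¹ := by
    intro X a e
    simp [d, MonObj.comp_mul, GrpObj.comp_inv]
  have hd : ∀ (X : Over S) (a b : X ⟶ H) (e : X ⟶ E),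
      lift (a * b) e ≫ d = (lift a e ≫ d) * (lift b e ≫ d) := by
    intro X a b e
    have h1 : lift (a * b) e ≫ c = (lift a e ≫ c) * (lift b e ≫ c) := by
      refine (cancel_mono i).1 ?_
      rw [MonObj.mul_comp, hc', hc', hc', MonObj.mul_comp]
      group
    rw [hd', hd', hd', h1, _root_.mul_inv_rev, comm_points_scheme H hH' b⁻¹ a⁻¹]
    simp only [_root_.mul_assoc]
    rw [← _root_.mul_assoc (lift b e ≫ c), comm_points_scheme H hH' (lift b e ≫ c) a⁻¹, _root_.mul_assoc]
  obtain ⟨L, hLc, hL1, hL2⟩ := exists_centralizing_locus hH d hd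
  have hone : ∀ q : ↥(𝟙_ (Over S)).left, e₀.left q ∈ L := by
    intro q
    let K := (𝟙_ (Over S)).left.residueField q
    have hq : (𝟙_ (Over S)).left.fromSpecResidueField q (IsLocalRing.closedPoint K) = q :=
      (𝟙_ (Over S)).left.fromSpecResidueField_apply q _
    have h := hL2 K ((𝟙_ (Over S)).left.fromSpecResidueField q ≫ e₀.left) (fun X x hx a => by
      let e : X ⟶ E := Over.homMk (x ≫ (𝟙_ (Over S)).left.fromSpecResidueField q ≫ e₀.left)
        (by rw [Category.assoc]; exact hx)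
      let x' : X ⟶ 𝟙_ (Over S) := Over.homMk (x ≫ (𝟙_ (Over S)).left.fromSpecResidueField q) (by
        rw [← hx, Category.assoc, Category.assoc, Over.w e₀])
      have he : e = x' ≫ e₀ := Over.OverMorphism.ext (Category.assoc _ _ _).symm
      show lift a e ≫ d = 1
      rw [hd', mul_inv_eq_one]
      refine (cancel_mono i).1 ?_
      rw [hc', he, Category.assoc, he₀, MonObj.comp_one, _root_.one_mul, inv_one, _root_.mul_one])
        (IsLocalRing.closedPoint K)
    rw [Scheme.Hom.comp_apply] at h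
    exact (congrArg (fun w => e₀.left w ∈ L) hq).mp h
  have hsat : ∀ e e' : E.left, p.left e = p.left e' → e ∈ L → e' ∈ L := by
    intro e e' hee he
    obtain ⟨z, hz1, hz2⟩ := Scheme.Pullback.exists_preimage_pullback (f := p.left) (g := p.left) e e' hee
    let Q := pullback p.left p.left
    let K := Q.residueField z
    let k := Q.fromSpecResidueField z
    have hk : ∀ t, k t = z := fun t => Q.fromSpecResidueField_apply z t
    have h := hL2 K (k ≫ pullback.snd p.left p.left) (fun X x hx a => by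
      have hw : (x ≫ k ≫ pullback.fst p.left p.left) ≫ E.hom = X.hom := by
        rw [← hx, Category.assoc, Category.assoc, Category.assoc]
        congr 2
        rw [← Over.w p, pullback.condition_assoc]
      let e₁ : X ⟶ E := Over.homMk (x ≫ k ≫ pullback.fst p.left p.left) hw
      let e₂ : X ⟶ E := Over.homMk (x ≫ k ≫ pullback.snd p.left p.left) (by rw [Category.assoc]; exact hx)
      show lift a e₂ ≫ d = 1
      have hp : e₁ ≫ p = e₂ ≫ p := by
        apply Over.OverMorphism.ext
        show (x ≫ k ≫ pullback.fst p.left p.left) ≫ p.left = (x ≫ k ≫ pullback.snd p.left p.left) ≫ p.left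
        simp only [Category.assoc, pullback.condition]
      have h1 := hL1 X e₁ (by
        rintro _ ⟨t, rfl⟩
        show (x ≫ k ≫ pullback.fst p.left p.left) t ∈ L
        rw [Scheme.Hom.comp_apply, Scheme.Hom.comp_apply]
        exact (congrArg (fun w => pullback.fst p.left p.left w ∈ L) (hk (x t))).mpr (hz1.symm ▸ he)) a
      rw [hd', mul_inv_eq_one] at h1 ⊢
      rw [← cancel_mono i, hc', ← hsame X e₁ e₂ a hp, ← hc', h1]) (IsLocalRing.closedPoint K)
    rw [Scheme.Hom.comp_apply] at h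
    exact hz2 ▸ (congrArg (fun w => pullback.snd p.left p.left w ∈ L) (hk _)).mp h
  have hpre : p.left ⁻¹' (p.left '' (L : Set E.left)) = L :=
    Set.Subset.antisymm (fun e' ⟨e, he, hee⟩ => hsat e e' hee he) (Set.subset_preimage_image _ _)
  have hqm := Flat.isQuotientMap_of_surjective p.left
  let W : Set U.left := p.left '' (L : Set E.left)
  have hW : IsClopen W := by
    refine ⟨?_, ?_⟩
    · rw [← hqm.isClosed_preimage, hpre]; exact hLc
    · rw [← hqm.isOpen_preimage, hpre]; exact L.2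
  have hall : ∀ e : E.left, e ∈ L := by
    intro e
    let s := U.hom (p.left e)
    obtain ⟨q, hq⟩ : ∃ q : ↥(𝟙_ (Over S)).left, (𝟙_ (Over S)).hom q = s := ⟨s, rfl⟩
    have hmem : U.hom (p.left (e₀.left q)) = s := by
      rw [← Scheme.Hom.comp_apply, ← Scheme.Hom.comp_apply, Over.w p, Over.w e₀, hq]
    have h1 := (hU s).isPreconnected.subset_isClopen hW ⟨p.left (e₀.left q), hmem, ⟨_, hone q, rfl⟩⟩
      (show p.left e ∈ U.hom.base ⁻¹' {s} from rfl)
    exact hpre.le h1
  intro X a e
  have h1 := hL1 X e (fun t _ => hall t) a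
  rw [hd', mul_inv_eq_one] at h1
  have h2 := hc' X a e
  rw [h1, eq_mul_inv_iff_mul_eq] at h2
  exact h2

/-- Cartan subgroups of groups with connected fibres have connected fibres. -/
theorem isConnected_fibre_cartan {C G : Over S} [GrpObj C] [GrpObj G] [Smooth G.hom] [QuasiCompact G.hom]
    (hconn : ∀ s : S, _root_.IsConnected (G.hom.base ⁻¹' {s})) (c : C ⟶ G) (hc : SGA3x.IsCartan c) (s : S) :
    _root_.IsConnected (C.hom.base ⁻¹' {s}) := by
  let a := Red.geomPt s
  obtain ⟨-, -, T, hTg, i, hi, hC⟩ := hc.2.2.2 s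
  haveI := hi.1; haveI := hi.2.1
  haveI : Smooth (Red.bc a G).hom := inferInstanceAs (Smooth (pullback.snd G.hom a))
  haveI : QuasiCompact (Red.bc a G).hom := inferInstanceAs (QuasiCompact (pullback.snd G.hom a))
  haveI : GeometricallyIrreducible G.hom := GrpField.geometricallyIrreducible_of_connected_fibres G hconn
  haveI : IrreducibleSpace ↥(pullback G.hom a) :=
    GeometricallyIrreducible.geometrically_irreducibleSpace _ _ _ (.of_hasPullback _ _)
  haveI : ConnectedSpace ↥(Red.bc a G).left := inferInstanceAs (ConnectedSpace ↥(pullback G.hom a))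
  haveI : ConnectedSpace ↥(pullback C.hom a) := (Groth.Agent.S8407.result _ _ T i hi.2.2.1 _ _ hC).2
  have hr : Set.range a = {s} := by
    refine Set.eq_singleton_iff_unique_mem.2 ⟨⟨IsLocalRing.closedPoint _, ?_⟩, ?_⟩
    · show (Spec.map _ ≫ S.fromSpecResidueField s) _ = s
      rw [Scheme.Hom.comp_apply]; exact S.fromSpecResidueField_apply _ _
    · rintro _ ⟨z, rfl⟩
      show (Spec.map _ ≫ S.fromSpecResidueField s) _ = s
      rw [Scheme.Hom.comp_apply]; exact S.fromSpecResidueField_apply _ _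
  have h : Set.range (pullback.fst C.hom a) = C.hom.base ⁻¹' {s} := by
    rw [Scheme.Pullback.range_fst, hr]
  rw [← h]
  exact isConnected_range (pullback.fst C.hom a).continuous

/-- **The centralizer of a maximal torus is the preimage of the centralizer of its image.** -/
theorem exists_isPullback_cartan {T Q C D G G' : Over S} [GrpObj T] [GrpObj Q] [GrpObj C] [GrpObj D] [GrpObj G]
    [GrpObj G'] [Smooth G.hom] [IsSeparated G.hom] [QuasiCompact G.hom] [Smooth G'.hom] [IsSeparated G'.hom]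
    [QuasiCompact G'.hom] (u : G ⟶ G') [IsMonHom u] [Surjective u.left] (hker : CentralKer u)
    (hconn : ∀ s : S, _root_.IsConnected (G'.hom.base ⁻¹' {s}))
    (i : T ⟶ G) (hi : Red.IsMaximalTorus i) (q : Q ⟶ G') (hq : Red.IsMaximalTorus q) (v : T ⟶ Q)
    (hv : v ≫ q = i ≫ u) [Surjective v.left] [Flat v.left]
    (c : C ⟶ G) (hC : Red.IsCentralizerOf i c) (d : D ⟶ G') (hD : Red.IsCentralizerOf q d)
    (hd : SGA3x.IsCartan d) :
    ∃ w : C ⟶ D, IsMonHom w ∧ Surjective w.left ∧ Flat w.left ∧ IsPullback c w u d := by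
  haveI := hi.1; haveI := hq.1; haveI := hq.2.1; haveI := hC.1; haveI := hC.2.1; haveI := hD.1; haveI := hD.2.1
  haveI := hi.2.1
  haveI : Flat u.left := flat_hom u
  haveI : QuasiCompact (u.left ≫ G'.hom) := by rw [Over.w u]; infer_instance
  haveI : QuasiCompact u.left := QuasiCompact.of_comp _ G'.hom
  haveI : QuasiCompact T.hom := by
    haveI := MTBridge.isAffineHom T (MTBridge.isMultTypeFT_of_isTorus T hi.2.2.1)
    infer_instance
  haveI : IsSeparated Q.hom := by
    haveI := MTBridge.isAffineHom Q (MTBridge.isMultTypeFT_of_isTorus Q hq.2.2.1)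
    infer_instance
  haveI : QuasiCompact (v.left ≫ Q.hom) := by rw [Over.w v]; infer_instance
  haveI : QuasiCompact v.left := QuasiCompact.of_comp _ Q.hom
  obtain ⟨w, hw⟩ : ∃ w : C ⟶ D, w ≫ d = c ≫ u := by
    refine (hD.2.2 C (c ≫ u)).2 fun X x y => ?_
    let L : Over S := Over.mk (pullback.fst y.left v.left ≫ X.hom)
    let l : L ⟶ X := Over.homMk (pullback.fst y.left v.left) rfl
    let a : L ⟶ T := Over.homMk (pullback.snd y.left v.left) (by
      show _ ≫ T.hom = pullback.fst y.left v.left ≫ X.hom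
      rw [← Over.w v, ← pullback.condition_assoc, Over.w y])
    have ha : a ≫ v = l ≫ y := Over.OverMorphism.ext pullback.condition.symm
    haveI : Surjective l.left := MorphismProperty.pullback_fst _ _ ‹Surjective v.left›
    haveI : Flat l.left := MorphismProperty.pullback_fst _ _ ‹Flat v.left›
    haveI : QuasiCompact l.left := MorphismProperty.pullback_fst _ _ ‹QuasiCompact v.left›
    haveI : Epi l.left := Flat.epi_of_flat_of_surjective _
    haveI : Epi l := (Over.forget S).epi_of_epi_map ‹Epi l.left›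
    rw [← cancel_epi l]
    simp only [MonObj.comp_mul, ← Category.assoc]
    rw [← ha, Category.assoc a v q, hv]
    simp only [← Category.assoc, ← MonObj.mul_comp]
    exact congrArg (· ≫ u) ((hC.2.2 _ c).1 ⟨𝟙 C, Category.id_comp c⟩ L (l ≫ x) a)
  -- the preimage centralizes
  let Eo : Over S := Over.mk (pullback.fst u.left d.left ≫ G.hom)
  let j : Eo ⟶ G := Over.homMk (pullback.fst u.left d.left) rfl
  let p : Eo ⟶ D := Over.homMk (pullback.snd u.left d.left) (by
    show _ ≫ D.hom = pullback.fst u.left d.left ≫ G.hom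
    rw [← Over.w d, ← pullback.condition_assoc, Over.w u])
  have hjp : j ≫ u = p ≫ d := Over.OverMorphism.ext pullback.condition
  haveI : Surjective p.left := MorphismProperty.pullback_snd _ _ ‹Surjective u.left›
  haveI : Flat p.left := MorphismProperty.pullback_snd _ _ ‹Flat u.left›
  haveI : QuasiCompact p.left := MorphismProperty.pullback_snd _ _ ‹QuasiCompact u.left›
  have hcK : ∀ (X : Over S) (z : X ⟶ G) (g : X ⟶ G), z ≫ u = 1 → z * g = g * z := fun X z g hz => by
    simpa only [Category.id_comp] using hker X z hz X (𝟙 X) g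
  have huE : ∀ (X : Over S) (a : X ⟶ T) (e : X ⟶ Eo),
      ((e ≫ j) * (a ≫ i) * (e ≫ j)⁻¹ * (a ≫ i)⁻¹) ≫ u = 1 := fun X a e => by
    have h := (hD.2.2 X ((e ≫ p) ≫ d)).1 ⟨_, rfl⟩ X (𝟙 X) (a ≫ v)
    simp only [Category.id_comp, Category.assoc, ← hjp, hv] at h
    simp only [MonObj.mul_comp, GrpObj.inv_comp, Category.assoc]
    rw [h]
    simp
  obtain ⟨cc, hcc⟩ := exists_conj_torus i hi j fun X a b e => by
    have hk := hcK X _ (a ≫ i) (huE X b e)
    generalize hkd : (e ≫ j) * (b ≫ i) * (e ≫ j)⁻¹ * (b ≫ i)⁻¹ = k at hk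
    have h3 : (e ≫ j) * (b ≫ i) * (e ≫ j)⁻¹ = k * (b ≫ i) := by rw [← hkd, inv_mul_cancel_right]
    have hab : (b ≫ i) * (a ≫ i) = (a ≫ i) * (b ≫ i) := by
      rw [← MonObj.mul_comp, ← MonObj.mul_comp, RedR1.mul_comm_torus hi.2.2.1]
    rw [h3, ← _root_.mul_assoc, ← hk, _root_.mul_assoc, _root_.mul_assoc, hab]
  obtain ⟨e₀, he₀⟩ : ∃ e₀ : 𝟙_ (Over S) ⟶ Eo, e₀ ≫ j = 1 := by
    refine ⟨Over.homMk (pullback.lift (1 : 𝟙_ (Over S) ⟶ G).left (1 : 𝟙_ (Over S) ⟶ D).left ?_) ?_,
      Over.OverMorphism.ext (pullback.lift_fst _ _ _)⟩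
    · rw [← Over.comp_left, ← Over.comp_left, MonObj.one_comp, MonObj.one_comp]
    · show pullback.lift _ _ _ ≫ pullback.fst u.left d.left ≫ G.hom = _
      rw [pullback.lift_fst_assoc, Over.w]
  have hcom := commute_of_saturated (MTBridge.isMultTypeFT_of_isTorus T hi.2.2.1) i j p e₀ he₀
    (isConnected_fibre_cartan hconn d hd) (fun X e e' a hee => by
      have hk : ((e ≫ j)⁻¹ * (e' ≫ j)) ≫ u = 1 := by
        rw [MonObj.mul_comp, GrpObj.inv_comp, Category.assoc, Category.assoc, hjp, reassoc_of% hee, inv_mul_cancel]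
      have h := hcK X _ (a ≫ i) hk
      generalize hkd : (e ≫ j)⁻¹ * (e' ≫ j) = k at h
      have he' : e' ≫ j = (e ≫ j) * k := by rw [← hkd, mul_inv_cancel_left]
      rw [he', _root_.mul_inv_rev, _root_.mul_assoc (e ≫ j) k, h]
      group) cc hcc
  have hfac : ∀ {X : Over S} (g : X ⟶ G) (z : X ⟶ D), g ≫ u = z ≫ d → ∃ y, y ≫ c = g := by
    intro X g z hgz
    let e : X ⟶ Eo := Over.homMk (pullback.lift g.left z.left (congrArg (fun m => m.left) hgz)) (by
      show pullback.lift _ _ _ ≫ pullback.fst u.left d.left ≫ G.hom = X.hom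
      rw [pullback.lift_fst_assoc, Over.w g])
    have he : e ≫ j = g := Over.OverMorphism.ext (pullback.lift_fst _ _ _)
    refine (hC.2.2 X g).2 fun X' x h => ?_
    have := hcom X' h (x ≫ e)
    rw [Category.assoc, he] at this
    exact this.symm
  have hpb : IsPullback c w u d := ⟨⟨hw.symm⟩, ⟨PullbackCone.IsLimit.mk _
    (fun s => (hfac s.fst s.snd s.condition).choose) (fun s => (hfac s.fst s.snd s.condition).choose_spec)
    (fun s => by rw [← cancel_mono d, Category.assoc, hw, reassoc_of% (hfac s.fst s.snd s.condition).choose_spec, s.condition])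
    (fun s m h₁ _ => by rw [← cancel_mono c, h₁, (hfac s.fst s.snd s.condition).choose_spec])⟩⟩
  have hpl := hpb.map (Over.forget S)
  exact ⟨w, MTSplit.isMonHom_of_comp_mono w d (c ≫ u) hw,
    MorphismProperty.of_isPullback (P := @Surjective) hpl ‹Surjective u.left›,
    MorphismProperty.of_isPullback (P := @Flat) hpl ‹Flat u.left›, hpb⟩

/-- An etale-local maximal torus is an fpqc-local one. -/
theorem fpqcLocally_of_etaleLocally {G : Over S} [GrpObj G] (h : SGA3x.HasMaxTorusEtaleLocally G) :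
    SGA3x.HasMaxTorusFpqcLocally G := by
  obtain ⟨S', f, hf, hfs, hT⟩ := h
  haveI := hf; haveI := hfs
  exact ⟨S', f, inferInstance, hfs, fun V hV => exists_compact_lift f V hV.isCompact, hT⟩

end Groth.Agent.MTImage
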