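import Groth.Agent.MTImage.CartanTorsion
import Groth.Agent.MTImage.CartanImage
import Groth.Agent.InfLift.SmoothLift

/-!
# The transporter of a Cartan subgroup into a smooth subgroup is smooth

When the Cartan subgroup is presented by torsion sections, the transporter into a smooth subgroup is a retract of an
open piece of the smooth scheme of conjugators of torsion tuples.
-/

set_option autoImplicit false
set_option linter.style.haveILetI false
set_option backward.isDefEq.respectTransparency false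
set_option maxHeartbeats 1000000
set_option synthInstance.maxHeartbeats 400000

universe u

noncomputable section

open CategoryTheory Limits MonoidalCategory CartesianMonoidalCategory MonObj GrpObj AlgebraicGeometry
open scoped CategoryTheory.Obj

namespace Groth.Agent.MTImage

open Groth.Agent.MTBridge Groth.Agent.Chev Groth.Agent.Chev.MaxTorusExt

variable {S : Scheme.{u}}

/-- A retract of a smooth scheme is smooth. -/
theorem smooth_of_retract {M O : Over S} [Smooth O.hom] [LocallyOfFinitePresentation M.hom] (s : M ⟶ O) (r : O ⟶ M)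
    (h : s ≫ r = 𝟙 M) : Smooth M.hom := by
  refine Groth.Agent.InfLift.smooth_of_isFormallySmoothHom M.hom fun A _ I hI a b hab => ?_
  obtain ⟨l, hl₁, hl₂⟩ := Groth.Agent.InfLift.isFormallySmoothHom_of_smooth O.hom A I hI (a ≫ s.left) b
    (by rw [Category.assoc, Over.w s]; exact hab)
  refine ⟨l ≫ r.left, ?_, by rw [Category.assoc, Over.w r]; exact hl₂⟩
  rw [← Category.assoc, hl₁, Category.assoc, ← Over.comp_left, h]
  exact Category.comp_id _

/-- The inverse of conjugation by a section. -/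
theorem comp_inn_inv {G X : Over S} [GrpObj G] (g : 𝟙_ (Over S) ⟶ G) (x : X ⟶ G) :
    x ≫ (inn g).inv = (toUnit X ≫ g)⁻¹ * x * (toUnit X ≫ g) := by
  show x ≫ ((toUnit G ≫ g)⁻¹ * 𝟙 G * (toUnit G ≫ g)) = _
  simp only [MonObj.comp_mul, GrpObj.comp_inv, ← Category.assoc, comp_toUnit, Category.comp_id]

/-- A homomorphism which is an isomorphism on all geometric fibres over an open set is one over it. -/
theorem isIso_map_of_geom_fibres {A B : Over S} [Smooth A.hom] [Smooth B.hom] (w : A ⟶ B) (O : S.Opens)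
    (h : ∀ t ∈ O, IsIso ((Over.pullback (Red.geomPt t)).map w).left) : IsIso ((Over.pullback O.ι).map w) := by
  haveI : Smooth (Red.bc O.ι A).hom := inferInstanceAs (Smooth (pullback.snd A.hom O.ι))
  haveI : Smooth (Red.bc O.ι B).hom := inferInstanceAs (Smooth (pullback.snd B.hom O.ι))
  haveI : IsIso ((Over.pullback O.ι).map w).left :=
    FibCrit.isIso_of_fibres (Over.w ((Over.pullback O.ι).map w)) fun t => by
      refine isIso_fibre_of_geom ((Over.pullback O.ι).map w) t ?_
      rw [← isIso_map_iff w (show Red.geomPt t ≫ O.ι = Red.geomPt t ≫ O.ι from rfl)]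
      obtain ⟨τ, hτ⟩ := exists_lift_geomPt (Red.geomPt t ≫ O.ι)
      rw [isIso_map_iff w hτ]
      refine MorphismProperty.of_isPullback (P := MorphismProperty.isomorphisms Scheme.{u}) (isPullback_map _ τ)
        (h _ ?_)
      have hp : Red.geomPt t (IsLocalRing.closedPoint (AlgebraicClosure ((O : Scheme.{u}).residueField t))) = t := by
        show (Spec.map _ ≫ (O : Scheme.{u}).fromSpecResidueField t) _ = t
        rw [Scheme.Hom.comp_apply]
        exact (O : Scheme.{u}).fromSpecResidueField_apply _ _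
      rw [Scheme.Hom.comp_apply, hp]
      exact t.2
  exact (isIso_iff_of_reflects_iso ((Over.pullback O.ι).map w) (Over.forget _)).1 ‹_›

/-- **Transporters of presented Cartan subgroups into smooth subgroups are smooth.** -/
theorem smooth_transporter_of_presentation (l : ℕ) (hl : l = 2 ∨ l = 3) (m : ℕ) (hu : IsUnit (l : Γ(S, ⊤)))
    {G C H M : Over S} [GrpObj G] [GrpObj C] [GrpObj H] [Smooth G.hom] [IsSeparated G.hom] [QuasiCompact G.hom]
    [Smooth C.hom] [QuasiCompact C.hom] [IsSeparated C.hom] [Smooth H.hom] [IsSeparated H.hom] [QuasiCompact H.hom]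
    (c : C ⟶ G) [IsMonHom c] [Mono c] (hC : ∀ s : S, _root_.IsConnected (C.hom.base ⁻¹' {s}))
    (j : H ⟶ G) [IsMonHom j] [Mono j] {r : ℕ} (σ : Fin r → (𝟙_ (Over S) ⟶ C)) (hσ : ∀ i, σ i ^ (l ^ m) = 1)
    (hσc : ∀ i, IsCentralFam (σ i)) (hpres : IsTorsionPresentation c σ)
    (mM : M ⟶ G) [IsClosedImmersion mM.left] [LocallyOfFinitePresentation M.hom]
    (hM : ∀ (X : Over S) (g : X ⟶ G), (∃ z : X ⟶ M, z ≫ mM = g) ↔
      ∀ (X' : Over S) (x : X' ⟶ X) (y : X' ⟶ C), ∃ h : X' ⟶ H, (x ≫ g) * (y ≫ c) * (x ≫ g)⁻¹ = h ≫ j) :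
    Smooth M.hom := by
  haveI : Mono mM.left := inferInstance
  haveI : Mono mM := Over.mono_of_mono_left mM
  have hlpos : 0 < l := by rcases hl with rfl | rfl <;> norm_num
  have hN : 0 < l ^ m := pow_pos hlpos m
  have hcomm : ∀ (X : Over S) (a b : Fin r), Commute (toUnit X ≫ σ a ≫ c) (toUnit X ≫ σ b ≫ c) := fun X a b => by
    show _ * _ = _ * _
    rw [← MonObj.comp_mul, ← MonObj.comp_mul]
    have h := hσc a _ (𝟙 (𝟙_ (Over S))) (σ b)
    rw [Category.id_comp] at h
    rw [← MonObj.mul_comp, ← MonObj.mul_comp, h]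
  have hpow : ∀ (X : Over S) (i : Fin r), (toUnit X ≫ σ i ≫ c) ^ (l ^ m) = 1 := fun X i => by
    rw [← Category.assoc, ← MTTorus.comp_pow_hom, ← MonObj.comp_pow, hσ, MonObj.comp_one, MonObj.one_comp]
  obtain ⟨W, τ, hW, hτ, hτc, hWu⟩ := exists_tuple_scheme l hl m r H hu
  haveI := hW
  let GW := Red.bc W.hom G
  haveI : Smooth GW.hom := inferInstanceAs (Smooth (pullback.snd G.hom W.hom))
  haveI : IsSeparated GW.hom := inferInstanceAs (IsSeparated (pullback.snd G.hom W.hom))
  haveI : QuasiCompact GW.hom := inferInstanceAs (QuasiCompact (pullback.snd G.hom W.hom))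
  have hsm : ∀ {P : Over S} (a b : P ⟶ G), sec (a * b) = sec a * sec b := fun a b => by
    rw [sec, MonObj.comp_mul, toBC_mul]; rfl
  have hu' : IsUnit ((l ^ m : ℕ) : Γ(W.left, ⊤)) := by
    rw [Nat.cast_pow]; exact (isUnit_natCast W.hom l hu).pow m
  obtain ⟨Φ, iΦ, hΦc, hΦs, hΦq, hΦsep, hΦ⟩ := exists_tuple_transporter (l ^ m) hN hu' r
    (fun i => sec (toUnit W ≫ σ i ≫ c)) (fun i => sec (τ i ≫ j))
    (fun i => by rw [← sec_pow, hpow, sec_one])
    (fun i => by rw [← sec_pow, ← MTTorus.comp_pow_hom, hτ, MonObj.one_comp, sec_one])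
    (fun a b => by rw [← hsm, ← hsm, (hcomm W a b).eq])
    (fun a b => by rw [← hsm, ← hsm, ← MonObj.mul_comp, ← MonObj.mul_comp, hτc])
  haveI := hΦs; haveI := hΦc
  let F : Over S := (Over.map W.hom).obj Φ
  haveI : Smooth F.hom := inferInstanceAs (Smooth (Φ.hom ≫ W.hom))
  let π : F ⟶ W := Over.homMk Φ.hom rfl
  obtain ⟨gF, hgF⟩ := exists_toBC' W.hom iΦ
  have hrelW : ∀ (b : W ⟶ G), toUnit Φ ≫ sec b = toBC W.hom (π ≫ b) := fun b => by
    rw [sec, ← toBC_naturality, ← Category.assoc]
    congr 2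
  have hrel : ∀ i, gF * (toUnit F ≫ σ i ≫ c) = (π ≫ τ i ≫ j) * gF := fun i => toBC_inj W.hom (by
    have h := (hΦ Φ iΦ).1 ⟨𝟙 _, Category.id_comp _⟩ i
    rw [hrelW, hrelW, ← Category.assoc π (toUnit W), comp_toUnit] at h
    rw [toBC_mul, toBC_mul, hgF]
    exact h)
  -- over `F`
  let GF := Red.bc F.hom G
  let HF := Red.bc F.hom H
  let CF := Red.bc F.hom C
  haveI : Smooth GF.hom := inferInstanceAs (Smooth (pullback.snd G.hom F.hom))
  haveI : IsSeparated GF.hom := inferInstanceAs (IsSeparated (pullback.snd G.hom F.hom))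
  haveI : QuasiCompact GF.hom := inferInstanceAs (QuasiCompact (pullback.snd G.hom F.hom))
  haveI : Smooth HF.hom := inferInstanceAs (Smooth (pullback.snd H.hom F.hom))
  haveI : IsSeparated HF.hom := inferInstanceAs (IsSeparated (pullback.snd H.hom F.hom))
  haveI : QuasiCompact HF.hom := inferInstanceAs (QuasiCompact (pullback.snd H.hom F.hom))
  haveI : Smooth CF.hom := inferInstanceAs (Smooth (pullback.snd C.hom F.hom))
  haveI : QuasiCompact CF.hom := inferInstanceAs (QuasiCompact (pullback.snd C.hom F.hom))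
  haveI : IsSeparated CF.hom := inferInstanceAs (IsSeparated (pullback.snd C.hom F.hom))
  haveI : PreservesLimitsOfShape WalkingCospan (Over.pullback F.hom) :=
    (Adjunction.rightAdjoint_preservesLimits (Over.mapPullbackAdj F.hom)).preservesLimitsOfShape
  let cF : CF ⟶ GF := (Over.pullback F.hom).map c
  let jF : HF ⟶ GF := (Over.pullback F.hom).map j
  haveI : IsMonHom cF := inferInstanceAs (IsMonHom ((Over.pullback F.hom).map c))
  haveI : IsMonHom jF := inferInstanceAs (IsMonHom ((Over.pullback F.hom).map j))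
  haveI : Mono cF := inferInstanceAs (Mono ((Over.pullback F.hom).map c))
  haveI : Mono jF := inferInstanceAs (Mono ((Over.pullback F.hom).map j))
  have hCF : ∀ t : F.left, _root_.IsConnected (CF.hom.base ⁻¹' {t}) := fun t => by
    haveI : GeometricallyIrreducible C.hom := GrpField.geometricallyIrreducible_of_connected_fibres C hC
    haveI : GeometricallyIrreducible CF.hom := inferInstanceAs (GeometricallyIrreducible (pullback.snd C.hom F.hom))
    haveI : ConnectedSpace ↥(CF.hom.fiber t) := inferInstance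
    exact isConnected_iff_connectedSpace.2
      ((CF.hom.fiberHomeo t).surjective.connectedSpace (CF.hom.fiberHomeo t).continuous)
  have hsecc : ∀ (b : F ⟶ H), sec (b ≫ j) = sec b ≫ jF := fun b => by
    rw [sec, ← Category.assoc, toBC_comp]; rfl
  obtain ⟨K, hKg, iK, hiKm, hiKc, hKs, hKq, hKsep, hK⟩ := exists_tuple_centralizer (l ^ m) hN (G := HF)
    (by rw [Nat.cast_pow]; exact (isUnit_natCast F.hom l hu).pow m) (fun i => sec (π ≫ τ i))
    (fun i => by rw [← sec_pow, ← MonObj.comp_pow, hτ, MonObj.comp_one, sec_one])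
    (fun a b => by
      rw [sec, sec, ← toBC_mul, ← toBC_mul, ← MonObj.comp_mul, ← MonObj.comp_mul, ← MonObj.comp_mul,
        ← MonObj.comp_mul, hτc])
  haveI := hiKm; haveI := hiKc; haveI := hKs; haveI := hKq; haveI := hKsep
  haveI : Mono iK.left := inferInstance
  haveI : Mono iK := Over.mono_of_mono_left iK
  obtain ⟨-, K₀, hK₀g, k₀, hk₀m, hk₀o, hk₀r, hK₀s, hK₀q⟩ := Groth.Agent.S4098.result F.left K
    ⟨⊤, by infer_instance, fun _ => trivial⟩
  haveI := hk₀m; haveI := hk₀o; haveI := hK₀s; haveI := hK₀q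
  haveI : Mono k₀.left := inferInstance
  haveI : Mono k₀ := Over.mono_of_mono_left k₀
  have hK₀ : ∀ t : F.left, _root_.IsConnected (K₀.hom.base ⁻¹' {t}) := fun t => by
    haveI : ConnectedSpace ↥(K₀.hom.fiber t) := connected_fibre_neutral k₀ hk₀r t
    exact isConnected_iff_connectedSpace.2
      ((K₀.hom.fiberHomeo t).surjective.connectedSpace (K₀.hom.fiberHomeo t).continuous)
  let sg : 𝟙_ (Over F.left) ⟶ GF := sec gF
  have hconj : ∀ i, sec (π ≫ τ i) ≫ jF ≫ (inn sg).inv = sec (toUnit F ≫ σ i ≫ c) := fun i => by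
    rw [← Category.assoc, ← hsecc, comp_inn_inv, toUnit_unit, Category.id_comp, Category.assoc, _root_.mul_assoc,
      inv_mul_eq_iff_eq_mul, ← hsm, ← hsm, hrel]
  let kG : K₀ ⟶ GF := k₀ ≫ iK ≫ jF
  haveI : IsMonHom kG := inferInstanceAs (IsMonHom (k₀ ≫ iK ≫ jF))
  haveI : IsMonHom (inn sg).inv := inferInstance
  obtain ⟨w, hw⟩ := hpres F (toUnit F) K₀ (kG ≫ (inn sg).inv) hK₀ fun i => by
    have h := (hK K₀ (k₀ ≫ iK)).1 ⟨k₀, rfl⟩ i
    have h' := congrArg (fun z => z ≫ jF ≫ (inn sg).inv) h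
    simp only [MonObj.mul_comp, Category.assoc, hconj] at h'
    simp only [kG, Category.assoc]
    exact h'
  have hwf : w ≫ cF ≫ (inn sg).hom = kG := by
    rw [← Category.assoc, show w ≫ cF = kG ≫ (inn sg).inv from hw, Category.assoc, Iso.inv_hom_id, Category.comp_id]
  haveI : IsMonHom w := MTSplit.isMonHom_of_comp_mono w cF (kG ≫ (inn sg).inv) hw
  haveI : Mono kG := mono_comp _ _
  haveI : Mono (w ≫ cF) := by rw [show w ≫ cF = kG ≫ (inn sg).inv from hw]; exact mono_comp _ _
  haveI : Mono w := mono_of_mono w cF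
  let O : F.left.Opens := sSup {U | IsIso ((Over.pullback U.ι).map w)}
  have hO : IsIso ((Over.pullback O.ι).map w) := isIso_map_of_geom_fibres w O fun t ht => by
    obtain ⟨U, hU, htU⟩ := TopologicalSpace.Opens.mem_sSup.1 ht
    have hr : Set.range (Red.geomPt t) ⊆ Set.range (Scheme.Opens.ι U) := by
      rintro _ ⟨y, rfl⟩
      rw [Scheme.Opens.range_ι U]
      show (Spec.map _ ≫ F.left.fromSpecResidueField t) y ∈ U
      rw [Scheme.Hom.comp_apply, F.left.fromSpecResidueField_apply]
      exact htU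
    haveI : IsIso ((Over.pullback (Scheme.Opens.ι U)).map w) := hU
    refine (isIso_map_iff w (IsOpenImmersion.lift_fac (Scheme.Opens.ι U) _ hr)).2 ?_
    exact ((Over.forget _).mapIso (asIso ((Over.pullback
      (IsOpenImmersion.lift (Scheme.Opens.ι U) _ hr)).map ((Over.pullback (Scheme.Opens.ι U)).map w)))).isIso_hom
  haveI := hO
  let O' : Over S := Over.mk (O.ι ≫ F.hom)
  let f₀ : O' ⟶ F := Over.homMk O.ι rfl
  haveI : Smooth O'.hom := inferInstanceAs (Smooth (O.ι ≫ F.hom))
  -- the retraction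
  obtain ⟨ρ, hρ⟩ := (hM O' (f₀ ≫ gF)).2 fun X' x a => by
    let y := x ≫ f₀
    let ε : (Over.map O.ι).obj (Over.mk x.left) ≅ Over.mk y.left := Over.isoMk (Iso.refl _) (Category.id_comp _)
    obtain ⟨k', hk'⟩ := exists_toBC' O.ι
      (toBC O.ι (ε.hom ≫ gpt y a) ≫ CategoryTheory.inv ((Over.pullback O.ι).map w))
    have hk : (ε.inv ≫ k') ≫ w = gpt y a := (cancel_epi ε.hom).1 (toBC_inj O.ι (by
      rw [Category.assoc, Iso.hom_inv_id_assoc, toBC_comp, hk', Category.assoc, IsIso.inv_hom_id, Category.comp_id]))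
    obtain ⟨h, hh⟩ := exists_gpt y ((ε.inv ≫ k') ≫ k₀ ≫ iK)
    refine ⟨h, gpt_inj y ?_⟩
    rw [gpt_comp y h j, hh]
    simp only [Category.assoc]
    show _ = ε.inv ≫ k' ≫ kG
    rw [← hwf, ← Category.assoc, reassoc_of% hk, ← Category.assoc, comp_inn,
      show toUnit (Over.mk y.left) ≫ sg = gpt y (y ≫ gF) from toUnit_sec' y gF, gpt_mul, gpt_mul, gpt_inv, gpt_comp]
    rw [gpt_comp y a c]
  -- the section
  have huniv := (hM M mM).1 ⟨𝟙 M, Category.id_comp mM⟩
  choose t ht using fun i => huniv M (𝟙 M) (toUnit M ≫ σ i)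
  simp only [Category.id_comp, Category.assoc] at ht
  obtain ⟨p, hp⟩ := hWu M t
    (fun i => by rw [← cancel_mono j, MTTorus.comp_pow_hom, ← ht, conj_pow, hpow, MonObj.one_comp]; group)
    (fun a b => by
      rw [← cancel_mono j, MonObj.mul_comp, MonObj.mul_comp, ← ht, ← ht, conj_mul, conj_mul, (hcomm M a b).eq])
  obtain ⟨z', hz'⟩ := (hΦ _ (gpt p mM)).2 fun i => by
    rw [toUnit_sec' p, toUnit_sec' p, ← gpt_mul, ← gpt_mul, ← Category.assoc p (toUnit W), comp_toUnit,
      ← Category.assoc p (τ i), hp, ← ht, inv_mul_cancel_right]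
  let z : M ⟶ F := (gptIso p).inv ≫ (Over.map W.hom).map z'
  have hzg : z ≫ gF = mM := gpt_inj p (by
    show gpt p (((gptIso p).inv ≫ (Over.map W.hom).map z') ≫ gF) = _
    rw [gpt, Category.assoc, Iso.hom_inv_id_assoc, toBC_naturality, hgF, hz'])
  have hzπ : z ≫ π = p := Over.OverMorphism.ext (by
    show (𝟙 _ ≫ z'.left) ≫ Φ.hom = p.left
    rw [Category.id_comp]
    exact Over.w z')
  haveI : PreservesLimitsOfShape WalkingCospan (Over.pullback z.left) :=
    (Adjunction.rightAdjoint_preservesLimits (Over.mapPullbackAdj z.left)).preservesLimitsOfShape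
  haveI : LocallyOfFiniteType (Red.bc z.left K).hom :=
    inferInstanceAs (LocallyOfFiniteType (pullback.snd K.hom z.left))
  haveI : IsOpenImmersion ((Over.pullback z.left).map k₀).left :=
    MorphismProperty.of_isPullback (P := @IsOpenImmersion) (isPullback_map k₀ z.left) hk₀o
  haveI : IsIso ((Over.pullback z.left).map w) := by
    let fC : CF ⟶ GF := cF ≫ (inn sg).hom
    haveI : IsMonHom fC := inferInstanceAs (IsMonHom (cF ≫ (inn sg).hom))
    haveI : Mono fC := mono_comp _ _
    let Y₀ := Red.bc z.left CF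
    obtain ⟨ε, hε⟩ := exists_toBC' z.left (𝟙 Y₀)
    let X₀ := (Over.map z.left).obj Y₀
    let X : Over S := (Over.map F.hom).obj X₀
    let y : X ⟶ F := Over.homMk X₀.hom rfl
    let x : X ⟶ M := Over.homMk Y₀.hom (by
      show Y₀.hom ≫ M.hom = (Y₀.hom ≫ z.left) ≫ F.hom
      rw [Category.assoc, Over.w z])
    have hxy : x ≫ z = y := Over.OverMorphism.ext rfl
    obtain ⟨a, ha⟩ := exists_toBC' F.hom ε
    obtain ⟨h, hh⟩ := huniv X x a
    have hsec : ∀ {Q : Over S} (b : F ⟶ Q), toUnit X₀ ≫ sec b = toBC F.hom (y ≫ b) := fun b => by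
      rw [sec, ← toBC_naturality, ← Category.assoc]
      congr 2
    have hconjX : ∀ i, (x ≫ mM) * (toUnit X ≫ σ i ≫ c) * (x ≫ mM)⁻¹ = y ≫ π ≫ τ i ≫ j := fun i => by
      rw [← hxy, Category.assoc, reassoc_of% hzπ, reassoc_of% (hp i), ← ht i]
      simp only [MonObj.comp_mul, GrpObj.comp_inv, ← Category.assoc, comp_toUnit]
    obtain ⟨k₁, hk₁⟩ := (hK X₀ (toBC F.hom h)).2 fun i => by
      rw [hsec, ← toBC_mul, ← toBC_mul]
      refine congrArg (toBC F.hom) ?_
      rw [← cancel_mono j, MonObj.mul_comp, MonObj.mul_comp, Category.assoc, Category.assoc, ← hconjX, ← hh, conj_mul,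
        conj_mul]
      congr 2
      rw [← Category.assoc, ← MonObj.mul_comp, ← MonObj.mul_comp, hσc i X (toUnit X) a]
    have hk₁' : k₁ ≫ iK ≫ jF = ε ≫ fC := by
      rw [← Category.assoc, hk₁, ← toBC_comp, ← hh, ← Category.assoc ε, comp_inn, hsec, ← hxy, Category.assoc, hzg,
        show ε ≫ cF = toBC F.hom (a ≫ c) by rw [toBC_comp, ha], ← toBC_inv, ← toBC_mul, ← toBC_mul]
    have hk₁'' : toBC z.left k₁ ≫ (Over.pullback z.left).map (iK ≫ jF) = (Over.pullback z.left).map fC := by
      rw [← toBC_comp, hk₁', toBC_comp, hε, Category.id_comp]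
    haveI : Mono ((Over.pullback z.left).map (iK ≫ jF)) := inferInstance
    haveI : IsMonHom (toBC z.left k₁) := MTSplit.isMonHom_of_comp_mono _ _ _ hk₁''
    obtain ⟨k₂, hk₂⟩ := exists_factor_connected (toBC z.left k₁) ((Over.pullback z.left).map k₀) fun t => by
      haveI : GeometricallyIrreducible C.hom := GrpField.geometricallyIrreducible_of_connected_fibres C hC
      haveI : GeometricallyIrreducible CF.hom := inferInstanceAs (GeometricallyIrreducible (pullback.snd C.hom F.hom))
      haveI : GeometricallyIrreducible Y₀.hom :=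
        inferInstanceAs (GeometricallyIrreducible (pullback.snd CF.hom z.left))
      haveI : ConnectedSpace ↥(Y₀.hom.fiber t) := inferInstance
      exact isConnected_iff_connectedSpace.2
        ((Y₀.hom.fiberHomeo t).surjective.connectedSpace (Y₀.hom.fiberHomeo t).continuous)
    haveI : Mono ((Over.pullback z.left).map fC) := inferInstance
    haveI : IsSplitEpi ((Over.pullback z.left).map w) := ⟨⟨⟨k₂, by
      rw [← cancel_mono ((Over.pullback z.left).map fC), Category.assoc, ← Functor.map_comp, hwf, Functor.map_comp,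
        reassoc_of% hk₂, hk₁'', Category.id_comp]⟩⟩⟩
    exact isIso_of_mono_of_isSplitEpi _
  have hrange : Set.range z.left ⊆ Set.range O.ι := by
    rintro _ ⟨y, rfl⟩
    rw [O.range_ι]
    let ψ := Red.geomPt y ≫ z.left
    have hψ : IsIso ((Over.pullback ψ).map w).left := (isIso_map_iff w rfl).2
      ((Over.forget _).mapIso (asIso ((Over.pullback (Red.geomPt y)).map ((Over.pullback z.left).map w)))).isIso_hom
    have hy : ψ (IsLocalRing.closedPoint (AlgebraicClosure (M.left.residueField y))) = z.left y := by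
      show (Red.geomPt y ≫ z.left) _ = _
      rw [Scheme.Hom.comp_apply]
      refine congrArg z.left ?_
      show (Spec.map _ ≫ M.left.fromSpecResidueField y) _ = y
      rw [Scheme.Hom.comp_apply]
      exact M.left.fromSpecResidueField_apply _ _
    obtain ⟨U, hU, hUiso⟩ := exists_nhd_iso_of_geom w hK₀ hCF _ (isIso_geom_of_pt w ψ hψ)
    rw [hy] at hU
    exact TopologicalSpace.Opens.mem_sSup.2 ⟨U, hUiso, hU⟩
  let s : M ⟶ O' := Over.homMk (IsOpenImmersion.lift O.ι z.left hrange) (by
    show _ ≫ O.ι ≫ F.hom = M.hom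
    rw [IsOpenImmersion.lift_fac_assoc, Over.w z])
  have hs : s ≫ f₀ = z := Over.OverMorphism.ext (IsOpenImmersion.lift_fac _ _ _)
  exact smooth_of_retract s ρ (by rw [← cancel_mono mM, Category.assoc, hρ, reassoc_of% hs, hzg, Category.id_comp])

end Groth.Agent.MTImage
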