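import Groth.Agent.MTImage.Cartan
import Groth.Agent.Chev.CommSubgroup
import Groth.Agent.GrpField.Kernel
import Groth.Agent.GrpField.Fibres
import Groth.Agent.SmNeutral.Core
import Groth.Agent.SmoothRed.Basic
import Groth.Agent.FibCrit.Props
import Groth.Agent.S4642

/-!
# Subgroups equal to the group near a point

A monomorphism of smooth groups with connected fibres which is an isomorphism on one geometric fibre is an isomorphism
over a neighbourhood.
-/

set_option autoImplicit false
set_option linter.style.haveILetI false
set_option backward.isDefEq.respectTransparency false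
set_option maxHeartbeats 1000000
set_option synthInstance.maxHeartbeats 400000

universe u

noncomputable section

open CategoryTheory Limits MonoidalCategory CartesianMonoidalCategory MonObj GrpObj AlgebraicGeometry
open scoped CategoryTheory.Obj

namespace Groth.Agent.MTImage

open Groth.Agent.MTBridge Groth.Agent.Chev

variable {S : Scheme.{u}}

/-- The dimension of a geometric fibre is the dimension of the fibre. -/
theorem dim_geomFibre (X : Over S) [LocallyOfFiniteType X.hom] (t : S) :
    topologicalKrullDim ↥(Red.bc (Red.geomPt t) X).left = topologicalKrullDim ↥(X.hom.base ⁻¹' {t}) := by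
  let θ := Spec.map (CommRingCat.ofHom (algebraMap (S.residueField t) (AlgebraicClosure (S.residueField t))))
  haveI : LocallyOfFiniteType (X.hom.fiberToSpecResidueField t) :=
    inferInstanceAs (LocallyOfFiniteType (pullback.snd X.hom (S.fromSpecResidueField t)))
  have h : topologicalKrullDim ↥(FBase.bc (k := S.residueField t) (X.hom.fiberToSpecResidueField t)
      (AlgebraicClosure (S.residueField t))) = topologicalKrullDim ↥(X.hom.fiber t) :=
    Groth.Agent.S4642.result (k := S.residueField t) (K := AlgebraicClosure (S.residueField t))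
      (X.hom.fiberToSpecResidueField t)
  let e : (Red.bc (Red.geomPt t) X).left ≅ pullback (X.hom.fiberToSpecResidueField t) θ :=
    (pullbackLeftPullbackSndIso X.hom (S.fromSpecResidueField t) θ).symm
  rw [IsHomeomorph.topologicalKrullDim_eq _ (Scheme.homeoOfIso e).isHomeomorph,
    ← IsHomeomorph.topologicalKrullDim_eq _ (X.hom.fiberHomeo t).isHomeomorph]
  exact h

/-- Being an isomorphism after base change only depends on the composite. -/
theorem isIso_map_iff {U V : Scheme.{u}} {A B : Over S} (w : A ⟶ B) {g : V ⟶ U} {f : U ⟶ S} {ψ : V ⟶ S}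
    (h : g ≫ f = ψ) : IsIso ((Over.pullback ψ).map w).left ↔
      IsIso ((Over.pullback g).map ((Over.pullback f).map w)).left := by
  obtain ⟨eA, heA, -⟩ := MaxTorusBC.exists_trIso h A
  obtain ⟨eB, heB, -⟩ := MaxTorusBC.exists_trIso h B
  have hn : (Over.pullback ψ).map w ≫ eB.hom = eA.hom ≫ (Over.pullback g).map ((Over.pullback f).map w) := by
    rw [heA, heB, trIso_natural]
  haveI : IsIso eA.hom.left := ((Over.forget V).mapIso eA).isIso_hom
  haveI : IsIso eB.hom.left := ((Over.forget V).mapIso eB).isIso_hom
  have h' := congrArg (fun w => w.left) hn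
  rw [Over.comp_left, Over.comp_left] at h'
  rw [← isIso_comp_right_iff _ eB.hom.left, h', isIso_comp_left_iff]

/-- A monomorphism of groups which is an isomorphism on a geometric fibre of smooth connected groups is one nearby. -/
theorem exists_nhd_iso_of_geom {C Z : Over S} [GrpObj C] [GrpObj Z] [Smooth C.hom] [Smooth Z.hom]
    [QuasiCompact C.hom] [QuasiCompact Z.hom] [IsSeparated Z.hom] (c : C ⟶ Z) [IsMonHom c] [Mono c]
    (hC : ∀ t : S, _root_.IsConnected (C.hom.base ⁻¹' {t})) (hZ : ∀ t : S, _root_.IsConnected (Z.hom.base ⁻¹' {t}))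
    (s : S) (h : IsIso ((Over.pullback (Red.geomPt s)).map c).left) :
    ∃ U : S.Opens, s ∈ U ∧ IsIso ((Over.pullback U.ι).map c) := by
  haveI : GeometricallyIrreducible C.hom := GrpField.geometricallyIrreducible_of_connected_fibres C hC
  haveI : GeometricallyIrreducible Z.hom := GrpField.geometricallyIrreducible_of_connected_fibres Z hZ
  let dC : S → WithBot ℕ∞ := fun t => topologicalKrullDim ↥(C.hom.base ⁻¹' {t})
  let dZ : S → WithBot ℕ∞ := fun t => topologicalKrullDim ↥(Z.hom.base ⁻¹' {t})
  let U : S.Opens := ⟨{t | dC t = dC s} ∩ {t | dZ t = dZ s},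
    ((SmNeutral.isLocallyConstant_dim C).isOpen_fiber _).inter ((SmNeutral.isLocallyConstant_dim Z).isOpen_fiber _)⟩
  have heq : dC s = dZ s := by
    show topologicalKrullDim ↥(C.hom.base ⁻¹' {s}) = topologicalKrullDim ↥(Z.hom.base ⁻¹' {s})
    rw [← dim_geomFibre C s, ← dim_geomFibre Z s]
    exact IsHomeomorph.topologicalKrullDim_eq _
      (Scheme.homeoOfIso (@asIso _ _ _ _ ((Over.pullback (Red.geomPt s)).map c).left h)).isHomeomorph
  have key : ∀ t ∈ U, IsIso ((Over.pullback (Red.geomPt t)).map c).left := by
    intro t ht
    let a := Red.geomPt t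
    haveI : PreservesLimitsOfShape WalkingCospan (Over.pullback a) :=
      (Adjunction.rightAdjoint_preservesLimits (Over.mapPullbackAdj a)).preservesLimitsOfShape
    haveI : Smooth (Red.bc a C).hom := inferInstanceAs (Smooth (pullback.snd C.hom a))
    haveI : Smooth (Red.bc a Z).hom := inferInstanceAs (Smooth (pullback.snd Z.hom a))
    haveI : QuasiCompact (Red.bc a C).hom := inferInstanceAs (QuasiCompact (pullback.snd C.hom a))
    haveI : IsSeparated (Red.bc a Z).hom := inferInstanceAs (IsSeparated (pullback.snd Z.hom a))
    haveI : IrreducibleSpace ↥(Red.bc a C).left :=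
      GeometricallyIrreducible.geometrically_irreducibleSpace _ _ _ (IsPullback.of_hasPullback C.hom a)
    haveI : IrreducibleSpace ↥(Red.bc a Z).left :=
      GeometricallyIrreducible.geometrically_irreducibleSpace _ _ _ (IsPullback.of_hasPullback Z.hom a)
    haveI : Mono ((Over.pullback a).map c) := inferInstance
    haveI : QuasiCompact (((Over.pullback a).map c).left ≫ (Red.bc a Z).hom) := by
      rw [Over.w ((Over.pullback a).map c)]; infer_instance
    haveI : QuasiCompact ((Over.pullback a).map c).left := QuasiCompact.of_comp _ (Red.bc a Z).hom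
    haveI : IsClosedImmersion ((Over.pullback a).map c).left :=
      GrpField.isClosedImmersion_of_mono ((Over.pullback a).map c)
    haveI : Surjective ((Over.pullback a).map c).left := by
      refine Chev.surjective_of_dim_le ((Over.pullback a).map c) ?_
      rw [dim_geomFibre, dim_geomFibre]
      show dZ t ≤ dC t
      rw [ht.1, ht.2, heq]
    haveI : IsReduced (Red.bc a Z).left := SmoothRed.isReduced_of_smooth_scheme (Red.bc a Z).hom
    exact isIso_of_isClosedImmersion_of_surjective _
  refine ⟨U, ⟨rfl, rfl⟩, ?_⟩
  haveI : Smooth (Red.bc U.ι C).hom := inferInstanceAs (Smooth (pullback.snd C.hom U.ι))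
  haveI : Smooth (Red.bc U.ι Z).hom := inferInstanceAs (Smooth (pullback.snd Z.hom U.ι))
  haveI : IsIso ((Over.pullback U.ι).map c).left :=
    FibCrit.isIso_of_fibres (Over.w ((Over.pullback U.ι).map c)) fun t => by
      refine isIso_fibre_of_geom ((Over.pullback U.ι).map c) t ?_
      rw [← isIso_map_iff c (show Red.geomPt t ≫ U.ι = Red.geomPt t ≫ U.ι from rfl)]
      obtain ⟨τ, hτ⟩ := exists_lift_geomPt (Red.geomPt t ≫ U.ι)
      rw [isIso_map_iff c hτ]
      refine MorphismProperty.of_isPullback (P := MorphismProperty.isomorphisms Scheme.{u}) (isPullback_map _ τ)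
        (key _ ?_)
      have hp : Red.geomPt t (IsLocalRing.closedPoint (AlgebraicClosure ((U : Scheme.{u}).residueField t))) = t := by
        show (Spec.map _ ≫ (U : Scheme.{u}).fromSpecResidueField t) _ = t
        rw [Scheme.Hom.comp_apply]
        exact (U : Scheme.{u}).fromSpecResidueField_apply _ _
      rw [Scheme.Hom.comp_apply, hp]
      exact t.2
  exact (isIso_iff_of_reflects_iso ((Over.pullback U.ι).map c) (Over.forget _)).1 ‹_›

end Groth.Agent.MTImage
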