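import Groth.Agent.MTImage.CartanTransporter
import Groth.Agent.S6067
import Groth.Agent.S3025
import Groth.Agent.S5324

/-!
# Transporters of Cartan subgroups

The transporter of a Cartan subgroup with connected fibres into a smooth subgroup is closed and smooth.
-/

set_option autoImplicit false
set_option linter.style.haveILetI false
set_option backward.isDefEq.respectTransparency false
set_option maxHeartbeats 1000000
set_option synthInstance.maxHeartbeats 400000

universe u

noncomputable section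

open CategoryTheory Limits MonoidalCategory CartesianMonoidalCategory MonObj GrpObj AlgebraicGeometry
open scoped CategoryTheory.Obj

namespace Groth.Agent.MTImage

open Groth.Agent.MTBridge Groth.Agent.Chev Groth.Agent.Chev.MaxTorusExt

variable {S : Scheme.{u}}

/-- Two descriptions of one morphism compare by the induced isomorphisms. -/
theorem comp_conj_iso {𝒞 : Type*} [Category 𝒞] {X X₁ X₂ Y Y₁ Y₂ : 𝒞} (a₁ : X ≅ X₁) (a₂ : X ≅ X₂) (b₁ : Y ≅ Y₁)
    (b₂ : Y ≅ Y₂) (m : X ⟶ Y) (A : X₁ ⟶ Y₁) (B : X₂ ⟶ Y₂) (h1 : m ≫ b₁.hom = a₁.hom ≫ A)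
    (h2 : m ≫ b₂.hom = a₂.hom ≫ B) : A ≫ (b₁.symm ≪≫ b₂).hom = (a₁.symm ≪≫ a₂).hom ≫ B := by
  simp only [Iso.trans_hom, Iso.symm_hom, Category.assoc, ← h2]
  rw [Iso.eq_inv_comp, ← reassoc_of% h1, Iso.hom_inv_id_assoc]

/-- Transport of a centralizer along isomorphisms. -/
theorem isCentralizerOf_iso {T C G C' G' : Over S} [GrpObj T] [GrpObj C] [GrpObj G] [GrpObj C'] [GrpObj G']
    (eC : C ≅ C') (eG : G ≅ G') [IsMonHom eC.hom] [IsMonHom eG.hom] (i : T ⟶ G) (c : C ⟶ G) (c' : C' ⟶ G')
    (hsq : c ≫ eG.hom = eC.hom ≫ c') (h : Red.IsCentralizerOf i c) : Red.IsCentralizerOf (i ≫ eG.hom) c' := by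
  haveI := h.1; haveI := h.2.1
  have hc' : c' = eC.inv ≫ c ≫ eG.hom := by rw [hsq, Iso.inv_hom_id_assoc]
  refine ⟨by rw [hc']; infer_instance, by rw [hc']; exact mono_comp _ _, fun X g => ?_⟩
  constructor
  · rintro ⟨z, rfl⟩ X' x t
    have h1 := (h.2.2 X (z ≫ eC.inv ≫ c)).1 ⟨z ≫ eC.inv, Category.assoc _ _ _⟩ X' x t
    have h2 := congrArg (fun w => w ≫ eG.hom) h1
    simpa only [MonObj.mul_comp, Category.assoc, ← hc'] using h2
  · intro hg
    obtain ⟨z, hz⟩ := (h.2.2 X (g ≫ eG.inv)).2 fun X' x t => by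
      rw [← cancel_mono eG.hom]
      simpa only [MonObj.mul_comp, Category.assoc, Iso.inv_hom_id, Category.comp_id] using hg X' x t
    exact ⟨z ≫ eC.hom, by rw [Category.assoc, ← hsq, reassoc_of% hz, Iso.inv_hom_id, Category.comp_id]⟩

/-- Cartan subgroups are stable under base change. -/
theorem isCartan_bc {C G : Over S} [GrpObj C] [GrpObj G] [LocallyOfFiniteType G.hom] [QuasiCompact G.hom]
    (c : C ⟶ G) (hc : SGA3x.IsCartan c) {U : Scheme.{u}} (f : U ⟶ S) :
    SGA3x.IsCartan ((Over.pullback f).map c) := by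
  obtain ⟨hm, hmono, hs, hfib⟩ := hc
  haveI : PreservesLimitsOfShape WalkingCospan (Over.pullback f) :=
    (Adjunction.rightAdjoint_preservesLimits (Over.mapPullbackAdj f)).preservesLimitsOfShape
  refine ⟨inferInstance, inferInstance, inferInstanceAs (Smooth (pullback.snd C.hom f)), fun u => ?_⟩
  let φ := Red.geomPt u
  obtain ⟨s, τ, hτ⟩ : ∃ (s : S) (τ : Spec (CommRingCat.of (AlgebraicClosure (U.residueField u))) ⟶
      Spec (CommRingCat.of (AlgebraicClosure (S.residueField s)))), τ ≫ Red.geomPt s = φ ≫ f :=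
    ⟨_, exists_lift_geomPt (φ ≫ f)⟩
  obtain ⟨hm₁, hm₂, T, hTg, i, hi, hcent⟩ := hfib s
  haveI := hi.1; haveI := hi.2.1
  haveI := hm₁; haveI := hm₂
  haveI : PreservesLimitsOfShape WalkingCospan (Over.pullback τ) :=
    (Adjunction.rightAdjoint_preservesLimits (Over.mapPullbackAdj τ)).preservesLimitsOfShape
  haveI : PreservesLimitsOfShape WalkingCospan (Over.pullback φ) :=
    (Adjunction.rightAdjoint_preservesLimits (Over.mapPullbackAdj φ)).preservesLimitsOfShape
  haveI : LocallyOfFiniteType (Red.bc (Red.geomPt s) G).hom :=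
    inferInstanceAs (LocallyOfFiniteType (pullback.snd G.hom (Red.geomPt s)))
  haveI : QuasiCompact (Red.bc (Red.geomPt s) G).hom :=
    inferInstanceAs (QuasiCompact (pullback.snd G.hom (Red.geomPt s)))
  have hmaxτ := MaxTorusBC.isMaximalTorus_bc i hi τ
  have hcentτ := CentBC.isCentralizerOf_bc τ i _ hcent
  obtain ⟨eC₁, heC₁, hC₁⟩ := MaxTorusBC.exists_trIso hτ C
  obtain ⟨eG₁, heG₁, hG₁⟩ := MaxTorusBC.exists_trIso hτ G
  obtain ⟨eC₂, heC₂, hC₂⟩ := MaxTorusBC.exists_trIso (show φ ≫ f = φ ≫ f from rfl) C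
  obtain ⟨eG₂, heG₂, hG₂⟩ := MaxTorusBC.exists_trIso (show φ ≫ f = φ ≫ f from rfl) G
  let eC := eC₁.symm ≪≫ eC₂
  let eG := eG₁.symm ≪≫ eG₂
  haveI := hC₁; haveI := hG₁; haveI := hC₂; haveI := hG₂
  haveI : IsMonHom eC.hom := inferInstanceAs (IsMonHom (eC₁.inv ≫ eC₂.hom))
  haveI : IsMonHom eG.hom := inferInstanceAs (IsMonHom (eG₁.inv ≫ eG₂.hom))
  have hsq : (Over.pullback τ).map ((Over.pullback (Red.geomPt s)).map c) ≫ eG.hom =
      eC.hom ≫ (Over.pullback φ).map ((Over.pullback f).map c) := by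
    have h1 : (Over.pullback (φ ≫ f)).map c ≫ eG₁.hom =
        eC₁.hom ≫ (Over.pullback τ).map ((Over.pullback (Red.geomPt s)).map c) := by
      rw [heC₁, heG₁, trIso_natural]
    have h2 : (Over.pullback (φ ≫ f)).map c ≫ eG₂.hom =
        eC₂.hom ≫ (Over.pullback φ).map ((Over.pullback f).map c) := by
      rw [heC₂, heG₂, trIso_natural]
    exact comp_conj_iso eC₁ eC₂ eG₁ eG₂ _ _ _ h1 h2
  refine ⟨inferInstance, inferInstance, Red.bc τ T, inferInstance, (Over.pullback τ).map i ≫ eG.hom, ?_,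
    isCentralizerOf_iso eC eG _ _ _ hsq hcentτ⟩
  haveI : IsMonHom (Iso.refl (Red.bc τ T)).hom := inferInstanceAs (IsMonHom (𝟙 _))
  exact isMaximalTorus_iso (Iso.refl _) eG _ _ (by simp) hmaxτ.2.2.1 hmaxτ

/-- Connectedness of the fibres is stable under base change, in set form. -/
theorem isConnected_fibre_bc {U : Scheme.{u}} (C : Over S) [GrpObj C] [LocallyOfFiniteType C.hom]
    (hC : ∀ s : S, _root_.IsConnected (C.hom.base ⁻¹' {s})) (f : U ⟶ S) (t : U) :
    _root_.IsConnected ((Red.bc f C).hom.base ⁻¹' {t}) := by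
  haveI : GeometricallyIrreducible C.hom := GrpField.geometricallyIrreducible_of_connected_fibres C hC
  haveI : GeometricallyIrreducible (Red.bc f C).hom :=
    inferInstanceAs (GeometricallyIrreducible (pullback.snd C.hom f))
  haveI : ConnectedSpace ↥((Red.bc f C).hom.fiber t) := inferInstance
  exact isConnected_iff_connectedSpace.2
    (((Red.bc f C).hom.fiberHomeo t).surjective.connectedSpace ((Red.bc f C).hom.fiberHomeo t).continuous)

/-- The transporter property commutes with base change. -/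
theorem transporter_bc {U : Scheme.{u}} {C G H M : Over S} [GrpObj G] (c : C ⟶ G) (j : H ⟶ G) (mM : M ⟶ G)
    (hM : ∀ (X : Over S) (g : X ⟶ G), (∃ z : X ⟶ M, z ≫ mM = g) ↔
      ∀ (X' : Over S) (x : X' ⟶ X) (y : X' ⟶ C), ∃ h : X' ⟶ H, (x ≫ g) * (y ≫ c) * (x ≫ g)⁻¹ = h ≫ j)
    (f : U ⟶ S) : ∀ (X : Over U) (g : X ⟶ Red.bc f G), (∃ z : X ⟶ Red.bc f M, z ≫ (Over.pullback f).map mM = g) ↔
      ∀ (X' : Over U) (x : X' ⟶ X) (y : X' ⟶ Red.bc f C), ∃ h : X' ⟶ Red.bc f H,
        (x ≫ g) * (y ≫ (Over.pullback f).map c) * (x ≫ g)⁻¹ = h ≫ (Over.pullback f).map j := by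
  intro X g
  obtain ⟨g₀, rfl⟩ := exists_toBC' f g
  constructor
  · rintro ⟨z, hz⟩ X' x y
    obtain ⟨z₀, rfl⟩ := exists_toBC' f z
    obtain ⟨y₀, rfl⟩ := exists_toBC' f y
    rw [← toBC_comp] at hz
    obtain ⟨h, hh⟩ := (hM _ g₀).1 ⟨z₀, toBC_inj f hz⟩ _ ((Over.map f).map x) y₀
    refine ⟨toBC f h, ?_⟩
    rw [← toBC_naturality, ← toBC_comp, ← toBC_comp, ← toBC_inv, ← toBC_mul, ← toBC_mul, hh]
  · intro hg
    obtain ⟨z, hz⟩ := (hM _ g₀).2 fun X' x y => by
      let Y : Over U := Over.mk (x.left ≫ X.hom)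
      let e : (Over.map f).obj Y ≅ X' := Over.isoMk (Iso.refl _) (by
        show 𝟙 _ ≫ X'.hom = (x.left ≫ X.hom) ≫ f
        rw [Category.id_comp, Category.assoc]
        exact (Over.w x).symm)
      let x₁ : Y ⟶ X := Over.homMk x.left rfl
      obtain ⟨h, hh⟩ := hg Y x₁ (toBC f (e.hom ≫ y))
      obtain ⟨h₀, rfl⟩ := exists_toBC' f h
      rw [← toBC_naturality, ← toBC_comp, ← toBC_comp, ← toBC_inv, ← toBC_mul, ← toBC_mul] at hh
      have hh' := toBC_inj f hh
      refine ⟨e.inv ≫ h₀, (cancel_epi e.hom).1 ?_⟩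
      rw [Category.assoc, Iso.hom_inv_id_assoc, ← hh']
      have hx : (Over.map f).map x₁ = e.hom ≫ x := Over.OverMorphism.ext (Category.id_comp _).symm
      rw [hx]
      simp only [MonObj.comp_mul, GrpObj.comp_inv, Category.assoc]
    exact ⟨toBC f z, by rw [← toBC_comp, hz]⟩

/-- A torsion presentation over `P` presents the base change to `P`. -/
theorem presentation_bc {C G P : Over S} [GrpObj C] [GrpObj G] (c : C ⟶ G) {r : ℕ} (g : Fin r → (P ⟶ C))
    (hg : IsTorsionPresentation c g) :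
    IsTorsionPresentation ((Over.pullback P.hom).map c) (fun i => sec (g i)) := by
  intro Y pY H _ h _ hH hcomm
  let Y' : Over S := (Over.map P.hom).obj Y
  let p : Y' ⟶ P := Over.homMk Y.hom rfl
  obtain ⟨eG, heG, hG'⟩ := MaxTorusBC.exists_trIso (show Y.hom ≫ P.hom = Y'.hom from rfl) G
  obtain ⟨eC, heC, -⟩ := MaxTorusBC.exists_trIso (show Y.hom ≫ P.hom = Y'.hom from rfl) C
  haveI : IsMonHom eG.hom := hG'
  haveI : IsMonHom eG.inv := inferInstance
  have hn : (Over.pullback Y'.hom).map c ≫ eG.hom =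
      eC.hom ≫ (Over.pullback Y.hom).map ((Over.pullback P.hom).map c) := by
    rw [heC, heG, trIso_natural]
  have hnat : ∀ i, sec (p ≫ g i ≫ c) ≫ eG.hom = sec (pY ≫ sec (g i) ≫ (Over.pullback P.hom).map c) := fun i => by
    rw [heG]
    refine (tr_eq_comp (show Y.hom ≫ P.hom = Y'.hom from rfl) (sec (p ≫ g i ≫ c))).symm.trans ((tr_toBC _ _).trans ?_)
    refine congrArg (toBC Y.hom) ?_
    rw [sec, ← toBC_comp, ← toBC_naturality, ← toBC_naturality]
    have hpY : pY.left = Y.hom := (Category.comp_id _).symm.trans (Over.w pY)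
    congr 1
    apply Over.OverMorphism.ext
    simp [secIso, reIso, p, hpY]
    exact (Category.id_comp _).symm
  obtain ⟨w, hw⟩ := hg Y' p H (h ≫ eG.inv) hH fun i => by
    rw [← cancel_mono eG.hom]
    simp only [MonObj.mul_comp, Category.assoc, Iso.inv_hom_id, Category.comp_id]
    rw [hnat]
    exact hcomm i
  exact ⟨w ≫ eC.hom, by rw [Category.assoc, ← hn, reassoc_of% hw, Iso.inv_hom_id, Category.comp_id]⟩

/-- Smoothness of the pullback along a composite. -/
theorem smooth_snd_comp {A U V : Scheme.{u}} (a : A ⟶ S) (f : U ⟶ S) (g : V ⟶ U) (h : Smooth (pullback.snd a f)) :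
    Smooth (pullback.snd a (g ≫ f)) := by
  have e := (IsPullback.of_hasPullback (pullback.snd a f) g).paste_horiz (IsPullback.of_hasPullback a f)
  haveI : Smooth (pullback.snd (pullback.snd a f) g) := MorphismProperty.pullback_snd _ _ h
  rw [← e.isoPullback_inv_snd]
  infer_instance

/-- Smoothness of a pullback descends along quasi-compact flat surjections. -/
theorem smooth_snd_descend {A U V : Scheme.{u}} (a : A ⟶ S) (f : U ⟶ S) (g : V ⟶ U) [Surjective g] [Flat g]
    [QuasiCompact g] (h : Smooth (pullback.snd a (g ≫ f))) : Smooth (pullback.snd a f) := by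
  have e := (IsPullback.of_hasPullback (pullback.snd a f) g).paste_horiz (IsPullback.of_hasPullback a f)
  haveI : Smooth (pullback.snd (pullback.snd a f) g) := by
    rw [← e.isoPullback_hom_snd]
    infer_instance
  exact MorphismProperty.of_isPullback_of_descendsAlong (P := @Smooth) (Q := @Surjective ⊓ @Flat ⊓ @QuasiCompact)
    (IsPullback.of_hasPullback (pullback.snd a f) g).flip ⟨⟨inferInstance, inferInstance⟩, inferInstance⟩ ‹_›

/-- **Transporters of Cartan subgroups with connected fibres into smooth subgroups are closed and smooth.** -/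
theorem exists_transporter_cartan {G C H : Over S} [GrpObj G] [GrpObj C] [GrpObj H] [Smooth G.hom]
    [IsSeparated G.hom] [QuasiCompact G.hom] [Smooth C.hom] [QuasiCompact C.hom] [IsSeparated C.hom] [Smooth H.hom]
    [QuasiCompact H.hom] [IsSeparated H.hom] (c : C ⟶ G) (hc : SGA3x.IsCartan c)
    (hC : ∀ s : S, _root_.IsConnected (C.hom.base ⁻¹' {s})) (j : H ⟶ G) [IsMonHom j] [Mono j] :
    ∃ (M : Over S) (m : M ⟶ G), IsClosedImmersion m.left ∧ Smooth M.hom ∧
      ∀ (X : Over S) (g : X ⟶ G), (∃ z : X ⟶ M, z ≫ m = g) ↔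
        ∀ (X' : Over S) (x : X' ⟶ X) (y : X' ⟶ C), ∃ h : X' ⟶ H, (x ≫ g) * (y ≫ c) * (x ≫ g)⁻¹ = h ≫ j := by
  haveI := hc.1; haveI := hc.2.1
  haveI : Mono j.left := inferInstance
  haveI : IsSeparated j.left := inferInstance
  haveI : LocallyOfFinitePresentation (j.left ≫ G.hom) := by rw [Over.w j]; infer_instance
  haveI : LocallyOfFinitePresentation j.left := LimDesc.lfp_of_comp j.left G.hom
  haveI : QuasiCompact (j.left ≫ G.hom) := by rw [Over.w j]; infer_instance
  haveI : QuasiCompact j.left := QuasiCompact.of_comp j.left G.hom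
  obtain ⟨M, m, hmc, hmf, hM⟩ := Groth.Agent.S6067.result G C H (fun s => by
    haveI : ConnectedSpace ↥(C.hom ⁻¹' {s}) := isConnected_iff_connectedSpace.1 (hC s)
    exact (C.hom.fiberHomeo s).symm.surjective.connectedSpace (C.hom.fiberHomeo s).symm.continuous) c j
  haveI := hmc; haveI := hmf
  haveI : LocallyOfFinitePresentation M.hom := by rw [← Over.w m]; infer_instance
  have hloc : ∀ s : S, ∃ W : S.Opens, s ∈ W ∧ Smooth (pullback.snd M.hom W.ι) := fun s => by
    obtain ⟨l, hl, D, hsD, hu⟩ := exists_prime_invertible s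
    let G' := Red.bc D.ι G
    let C' := Red.bc D.ι C
    haveI : Smooth G'.hom := inferInstanceAs (Smooth (pullback.snd G.hom D.ι))
    haveI : IsSeparated G'.hom := inferInstanceAs (IsSeparated (pullback.snd G.hom D.ι))
    haveI : QuasiCompact G'.hom := inferInstanceAs (QuasiCompact (pullback.snd G.hom D.ι))
    haveI : Smooth C'.hom := inferInstanceAs (Smooth (pullback.snd C.hom D.ι))
    haveI : IsSeparated C'.hom := inferInstanceAs (IsSeparated (pullback.snd C.hom D.ι))
    haveI : QuasiCompact C'.hom := inferInstanceAs (QuasiCompact (pullback.snd C.hom D.ι))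
    let c' : C' ⟶ G' := (Over.pullback D.ι).map c
    have hc' : SGA3x.IsCartan c' := isCartan_bc c hc D.ι
    haveI := hc'.1; haveI := hc'.2.1
    obtain ⟨k, r, P, g, hP, hsP, hg, hgc, hpres⟩ :=
      exists_torsion_presentation l hl hu c' hc' (isConnected_fibre_bc C hC D.ι) ⟨s, hsD⟩
    haveI := hP
    haveI : PreservesLimitsOfShape WalkingCospan (Over.pullback P.hom) :=
      (Adjunction.rightAdjoint_preservesLimits (Over.mapPullbackAdj P.hom)).preservesLimitsOfShape
    haveI : PreservesLimitsOfShape WalkingCospan (Over.pullback D.ι) :=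
      (Adjunction.rightAdjoint_preservesLimits (Over.mapPullbackAdj D.ι)).preservesLimitsOfShape
    let G'' := Red.bc P.hom G'
    let C'' := Red.bc P.hom C'
    let H'' := Red.bc P.hom (Red.bc D.ι H)
    let M'' := Red.bc P.hom (Red.bc D.ι M)
    haveI : Smooth G''.hom := inferInstanceAs (Smooth (pullback.snd G'.hom P.hom))
    haveI : IsSeparated G''.hom := inferInstanceAs (IsSeparated (pullback.snd G'.hom P.hom))
    haveI : QuasiCompact G''.hom := inferInstanceAs (QuasiCompact (pullback.snd G'.hom P.hom))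
    haveI : Smooth C''.hom := inferInstanceAs (Smooth (pullback.snd C'.hom P.hom))
    haveI : IsSeparated C''.hom := inferInstanceAs (IsSeparated (pullback.snd C'.hom P.hom))
    haveI : QuasiCompact C''.hom := inferInstanceAs (QuasiCompact (pullback.snd C'.hom P.hom))
    haveI : Smooth (Red.bc D.ι H).hom := inferInstanceAs (Smooth (pullback.snd H.hom D.ι))
    haveI : IsSeparated (Red.bc D.ι H).hom := inferInstanceAs (IsSeparated (pullback.snd H.hom D.ι))
    haveI : QuasiCompact (Red.bc D.ι H).hom := inferInstanceAs (QuasiCompact (pullback.snd H.hom D.ι))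
    haveI : Smooth H''.hom := inferInstanceAs (Smooth (pullback.snd (Red.bc D.ι H).hom P.hom))
    haveI : IsSeparated H''.hom := inferInstanceAs (IsSeparated (pullback.snd (Red.bc D.ι H).hom P.hom))
    haveI : QuasiCompact H''.hom := inferInstanceAs (QuasiCompact (pullback.snd (Red.bc D.ι H).hom P.hom))
    haveI : LocallyOfFinitePresentation (Red.bc D.ι M).hom :=
      inferInstanceAs (LocallyOfFinitePresentation (pullback.snd M.hom D.ι))
    haveI : LocallyOfFinitePresentation M''.hom :=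
      inferInstanceAs (LocallyOfFinitePresentation (pullback.snd (Red.bc D.ι M).hom P.hom))
    haveI : IsClosedImmersion ((Over.pullback D.ι).map m).left :=
      MorphismProperty.of_isPullback (P := @IsClosedImmersion) (isPullback_map m D.ι) hmc
    haveI : IsClosedImmersion ((Over.pullback P.hom).map ((Over.pullback D.ι).map m)).left :=
      MorphismProperty.of_isPullback (P := @IsClosedImmersion) (isPullback_map _ P.hom) ‹_›
    haveI : Mono ((Over.pullback D.ι).map c) := inferInstance
    haveI : Mono ((Over.pullback P.hom).map c') := inferInstance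
    haveI : IsMonHom ((Over.pullback P.hom).map c') := inferInstance
    haveI : Mono ((Over.pullback D.ι).map j) := inferInstance
    haveI : Mono ((Over.pullback P.hom).map ((Over.pullback D.ι).map j)) := inferInstance
    have hsmooth : Smooth M''.hom := smooth_transporter_of_presentation l hl k (isUnit_natCast P.hom l hu)
      ((Over.pullback P.hom).map c') (isConnected_fibre_bc C' (isConnected_fibre_bc C hC D.ι) P.hom)
      ((Over.pullback P.hom).map ((Over.pullback D.ι).map j)) (fun i => sec (g i))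
      (fun i => by rw [← sec_pow, hg, sec_one])
      (fun i X z y => by
        obtain ⟨y, rfl⟩ := exists_toBC' P.hom y
        rw [sec, ← toBC_naturality, ← toBC_mul, ← toBC_mul, ← Category.assoc ((Over.map P.hom).map z)]
        exact congrArg (toBC P.hom) (hgc i _ _ y))
      (presentation_bc c' g hpres) ((Over.pullback P.hom).map ((Over.pullback D.ι).map m))
      (transporter_bc _ _ _ (transporter_bc c j m hM D.ι) P.hom)
    haveI hsnd : Smooth (pullback.snd M.hom (P.hom ≫ D.ι)) := by
      have e := (IsPullback.of_hasPullback (pullback.snd M.hom D.ι) P.hom).paste_horiz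
        (IsPullback.of_hasPullback M.hom D.ι)
      haveI : Smooth (pullback.snd (pullback.snd M.hom D.ι) P.hom) := hsmooth
      rw [← e.isoPullback_inv_snd]
      infer_instance
    -- descend to a neighbourhood of `s`
    let f := P.hom ≫ D.ι
    haveI : Smooth f := inferInstanceAs (Smooth (P.hom ≫ D.ι))
    obtain ⟨p₀, hp₀⟩ := hsP
    have hps : f p₀ = s := by rw [Scheme.Hom.comp_apply, hp₀]; rfl
    obtain ⟨_, ⟨W', hW', rfl⟩, hsW, hWf⟩ := S.isBasis_affineOpens.exists_subset_of_mem_open
      (show s ∈ Set.range f.base from ⟨p₀, hps⟩) f.isOpenMap.isOpen_range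
    let W : S.Opens := W'
    have hW : IsAffineOpen W := hW'
    obtain ⟨A, hA, hAW⟩ := exists_compact_lift_open f f.isOpenMap W hW.isCompact hWf
    have hr : Set.range (A.ι ≫ f) ⊆ Set.range W.ι := by
      rintro _ ⟨a, rfl⟩
      rw [W.range_ι]
      exact hAW.le ⟨A.ι a, a.2, rfl⟩
    let π : (A : Scheme.{u}) ⟶ (W : Scheme.{u}) := IsOpenImmersion.lift W.ι (A.ι ≫ f) hr
    have hπ : π ≫ W.ι = A.ι ≫ f := IsOpenImmersion.lift_fac _ _ _
    haveI : Surjective π := ⟨fun w => by
      obtain ⟨a, ha, haw⟩ := hAW.ge w.2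
      refine ⟨⟨a, ha⟩, W.ι.isOpenEmbedding.injective ?_⟩
      rw [← Scheme.Hom.comp_apply, hπ]
      exact haw⟩
    haveI : Flat π := by
      haveI : Flat (π ≫ W.ι) := by rw [hπ]; infer_instance
      have hsq : IsPullback π (𝟙 _) W.ι (π ≫ W.ι) :=
        ⟨⟨(Category.id_comp _).symm⟩, ⟨PullbackCone.IsLimit.mk _ (fun s => s.snd)
          (fun s => by rw [← cancel_mono W.ι, Category.assoc, ← s.condition]) (fun s => Category.comp_id _)
          (fun s m _ hm => by simpa using hm)⟩⟩
      exact MorphismProperty.of_isPullback (P := @Flat) hsq.flip ‹Flat (π ≫ W.ι)›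
    haveI : IsAffine (W : Scheme.{u}) := hW
    haveI : CompactSpace ↥(A : Scheme.{u}) := isCompact_iff_compactSpace.1 hA
    haveI : QuasiCompact (π ≫ terminal.from (W : Scheme.{u})) := (quasiCompact_iff_compactSpace _).2 inferInstance
    haveI : QuasiCompact π := QuasiCompact.of_comp π (terminal.from (W : Scheme.{u}))
    refine ⟨W, hsW, smooth_snd_descend M.hom W.ι π ?_⟩
    rw [hπ]
    exact smooth_snd_comp M.hom f A.ι hsnd
  choose W hsW hWsm using hloc
  refine ⟨M, m, hmc, ?_, hM⟩
  refine IsZariskiLocalAtTarget.of_iSup_eq_top (P := @Smooth) W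
    (top_le_iff.1 fun s _ => TopologicalSpace.Opens.mem_iSup.2 ⟨s, hsW s⟩) fun s => ?_
  rw [← (isPullback_morphismRestrict M.hom (W s)).flip.isoPullback_hom_snd]
  haveI := hWsm s
  infer_instance

end Groth.Agent.MTImage
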