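import Groth.Agent.MTQuot.Core
import Groth.Agent.MTTorus.CommFactor
import Groth.Agent.AdjRep.KerObj
import Groth.Agent.S19598
import Groth.Agent.S5286
import Groth.Agent.S6059
import Groth.Agent.Chev.BcKernel
import Groth.Agent.MTBridge.FlatMT
import Groth.Agent.Grpd.FlatComp

/-!
# The kernel of a homomorphism from a torus to a separated group is flat

On a splitting chart the kernel is near every point the diagonalisable subgroup cut out by the characters killing the
kernel on the fibre: the restriction to that subgroup is trivial on a clopen neighbourhood, and the induced map on the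
quotient is a monomorphism on the fibre, hence nearby.
-/

set_option autoImplicit false
set_option linter.style.haveILetI false
set_option backward.isDefEq.respectTransparency false
set_option maxHeartbeats 1000000
set_option synthInstance.maxHeartbeats 400000

universe u

noncomputable section

open CategoryTheory Limits MonoidalCategory CartesianMonoidalCategory MonObj GrpObj AlgebraicGeometry
open scoped CategoryTheory.Obj
open Groth.Agent.MTBridge Groth.Agent.HomDiag Groth.Agent.MTQuot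

namespace Groth.Agent.MTImage

variable {S : Scheme.{u}} {M : Type} [AddCommGroup M] [AddGroup.FG M]

/-- A subgroup is determined by the identity element. -/
theorem isKernel_iff {K G Q : Over S} [GrpObj Q] (k : K ⟶ G) (q : G ⟶ Q) (h : AlgGrp.IsKernel k q) {X : Over S}
    (x : X ⟶ G) : (∃ y : X ⟶ K, y ≫ k = x) ↔ x ≫ q = 1 := by
  constructor
  · rintro ⟨y, rfl⟩
    rw [Category.assoc, h.w, ← Category.assoc, toUnit_unique (y ≫ toUnit K) (toUnit X), Hom.one_def]
  · intro hx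
    exact ⟨h.lift x (toUnit X) (by rw [hx, Hom.one_def]), h.lift_fst _ _ _⟩

/-- The characters cutting out the kernel over a field. -/
theorem exists_char_field {κ : Type u} [Field κ] {G : Over (Spec (CommRingCat.of κ))} [GrpObj G]
    [LocallyOfFiniteType G.hom] (hfgN : ∀ N : AddSubgroup M, AddGroup.FG N)
    (w : Red.DS (Spec (CommRingCat.of κ)) M ⟶ G) [IsMonHom w] :
    ∃ N : AddSubgroup M, ∀ (X : Over (Spec (CommRingCat.of κ))) (x : X ⟶ Red.DS (Spec (CommRingCat.of κ)) M),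
      x ≫ w = 1 ↔ x ≫ Red.DSmap (Spec (CommRingCat.of κ)) N.subtype = 1 := by
  obtain ⟨K, hK, k, hkm, hkc, -, hker⟩ := Groth.Agent.AdjRep.exists_kernel w
  haveI := hkm; haveI := hkc
  haveI : Mono k.left := inferInstance
  haveI : Mono k := Over.mono_of_mono_left k
  haveI : LocallyOfFiniteType (Red.DS (Spec (CommRingCat.of κ)) M).hom := by
    haveI : LocallyOfFinitePresentation (Red.DS (Spec (CommRingCat.of κ)) M).hom :=
      Groth.Agent.MTBridge.locallyOfFinitePresentation_of_isMultTypeFT _ (MTTorus.isMultTypeFT_DS _ M)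
    infer_instance
  haveI : LocallyOfFiniteType K.hom := by rw [← Over.w k]; infer_instance
  haveI : LocallyOfFinitePresentation K.hom := inferInstance
  have hKm := Groth.Agent.S19598.result K _ (MTTorus.isMultTypeFT_DS _ M) k hkc inferInstance inferInstance
  obtain ⟨S', f, Nf, hf, hopen, hloc⟩ := exists_nfun k hKm
  let s₀ : Spec (CommRingCat.of κ) := IsLocalRing.closedPoint κ
  haveI : Subsingleton (Spec (CommRingCat.of κ)) := inferInstanceAs (Subsingleton (PrimeSpectrum κ))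
  refine ⟨Nf s₀, fun X x => (isKernel_iff k w hker x).symm.trans
    (factor_iff k hf hloc (Nf s₀) (fun p => congrArg Nf (Subsingleton.elim _ _)) x)⟩

/-- A point killing a subgroup of characters comes from the diagonalisable group of the quotient. -/
theorem ker_DSmap_iff (N : AddSubgroup M) {X : Over S} (x : X ⟶ Red.DS S M) :
    (∃ y : X ⟶ Red.DS S (M ⧸ N), y ≫ Red.DSmap S (QuotientAddGroup.mk' N) = x) ↔
      x ≫ Red.DSmap S N.subtype = 1 := by
  rw [comp_eq_one_iff]
  constructor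
  · rintro ⟨y, rfl⟩ m hm
    rw [ch_DSmap]
    show ch y (Multiplicative.ofAdd (QuotientAddGroup.mk' N m)) = 1
    rw [show QuotientAddGroup.mk' N m = 0 from (QuotientAddGroup.eq_zero_iff m).2 hm, ofAdd_zero, map_one]
  · intro h
    let χ : Multiplicative (M ⧸ N) →* Γ(X.left, ⊤) :=
      AddMonoidHom.toMultiplicativeLeft (QuotientAddGroup.lift N (MonoidHom.toAdditiveRight (ch x))
        fun m hm => h m hm)
    obtain ⟨y, hy⟩ := exists_ch (S := S) χ
    refine ⟨y, ch_ext fun m => ?_⟩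
    rw [ch_DSmap, hy]
    rfl

section Generic

variable {A B G : Over S} [GrpObj A] [GrpObj B] [GrpObj G]

theorem div_comp_eq_one (f : A ⟶ B) [IsMonHom f] {X : Over S} {a b : X ⟶ A} (h : a ≫ f = b ≫ f) :
    (a * b⁻¹) ≫ f = 1 := by
  rw [MonObj.mul_comp, GrpObj.inv_comp, h, mul_inv_cancel]

theorem eq_of_div_comp (f : A ⟶ B) [IsMonHom f] {X : Over S} {a b : X ⟶ A} (h : (a * b⁻¹) ≫ f = 1) :
    a ≫ f = b ≫ f := by
  rwa [MonObj.mul_comp, GrpObj.inv_comp, mul_inv_eq_one] at h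

theorem one_comp_hom (f : A ⟶ B) [IsMonHom f] {X : Over S} : (1 : X ⟶ A) ≫ f = 1 := MonObj.one_comp f

theorem toBC_one {U : Scheme.{u}} (j : U ⟶ S) {X : Over U} : toBC j (1 : (Over.map j).obj X ⟶ A) = 1 :=
  map_one (MonoidHom.mk' (fun a : (Over.map j).obj X ⟶ A => toBC j a) (MTBridge.toBC_mul j))

theorem toBC_eq_one_iff {U : Scheme.{u}} (j : U ⟶ S) {X : Over U} {Y : Over S} (e : (Over.map j).obj X ≅ Y)
    (z : Y ⟶ A) : toBC j (e.hom ≫ z) = 1 ↔ z = 1 := by
  constructor
  · intro h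
    rw [← toBC_one j (X := X) (A := A)] at h
    exact (cancel_epi e.hom).1 ((MTBridge.toBC_inj j h).trans (MonObj.comp_one _).symm)
  · rintro rfl
    rw [MonObj.comp_one, toBC_one]

/-- A monomorphism has trivial kernel. -/
theorem comp_eq_one_iff_mono (f : A ⟶ B) [IsMonHom f] [Mono f] {X : Over S} (x : X ⟶ A) : x ≫ f = 1 ↔ x = 1 := by
  rw [← cancel_mono f (g := x) (h := 1), one_comp_hom]

/-- A homomorphism killing the kernel of a covering homomorphism descends to a homomorphism. -/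
theorem exists_desc_hom (q : A ⟶ B) [IsMonHom q] (hq : CoverMap.Covers q.left) (w : A ⟶ G) [IsMonHom w]
    (hker : ∀ (X : Over S) (x : X ⟶ A), x ≫ q = 1 → x ≫ w = 1) :
    ∃ (m : B ⟶ G) (_ : IsMonHom m), q ≫ m = w := by
  obtain ⟨m, hm, -⟩ := CoverMap.existsUnique_fac hq w fun X a b h =>
    eq_of_div_comp w (hker X _ (div_comp_eq_one q h))
  refine ⟨m, MTTorus.isMonHom_of_mul m fun {X} u v => ?_, hm⟩
  let X₁ : Over S := Over.mk (pullback.fst u.left q.left ≫ X.hom)
  let p₁ : X₁ ⟶ X := Over.homMk (pullback.fst u.left q.left) rfl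
  let a : X₁ ⟶ A := Over.homMk (pullback.snd u.left q.left) (by
    show pullback.snd u.left q.left ≫ A.hom = pullback.fst u.left q.left ≫ X.hom
    rw [← Over.w q, ← Over.w u, pullback.condition_assoc])
  have ha : a ≫ q = p₁ ≫ u := Over.OverMorphism.ext pullback.condition.symm
  let v₁ := p₁ ≫ v
  let X₂ : Over S := Over.mk (pullback.fst v₁.left q.left ≫ X₁.hom)
  let p₂ : X₂ ⟶ X₁ := Over.homMk (pullback.fst v₁.left q.left) rfl
  let b : X₂ ⟶ A := Over.homMk (pullback.snd v₁.left q.left) (by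
    show pullback.snd v₁.left q.left ≫ A.hom = pullback.fst v₁.left q.left ≫ X₁.hom
    rw [← Over.w q, ← Over.w v₁, pullback.condition_assoc])
  have hb : b ≫ q = p₂ ≫ p₁ ≫ v := Over.OverMorphism.ext pullback.condition.symm
  haveI := CoverMap.epi_over (f := p₁) (hq.of_isPullback (IsPullback.of_hasPullback u.left q.left))
  haveI := CoverMap.epi_over (f := p₂) (hq.of_isPullback (IsPullback.of_hasPullback v₁.left q.left))
  rw [← cancel_epi p₁, ← cancel_epi p₂]
  simp only [MonObj.comp_mul, ← Category.assoc]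
  rw [Category.assoc p₂ p₁ u, ← ha, Category.assoc p₂ p₁ v, ← hb, ← Category.assoc p₂ a q, ← MonObj.mul_comp,
    Category.assoc, hm, Category.assoc (p₂ ≫ a) q m, hm, Category.assoc b q m, hm, MonObj.mul_comp]

end Generic

/-- A homomorphism trivial on the subgroup of the characters `N` factors through the quotient. -/
theorem exists_desc_quot (hfgN : ∀ N : AddSubgroup M, AddGroup.FG N) {G : Over S} [GrpObj G] (N : AddSubgroup M)
    (w : Red.DS S M ⟶ G) [IsMonHom w] (hw : Red.DSmap S (QuotientAddGroup.mk' N) ≫ w = 1) :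
    ∃ (m : Red.DS S N ⟶ G) (_ : IsMonHom m), Red.DSmap S N.subtype ≫ m = w := by
  haveI := hfgN N
  refine exists_desc_hom (A := Red.DS S M) (B := Red.DS S N) (Red.DSmap S N.subtype)
    (covers_DSmap N.subtype Subtype.val_injective) w fun X x hx => ?_
  obtain ⟨y, hy⟩ := (ker_DSmap_iff N x).2 hx
  rw [← hy, Category.assoc, hw, MonObj.comp_one]

/-- A homomorphism with trivial kernel on points is a monomorphism. -/
theorem mono_of_ker {A B : Over S} [GrpObj A] [GrpObj B] (f : A ⟶ B) [IsMonHom f]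
    (h : ∀ (X : Over S) (x : X ⟶ A), x ≫ f = 1 → x = 1) : Mono f :=
  ⟨fun {X} a b e => mul_inv_eq_one.1 (h X (a * b⁻¹) (by rw [MonObj.mul_comp, GrpObj.inv_comp, e, mul_inv_cancel]))⟩

/-- Near a point where the kernel on the fibre is cut out by `N`, it is cut out by `N`. -/
theorem exists_nhd_of_trivial (hfgN : ∀ N : AddSubgroup M, AddGroup.FG N) {G : Over S} [GrpObj G]
    [IsSeparated G.hom] [LocallyOfFinitePresentation G.hom] (N : AddSubgroup M) (w : Red.DS S M ⟶ G) [IsMonHom w]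
    (hw : Red.DSmap S (QuotientAddGroup.mk' N) ≫ w = 1) (s : S)
    (hN : ∀ (X : Over S), (∃ a, a ≫ S.fromSpecResidueField s = X.hom) → ∀ x : X ⟶ Red.DS S M,
      x ≫ w = 1 → x ≫ Red.DSmap S N.subtype = 1) :
    ∃ V : S.Opens, s ∈ V ∧ ∀ (X : Over S), Set.range X.hom ⊆ (V : Set S) → ∀ x : X ⟶ Red.DS S M,
      x ≫ w = 1 ↔ x ≫ Red.DSmap S N.subtype = 1 := by
  haveI := hfgN N
  obtain ⟨m, hm, hfac⟩ := exists_desc_quot hfgN N w hw
  haveI := hm
  let κ := S.fromSpecResidueField s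
  let q := Red.DSmap S N.subtype
  haveI : IsMonHom q := isMonHom_DSmap _
  haveI : PreservesLimitsOfShape WalkingCospan (Over.pullback κ) :=
    (Adjunction.rightAdjoint_preservesLimits (Over.mapPullbackAdj κ)).preservesLimitsOfShape
  haveI hmono : Mono ((Over.pullback κ).map m) := mono_of_ker _ fun X z hz => by
    obtain ⟨z₀, rfl⟩ := exists_toBC' κ z
    have hz₀ : z₀ ≫ m = 1 := MTBridge.toBC_inj κ (by
      rw [MTBridge.toBC_comp, hz]
      exact (toBC_one κ).symm)
    let Y := (Over.map κ).obj X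
    let X' : Over S := Over.mk (pullback.fst z₀.left q.left ≫ Y.hom)
    let p : X' ⟶ Y := Over.homMk (pullback.fst z₀.left q.left) rfl
    let x : X' ⟶ Red.DS S M := Over.homMk (pullback.snd z₀.left q.left) (by
      show pullback.snd z₀.left q.left ≫ (Red.DS S M).hom = pullback.fst z₀.left q.left ≫ Y.hom
      rw [← Over.w q, ← Over.w z₀, pullback.condition_assoc])
    have hx : x ≫ q = p ≫ z₀ := Over.OverMorphism.ext pullback.condition.symm
    have hx1 : x ≫ q = 1 := hN X' ⟨pullback.fst z₀.left q.left ≫ X.hom, Category.assoc _ _ _⟩ x (by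
      rw [← hfac, reassoc_of% hx, hz₀, MonObj.comp_one])
    haveI := CoverMap.epi_over (f := p)
      ((covers_DSmap N.subtype Subtype.val_injective).of_isPullback (IsPullback.of_hasPullback z₀.left q.left))
    have h0 : z₀ = 1 := (cancel_epi p).1 (by rw [← hx, hx1, MonObj.comp_one])
    subst h0
    exact toBC_one (A := Red.DS S N) κ
  obtain ⟨V, hsV, hV⟩ := Groth.Agent.S6059.result (Red.DS S N) G (MTTorus.isMultTypeFT_DS S N) (Or.inr ‹_›) m s
    (inferInstanceAs (Mono ((Over.forget _).map ((Over.pullback κ).map m))))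
  haveI := hV
  haveI : Mono ((Over.pullback V.ι).map m) := Over.mono_of_mono_left _
  refine ⟨V, hsV, fun X hX x => ⟨fun h => ?_, fun h => ?_⟩⟩
  · let l := IsOpenImmersion.lift V.ι X.hom (by rw [Scheme.Opens.range_ι]; exact hX)
    let e : (Over.map V.ι).obj (Over.mk l) ≅ X := Over.isoMk (Iso.refl _) (by
      show 𝟙 _ ≫ X.hom = l ≫ V.ι
      rw [Category.id_comp, IsOpenImmersion.lift_fac])
    have h1 : toBC V.ι (e.hom ≫ x ≫ q) ≫ (Over.pullback V.ι).map m =
        toBC V.ι (1 : _ ⟶ Red.DS S N) ≫ (Over.pullback V.ι).map m := by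
      rw [← MTBridge.toBC_comp, ← MTBridge.toBC_comp, MonObj.one_comp, Category.assoc, Category.assoc, hfac, h,
        MonObj.comp_one]
    have h2 := MTBridge.toBC_inj V.ι ((cancel_mono _).1 h1)
    exact (cancel_epi e.hom).1 (h2.trans (MonObj.comp_one _).symm)
  · rw [← hfac, ← Category.assoc, h, MonObj.one_comp]

/-- The characters cutting out the kernel at a field-valued point. -/
theorem exists_char_point (hfgN : ∀ N : AddSubgroup M, AddGroup.FG N) {G : Over S} [GrpObj G]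
    [LocallyOfFiniteType G.hom] (w : Red.DS S M ⟶ G) [IsMonHom w] {K : Type u} [Field K]
    (κ : Spec (CommRingCat.of K) ⟶ S) :
    ∃ N : AddSubgroup M, ∀ (X : Over S), (∃ a, a ≫ κ = X.hom) → ∀ x : X ⟶ Red.DS S M,
      x ≫ w = 1 ↔ x ≫ Red.DSmap S N.subtype = 1 := by
  haveI : PreservesLimitsOfShape WalkingCospan (Over.pullback κ) :=
    (Adjunction.rightAdjoint_preservesLimits (Over.mapPullbackAdj κ)).preservesLimitsOfShape
  haveI : LocallyOfFiniteType (Red.bc κ G).hom := inferInstanceAs (LocallyOfFiniteType (pullback.snd G.hom κ))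
  haveI : IsMonHom (bcDS κ M).inv.hom.hom := (bcDS κ M).inv.hom.isMonHom_hom
  let wκ : Red.DS (Spec (CommRingCat.of K)) M ⟶ Red.bc κ G := (bcDS κ M).inv.hom.hom ≫ (Over.pullback κ).map w
  haveI : IsMonHom wκ := inferInstanceAs (IsMonHom (_ ≫ _))
  obtain ⟨N, hN⟩ := exists_char_field (κ := K) hfgN wκ
  refine ⟨N, ?_⟩
  rintro X ⟨a, ha⟩ x
  let e : (Over.map κ).obj (Over.mk a) ≅ X := Over.isoMk (Iso.refl _) (by
    show 𝟙 _ ≫ X.hom = a ≫ κ
    rw [Category.id_comp, ha])
  have hd : (bcDS κ M).hom.hom.hom ≫ (bcDS κ M).inv.hom.hom = 𝟙 _ := ((Grp.forget _).mapIso (bcDS κ M)).hom_inv_id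
  rw [← toBC_eq_one_iff κ e (x ≫ w), ← toBC_eq_one_iff (A := Red.DS S N) κ e (x ≫ Red.DSmap S N.subtype)]
  have h := hN _ (toBC κ (e.hom ≫ x) ≫ (bcDS κ M).hom.hom.hom)
  rw [Category.assoc, reassoc_of% hd] at h
  rw [← Category.assoc e.hom x w, MTBridge.toBC_comp, h, Category.assoc, ← MTTorus.DSmap_bc,
    ← Category.assoc, ← MTBridge.toBC_comp, Category.assoc]
  haveI : IsMonHom (bcDS κ N).hom.hom.hom := (bcDS κ N).hom.hom.isMonHom_hom
  haveI : IsIso (bcDS κ N).hom.hom.hom := ((Grp.forget _).mapIso (bcDS κ N)).isIso_hom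
  exact comp_eq_one_iff_mono (A := Red.bc κ (Red.DS S N)) (bcDS κ N).hom.hom.hom _

/-- Transport of the fibre condition to a chart. -/
theorem exists_nhd_char (hfgN : ∀ N : AddSubgroup M, AddGroup.FG N) {G : Over S} [GrpObj G] [IsSeparated G.hom]
    [LocallyOfFinitePresentation G.hom] [QuasiCompact G.hom] (w : Red.DS S M ⟶ G) [IsMonHom w] (s : S) :
    ∃ (V : S.Opens) (N : AddSubgroup M), s ∈ V ∧ ∀ (X : Over S), Set.range X.hom ⊆ (V : Set S) →
      ∀ x : X ⟶ Red.DS S M, x ≫ w = 1 ↔ x ≫ Red.DSmap S N.subtype = 1 := by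
  let κ := S.fromSpecResidueField s
  haveI : PreservesLimitsOfShape WalkingCospan (Over.pullback κ) :=
    (Adjunction.rightAdjoint_preservesLimits (Over.mapPullbackAdj κ)).preservesLimitsOfShape
  obtain ⟨N, hNS⟩ := exists_char_point hfgN w (K := S.residueField s) κ
  haveI := hfgN N
  haveI : AddGroup.FG (M ⧸ N) := AddGroup.fg_of_surjective (f := QuotientAddGroup.mk' N) (QuotientAddGroup.mk'_surjective N)
  let ι₀ := Red.DSmap S (QuotientAddGroup.mk' N)
  haveI : IsMonHom ι₀ := isMonHom_DSmap _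
  haveI : IsMonHom (ι₀ ≫ w) := inferInstance
  obtain ⟨U₁, -, hU₁, hU₁e⟩ := Groth.Agent.S5286.result (Red.DS S (M ⧸ N)) G (MTTorus.isMultTypeFT_DS S _)
    (Or.inr ⟨inferInstance, inferInstance, inferInstance⟩) (ι₀ ≫ w)
  have hs₁ : s ∈ U₁ := (hU₁ s).2 (by
    obtain ⟨p, hp⟩ := exists_toBC' κ (𝟙 (Red.bc κ (Red.DS S (M ⧸ N))))
    rw [← Category.id_comp ((Over.pullback κ).map (ι₀ ≫ w)), ← hp, ← MTBridge.toBC_comp, ← Category.assoc]
    rw [(hNS _ ⟨_, rfl⟩ (p ≫ ι₀)).2 ((ker_DSmap_iff N _).1 ⟨p, rfl⟩)]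
    exact toBC_one κ)
  let j := U₁.ι
  haveI : PreservesLimitsOfShape WalkingCospan (Over.pullback j) :=
    (Adjunction.rightAdjoint_preservesLimits (Over.mapPullbackAdj j)).preservesLimitsOfShape
  haveI : IsSeparated (Red.bc j G).hom := inferInstanceAs (IsSeparated (pullback.snd G.hom j))
  haveI : LocallyOfFinitePresentation (Red.bc j G).hom :=
    inferInstanceAs (LocallyOfFinitePresentation (pullback.snd G.hom j))
  haveI : IsMonHom (bcDS j M).inv.hom.hom := (bcDS j M).inv.hom.isMonHom_hom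
  haveI : IsMonHom (bcDS j M).hom.hom.hom := (bcDS j M).hom.hom.isMonHom_hom
  have hd : (bcDS j M).hom.hom.hom ≫ (bcDS j M).inv.hom.hom = 𝟙 _ := ((Grp.forget _).mapIso (bcDS j M)).hom_inv_id
  let w₁ := (bcDS j M).inv.hom.hom ≫ (Over.pullback j).map w
  haveI : IsMonHom w₁ := inferInstanceAs (IsMonHom (_ ≫ _))
  have hw₁ : Red.DSmap (U₁ : Scheme.{u}) (QuotientAddGroup.mk' N) ≫ w₁ = 1 := by
    haveI : IsIso (bcDS j (M ⧸ N)).hom.hom.hom := ((Grp.forget _).mapIso (bcDS j (M ⧸ N))).isIso_hom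
    rw [← cancel_epi (bcDS j (M ⧸ N)).hom.hom.hom, MonObj.comp_one, ← Category.assoc, ← MTTorus.DSmap_bc,
      Category.assoc, reassoc_of% hd, ← Functor.map_comp]
    exact hU₁e
  have pts : ∀ {X : Over S} (l : X.left ⟶ (U₁ : Scheme.{u})) (hl : l ≫ j = X.hom) (x : X ⟶ Red.DS S M),
      ∃ x₁ : Over.mk l ⟶ Red.DS (U₁ : Scheme.{u}) M, (x₁ ≫ w₁ = 1 ↔ x ≫ w = 1) ∧
        (x₁ ≫ Red.DSmap (U₁ : Scheme.{u}) N.subtype = 1 ↔ x ≫ Red.DSmap S N.subtype = 1) := by
    intro X l hl x
    let e : (Over.map j).obj (Over.mk l) ≅ X := Over.isoMk (Iso.refl _) (by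
      show 𝟙 _ ≫ X.hom = l ≫ j
      rw [Category.id_comp, hl])
    refine ⟨toBC j (e.hom ≫ x) ≫ (bcDS j M).hom.hom.hom, ?_, ?_⟩
    · rw [Category.assoc, reassoc_of% hd, ← MTBridge.toBC_comp, Category.assoc, toBC_eq_one_iff]
    · rw [Category.assoc, ← MTTorus.DSmap_bc, ← Category.assoc, ← MTBridge.toBC_comp, Category.assoc,
        ← toBC_eq_one_iff (A := Red.DS S N) j e (x ≫ Red.DSmap S N.subtype)]
      haveI : IsMonHom (bcDS j N).hom.hom.hom := (bcDS j N).hom.hom.isMonHom_hom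
      haveI : IsIso (bcDS j N).hom.hom.hom := ((Grp.forget _).mapIso (bcDS j N)).isIso_hom
      exact comp_eq_one_iff_mono (A := Red.bc j (Red.DS S N)) (bcDS j N).hom.hom.hom _
  obtain ⟨V, hsV, hV⟩ := exists_nhd_of_trivial hfgN N w₁ hw₁ ⟨s, hs₁⟩ (by
    rintro X ⟨a, ha⟩ x hx
    obtain ⟨x₀, hx₀⟩ := exists_toBC' j (x ≫ (bcDS j M).inv.hom.hom)
    have hd' : (bcDS j M).inv.hom.hom ≫ (bcDS j M).hom.hom.hom = 𝟙 _ := ((Grp.forget _).mapIso (bcDS j M)).inv_hom_id
    have h0 : x₀ ≫ w = 1 := MTBridge.toBC_inj j (by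
      rw [MTBridge.toBC_comp, hx₀, Category.assoc]
      exact hx.trans (toBC_one j).symm)
    have h1 := (hNS _ ⟨a ≫ Spec.map (j.residueFieldMap ⟨s, hs₁⟩), by
      rw [Category.assoc]
      refine Eq.trans ?_ (congrArg (· ≫ j) ha)
      rw [Category.assoc]
      congr 1
      exact Scheme.Hom.SpecMap_residueFieldMap_fromSpecResidueField _ _⟩ x₀).1 h0
    have h2 : x = toBC j x₀ ≫ (bcDS j M).hom.hom.hom := by rw [hx₀, Category.assoc, hd', Category.comp_id]
    rw [h2, Category.assoc, ← MTTorus.DSmap_bc, ← Category.assoc, ← MTBridge.toBC_comp, h1]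
    haveI : IsMonHom (bcDS j N).hom.hom.hom := (bcDS j N).hom.hom.isMonHom_hom
    rw [toBC_one (A := Red.DS S N) j]
    exact one_comp_hom (A := Red.bc j (Red.DS S N)) (bcDS j N).hom.hom.hom)
  refine ⟨j ''ᵁ V, N, ⟨⟨s, hs₁⟩, hsV, rfl⟩, fun X hX x => ?_⟩
  have hXj : Set.range X.hom ⊆ Set.range j := hX.trans fun _ ⟨v, _, hv⟩ => ⟨v, hv⟩
  let l := IsOpenImmersion.lift j X.hom hXj
  obtain ⟨x₁, hx₁w, hx₁q⟩ := pts l (IsOpenImmersion.lift_fac _ _ _) x
  rw [← hx₁w, ← hx₁q]
  refine hV (Over.mk l) ?_ x₁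
  rintro _ ⟨p, rfl⟩
  obtain ⟨v, hv, hve⟩ := hX ⟨p, rfl⟩
  have h1 : j (l p) = j v := by
    rw [← Scheme.Hom.comp_apply, IsOpenImmersion.lift_fac]
    exact hve.symm
  show l p ∈ V
  rw [j.isOpenEmbedding.injective h1]
  exact hv

/-- The kernel of a homomorphism from a split group is flat. -/
theorem flat_kernel_split (hfgN : ∀ N : AddSubgroup M, AddGroup.FG N) {G K : Over S} [GrpObj G] [IsSeparated G.hom]
    [LocallyOfFinitePresentation G.hom] [QuasiCompact G.hom] (w : Red.DS S M ⟶ G) [IsMonHom w] (k : K ⟶ Red.DS S M)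
    [Mono k] (hk : AlgGrp.IsKernel k w) : Flat K.hom := by
  choose V N hsV hV using fun s => exists_nhd_char hfgN w s
  rw [IsZariskiLocalAtTarget.iff_of_iSup_eq_top (P := @Flat.{u}) V
    (eq_top_iff.2 fun x _ => TopologicalSpace.Opens.mem_iSup.2 ⟨x, hsV x⟩)]
  intro s
  let j := (V s).ι
  haveI : PreservesLimitsOfShape WalkingCospan (Over.pullback j) :=
    (Adjunction.rightAdjoint_preservesLimits (Over.mapPullbackAdj j)).preservesLimitsOfShape
  let Q := Red.DS (V s : Scheme.{u}) (M ⧸ N s)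
  haveI : AddGroup.FG (M ⧸ N s) :=
    AddGroup.fg_of_surjective (f := QuotientAddGroup.mk' (N s)) (QuotientAddGroup.mk'_surjective _)
  haveI : Flat Q.hom := flat_of_isMultTypeFT Q (MTTorus.isMultTypeFT_DS _ _)
  let ι₀ : Q ⟶ Red.DS (V s : Scheme.{u}) M := Red.DSmap _ (QuotientAddGroup.mk' (N s))
  haveI : Mono ι₀ := ⟨fun {X} a b h => ch_ext fun c => by
    obtain ⟨c', hc'⟩ := QuotientAddGroup.mk'_surjective (N s) c.toAdd
    have h1 := congrArg (fun z => ch z (Multiplicative.ofAdd c')) h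
    rw [ch_DSmap, ch_DSmap] at h1
    have h2 : Multiplicative.ofAdd ((QuotientAddGroup.mk' (N s)) (Multiplicative.ofAdd c').toAdd) = c :=
      congrArg Multiplicative.ofAdd hc'
    rwa [h2] at h1⟩
  let D := bcDS j M
  haveI : IsMonHom D.hom.hom.hom := D.hom.hom.isMonHom_hom
  haveI : IsMonHom D.inv.hom.hom := D.inv.hom.isMonHom_hom
  haveI : IsIso D.hom.hom.hom := ((Grp.forget _).mapIso D).isIso_hom
  have hD : D.hom.hom.hom ≫ D.inv.hom.hom = 𝟙 _ := ((Grp.forget _).mapIso D).hom_inv_id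
  have hD' : D.inv.hom.hom ≫ D.hom.hom.hom = 𝟙 _ := ((Grp.forget _).mapIso D).inv_hom_id
  let kV := (Over.pullback j).map k ≫ D.hom.hom.hom
  haveI : Mono kV := mono_comp _ _
  have hmem : ∀ {X : Over (V s : Scheme.{u})} (z : X ⟶ Red.DS (V s : Scheme.{u}) M),
      (∃ y, y ≫ kV = z) ↔ z ≫ Red.DSmap (V s : Scheme.{u}) (N s).subtype = 1 := fun {X} z => by
    obtain ⟨z₀, hz₀⟩ := exists_toBC' j (z ≫ D.inv.hom.hom)
    have hzz : z = toBC j z₀ ≫ D.hom.hom.hom := by rw [hz₀, Category.assoc, hD', Category.comp_id]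
    have hX : Set.range ((Over.map j).obj X).hom ⊆ (V s : Set S) := by
      rintro _ ⟨p, rfl⟩
      exact (X.hom p).2
    haveI : IsMonHom (bcDS j (N s)).hom.hom.hom := (bcDS j (N s)).hom.hom.isMonHom_hom
    haveI : IsIso (bcDS j (N s)).hom.hom.hom := ((Grp.forget _).mapIso (bcDS j (N s))).isIso_hom
    constructor
    · rintro ⟨y, hy⟩
      obtain ⟨y₀, rfl⟩ := exists_toBC' j y
      have h1 : y₀ ≫ k = z₀ := MTBridge.toBC_inj j (by
        rw [MTBridge.toBC_comp, ← cancel_mono D.hom.hom.hom, ← hzz, Category.assoc]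
        exact hy)
      have h2 := (hV s _ hX z₀).1 ((isKernel_iff k w hk z₀).1 ⟨y₀, h1⟩)
      rw [hzz, Category.assoc, ← MTTorus.DSmap_bc, ← Category.assoc, ← MTBridge.toBC_comp, h2, toBC_one (A := Red.DS S (N s)) j]
      exact one_comp_hom (A := Red.bc j (Red.DS S (N s))) (bcDS j (N s)).hom.hom.hom
    · intro hz
      have h1 : z₀ ≫ Red.DSmap S (N s).subtype = 1 := MTBridge.toBC_inj j (by
        rw [toBC_one (A := Red.DS S (N s)) j, ← comp_eq_one_iff_mono (A := Red.bc j (Red.DS S (N s)))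
          (bcDS j (N s)).hom.hom.hom, MTBridge.toBC_comp, Category.assoc, MTTorus.DSmap_bc, ← Category.assoc, ← hzz, hz])
      obtain ⟨y₀, hy₀⟩ := (isKernel_iff k w hk z₀).2 ((hV s _ hX z₀).2 h1)
      exact ⟨toBC j y₀, by rw [hzz, ← Category.assoc, ← MTBridge.toBC_comp, hy₀]⟩
  obtain ⟨a, ha⟩ := (hmem ι₀).2 ((ker_DSmap_iff (N s) _).1 ⟨𝟙 _, Category.id_comp _⟩)
  obtain ⟨b, hb⟩ := (ker_DSmap_iff (N s) kV).2 ((hmem kV).1 ⟨𝟙 _, Category.id_comp _⟩)
  let e : Red.bc j K ≅ Q := ⟨b, a, by rw [← cancel_mono kV, Category.assoc, ha, hb, Category.id_comp],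
    by rw [← cancel_mono ι₀, Category.assoc, hb, ha, Category.id_comp]⟩
  haveI : IsIso e.hom.left := ((Over.forget _).mapIso e).isIso_hom
  haveI : Flat (pullback.snd K.hom j) := by
    rw [show pullback.snd K.hom j = e.hom.left ≫ Q.hom from (Over.w e.hom).symm]
    infer_instance
  rw [← (isPullback_morphismRestrict K.hom (V s)).flip.isoPullback_hom_snd]
  infer_instance

end Groth.Agent.MTImage
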