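import Groth.Agent.MTImage.Cartan
import Groth.Agent.MTImage.TorsionLift
import Groth.Agent.MTBridge.ExtCentral
import Groth.Agent.RedR1.Gen
import Groth.Agent.Chev.TorusCommMax

/-!
# Connected groups normalizing a torus centralize it

A group with connected fibres mapping to `G` and normalizing a subgroup of multiplicative type commutes with it; in
particular maximal tori whose commutators are central commute.
-/

set_option autoImplicit false
set_option linter.style.haveILetI false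
set_option backward.isDefEq.respectTransparency false
set_option maxHeartbeats 1000000
set_option synthInstance.maxHeartbeats 400000

universe u

noncomputable section

open CategoryTheory Limits MonoidalCategory CartesianMonoidalCategory MonObj GrpObj AlgebraicGeometry
open scoped CategoryTheory.Obj

namespace Groth.Agent.MTImage

open Groth.Agent.MTBridge Groth.Agent.Chev

variable {S : Scheme.{u}}

/-- A connected group normalizing a subgroup of multiplicative type centralizes it. -/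
theorem commute_of_normalizes {H E G : Over S} [GrpObj H] [GrpObj E] [GrpObj G] (hH : SGA3x.IsMultTypeFT H)
    (i : H ⟶ G) [IsMonHom i] [Mono i] (j : E ⟶ G) [IsMonHom j]
    (hconn : ∀ s : S, _root_.IsConnected (E.hom.base ⁻¹' {s})) (c : H ⊗ E ⟶ H)
    (hc : c ≫ i = (snd H E ≫ j) * (fst H E ≫ i) * (snd H E ≫ j)⁻¹) :
    ∀ (X : Over S) (a : X ⟶ H) (e : X ⟶ E), (a ≫ i) * (e ≫ j) = (e ≫ j) * (a ≫ i) := by
  have hH' := locally_of_isMultTypeFT' H hH
  have hc' : ∀ (X : Over S) (a : X ⟶ H) (e : X ⟶ E),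
      (lift a e ≫ c) ≫ i = (e ≫ j) * (a ≫ i) * (e ≫ j)⁻¹ := by
    intro X a e
    rw [Category.assoc, hc]
    simp [MonObj.comp_mul, GrpObj.comp_inv]
  let d : H ⊗ E ⟶ H := c * (fst H E)⁻¹
  have hd' : ∀ (X : Over S) (a : X ⟶ H) (e : X ⟶ E), lift a e ≫ d = (lift a e ≫ c) * a⁻¹ := by
    intro X a e
    simp [d, MonObj.comp_mul, GrpObj.comp_inv]
  have hd : ∀ (X : Over S) (a b : X ⟶ H) (e : X ⟶ E),
      lift (a * b) e ≫ d = (lift a e ≫ d) * (lift b e ≫ d) := by
    intro X a b e
    have h1 : lift (a * b) e ≫ c = (lift a e ≫ c) * (lift b e ≫ c) := by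
      refine (cancel_mono i).1 ?_
      rw [MonObj.mul_comp, hc', hc', hc', MonObj.mul_comp]
      group
    rw [hd', hd', hd', h1, _root_.mul_inv_rev, comm_points_scheme H hH' b⁻¹ a⁻¹]
    simp only [_root_.mul_assoc]
    rw [← _root_.mul_assoc (lift b e ≫ c), comm_points_scheme H hH' (lift b e ≫ c) a⁻¹, _root_.mul_assoc]
  obtain ⟨L, hLc, hL1, hL2⟩ := exists_centralizing_locus hH d hd
  have hone : ∀ q : ↥(𝟙_ (Over S)).left, η[E].left q ∈ L := by
    intro q
    let K := (𝟙_ (Over S)).left.residueField q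
    have hq : (𝟙_ (Over S)).left.fromSpecResidueField q (IsLocalRing.closedPoint K) = q :=
      (𝟙_ (Over S)).left.fromSpecResidueField_apply q _
    have h := hL2 K ((𝟙_ (Over S)).left.fromSpecResidueField q ≫ η[E].left) (fun X x hx a => by
      let e : X ⟶ E := Over.homMk (x ≫ (𝟙_ (Over S)).left.fromSpecResidueField q ≫ η[E].left)
        (by rw [Category.assoc]; exact hx)
      have he : e = 1 := by
        let x' : X ⟶ 𝟙_ (Over S) := Over.homMk (x ≫ (𝟙_ (Over S)).left.fromSpecResidueField q) (by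
          rw [← hx, Category.assoc, Category.assoc, Over.w η[E]])
        rw [Hom.one_def, toUnit_unique (toUnit X) x']
        exact Over.OverMorphism.ext (Category.assoc _ _ _).symm
      show lift a e ≫ d = 1
      rw [hd', mul_inv_eq_one]
      refine (cancel_mono i).1 ?_
      rw [hc', he, MonObj.one_comp, _root_.one_mul, inv_one, _root_.mul_one]) (IsLocalRing.closedPoint K)
    rw [Scheme.Hom.comp_apply] at h
    exact (congrArg (fun w => η[E].left w ∈ L) hq).mp h
  have hall : ∀ e : E.left, e ∈ L := by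
    intro e
    let s := E.hom e
    obtain ⟨q, hq⟩ : ∃ q : ↥(𝟙_ (Over S)).left, (𝟙_ (Over S)).hom q = s := ⟨s, rfl⟩
    have hmem : E.hom (η[E].left q) = s := by rw [← Scheme.Hom.comp_apply, Over.w η[E], hq]
    exact (hconn s).isPreconnected.subset_isClopen ⟨hLc, L.2⟩ ⟨η[E].left q, hmem, hone q⟩
      (show e ∈ E.hom.base ⁻¹' {s} from rfl)
  intro X a e
  have h1 := hL1 X e (fun t _ => hall t) a
  rw [hd', mul_inv_eq_one] at h1
  have h2 := hc' X a e
  rw [h1, eq_mul_inv_iff_mul_eq] at h2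
  exact h2

/-- The fibres of a torus are connected. -/
theorem isConnected_fibre_torus {T : Over S} [GrpObj T] (hT : Red.IsTorus T) (s : S) :
    _root_.IsConnected (T.hom.base ⁻¹' {s}) := by
  haveI : ConnectedSpace ↥(T.hom.fiber s) := connected_fibre_torus hT s
  exact isConnected_iff_connectedSpace.2
    ((T.hom.fiberHomeo s).surjective.connectedSpace (T.hom.fiberHomeo s).continuous)

/-- A torus whose commutators with a maximal torus are central commutes with it. -/
theorem commute_tori {T R G : Over S} [GrpObj T] [GrpObj R] [GrpObj G] [Smooth G.hom] [QuasiCompact G.hom]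
    (i : T ⟶ G) (hi : Red.IsMaximalTorus i) (j : R ⟶ G) [IsMonHom j] (hR : Red.IsTorus R)
    (hcen : ∀ (X : Over S) (a : X ⟶ T) (e : X ⟶ R) (X' : Over S) (x : X' ⟶ X) (g : X' ⟶ G),
      (x ≫ ((e ≫ j) * (a ≫ i) * (e ≫ j)⁻¹ * (a ≫ i)⁻¹)) * g =
        g * (x ≫ ((e ≫ j) * (a ≫ i) * (e ≫ j)⁻¹ * (a ≫ i)⁻¹))) :
    ∀ (X : Over S) (a : X ⟶ T) (e : X ⟶ R), (a ≫ i) * (e ≫ j) = (e ≫ j) * (a ≫ i) := by
  haveI := hi.1; haveI := hi.2.1
  let g := R.hom
  haveI : LocallyOfFiniteType (Red.bc g G).hom := inferInstanceAs (LocallyOfFiniteType (pullback.snd G.hom g))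
  haveI : QuasiCompact (Red.bc g G).hom := inferInstanceAs (QuasiCompact (pullback.snd G.hom g))
  have hT := MTBridge.isMultTypeFT_of_isTorus T hi.2.2.1
  let σ : 𝟙_ (Over R.left) ⟶ Red.bc g G := sec j
  have hσ : ∀ (Y : Over R.left), ∃ e : (Over.map g).obj Y ⟶ R, toUnit Y ≫ σ = toBC g (e ≫ j) := fun Y =>
    ⟨(Over.map g).map (toUnit Y) ≫ (secIso R).hom, by
      show toUnit Y ≫ toBC R.hom ((secIso R).hom ≫ j) = _
      rw [← toBC_naturality, Category.assoc]⟩
  haveI : IsMonHom ((Over.pullback g).map i ≫ (inn σ).hom) := inferInstance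
  obtain ⟨c₀, hc₀⟩ := MTTorus.exists_factor_maximalTorus ((Over.pullback g).map i)
    (MaxTorusBC.isMaximalTorus_bc i hi g) (Borel.isTorus_bc_scheme T g hi.2.2.1)
    ((Over.pullback g).map i ≫ (inn σ).hom) fun Y a b => by
      obtain ⟨a, rfl⟩ := exists_toBC' g a
      obtain ⟨b, rfl⟩ := exists_toBC' g b
      obtain ⟨e, he⟩ := hσ Y
      rw [← Category.assoc, comp_inn, he, ← toBC_comp, ← toBC_comp, ← toBC_inv, ← toBC_mul, ← toBC_mul, ← toBC_mul,
        ← toBC_mul]
      refine congrArg (toBC g) ?_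
      have hab : (b ≫ i) * (a ≫ i) = (a ≫ i) * (b ≫ i) := by
        rw [← MonObj.mul_comp, ← MonObj.mul_comp, RedR1.mul_comm_torus hi.2.2.1]
      generalize hk : (e ≫ j) * (b ≫ i) * (e ≫ j)⁻¹ * (b ≫ i)⁻¹ = k
      have hk' : k * (a ≫ i) = (a ≫ i) * k := by
        rw [← hk]
        simpa only [Category.id_comp] using hcen _ b e _ (𝟙 _) (a ≫ i)
      have h3 : (e ≫ j) * (b ≫ i) * (e ≫ j)⁻¹ = k * (b ≫ i) := by rw [← hk, inv_mul_cancel_right]
      rw [h3, ← _root_.mul_assoc, ← hk', _root_.mul_assoc, _root_.mul_assoc, hab]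
  let X₀ := T ⊗ R
  let Y₀ : Over R.left := Over.mk (snd T R).left
  let ε : (Over.map g).obj Y₀ ≅ X₀ := Over.isoMk (Iso.refl _) (by
    show 𝟙 _ ≫ X₀.hom = (snd T R).left ≫ R.hom
    rw [Category.id_comp, Over.w (snd T R)])
  obtain ⟨w, hw⟩ := exists_toBC' g (toBC g (ε.hom ≫ fst T R) ≫ c₀)
  have he : (Over.map g).map (toUnit Y₀) ≫ (secIso R).hom = ε.hom ≫ snd T R := by
    apply Over.OverMorphism.ext
    show (toUnit Y₀).left ≫ 𝟙 _ = 𝟙 _ ≫ (snd T R).left
    rw [Category.comp_id, Category.id_comp]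
    exact (Category.comp_id _).symm.trans (Over.w (toUnit Y₀))
  refine commute_of_normalizes hT i j (isConnected_fibre_torus hR) (ε.inv ≫ w) ?_
  refine (cancel_epi ε.hom).1 (toBC_inj g ?_)
  rw [Category.assoc, Iso.hom_inv_id_assoc, toBC_comp, hw, Category.assoc, hc₀, ← Category.assoc, comp_inn, ← toBC_comp]
  simp only [MonObj.comp_mul, GrpObj.comp_inv, toBC_mul, toBC_inv, Category.assoc]
  have hs : toUnit Y₀ ≫ σ = toBC g (ε.hom ≫ snd T R ≫ j) := by
    show toUnit Y₀ ≫ toBC R.hom ((secIso R).hom ≫ j) = _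
    rw [← toBC_naturality, ← Category.assoc, he, Category.assoc]
  rw [hs]

end Groth.Agent.MTImage
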