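import Groth.Agent.MTImage.EtaleLocal

/-!
# Moving maximal tori into subgroups

Etale locally a maximal torus moves into a smooth subgroup containing a maximal torus on every geometric fibre.
-/

set_option autoImplicit false
set_option linter.style.haveILetI false
set_option backward.isDefEq.respectTransparency false
set_option maxHeartbeats 1000000
set_option synthInstance.maxHeartbeats 400000

universe u

noncomputable section

open CategoryTheory Limits MonoidalCategory CartesianMonoidalCategory MonObj GrpObj AlgebraicGeometry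
open scoped CategoryTheory.Obj

namespace Groth.Agent.MTImage

open Groth.Agent.MTBridge Groth.Agent.Chev

variable {S : Scheme.{u}}

/-- Geometric fibres of the subgroup contain maximal tori of the fibres of the group. -/
def GeomTorusIn {H G : Over S} [GrpObj H] [GrpObj G] (c : H ⟶ G) : Prop :=
  ∀ s : S, ∃ (R : Over (Spec (CommRingCat.of (AlgebraicClosure (S.residueField s))))) (_ : GrpObj R)
    (r : R ⟶ Red.bc (Red.geomPt s) H), IsMonHom r ∧ AGF.IsMaxTorus (r ≫ (Over.pullback (Red.geomPt s)).map c)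

/-- Etale locally a maximal torus of the group can be moved into such a subgroup. -/
theorem exists_subTorus_etale {T H G : Over S} [GrpObj T] [GrpObj H] [GrpObj G] [Smooth G.hom] [IsSeparated G.hom]
    [QuasiCompact G.hom] [Smooth H.hom] [QuasiCompact H.hom] (c : H ⟶ G) [IsMonHom c] [Mono c] (hc : GeomTorusIn c)
    (i : T ⟶ G) (hi : Red.IsMaximalTorus i) :
    ∃ (V : Scheme.{u}) (f : V ⟶ S), Etale f ∧ Surjective f ∧
      ∃ t : Red.bc f T ⟶ Red.bc f H, Red.IsMaximalTorus (t ≫ (Over.pullback f).map c) := by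
  haveI := hi.1; haveI := hi.2.1
  obtain ⟨X₀, j₀, hj₀, hsm, hX₀⟩ := exists_transporter_into T H G hi.2.2.1 i c
  haveI := hsm
  have hpt : ∀ s : S, ∃ (S' : Scheme.{u}) (e : S' ⟶ S), Etale e ∧ s ∈ Set.range e.base ∧
      Nonempty ((Over.map e).obj (𝟙_ (Over S')) ⟶ X₀) := fun s => by
    let ψ := Red.geomPt s
    obtain ⟨R, hRg, r, hrm, hrmax⟩ := hc s
    haveI := hrm
    haveI : Smooth (Red.bc ψ G).hom := inferInstanceAs (Smooth (pullback.snd G.hom ψ))
    haveI : QuasiCompact (Red.bc ψ G).hom := inferInstanceAs (QuasiCompact (pullback.snd G.hom ψ))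
    obtain ⟨g', φ, hφ⟩ := exists_conjBy_maxTori _ (Chev.MaxTorusBC.isMaxTorus_pt i hi ψ) _ hrmax
    have hφ' : ∀ {Y : Over _} (y : Y ⟶ Red.bc ψ T),
        (toUnit _ ≫ g') * (y ≫ (Over.pullback ψ).map i) * (toUnit _ ≫ g')⁻¹ =
          (y ≫ φ.hom ≫ r) ≫ (Over.pullback ψ).map c := fun {Y} y => by
      rw [Category.assoc, Category.assoc, ← hφ, MonObj.comp_mul,
        MonObj.comp_mul, GrpObj.comp_inv, ← Category.assoc, comp_toUnit]
    let e : Over.mk ψ ≅ (Over.map ψ).obj (𝟙_ _) := Over.isoMk (Iso.refl _) (by simp)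
    obtain ⟨z, -⟩ := (hX₀ _ (e.hom ≫ fromBC ψ g')).2 fun X p a => by
      let ε : (Over.map ψ).obj (Over.mk p.left) ≅ X := Over.isoMk (Iso.refl _) (by simpa using (Over.w p).symm)
      have hp : (Over.map ψ).map (toUnit (Over.mk p.left)) = ε.hom ≫ p ≫ e.hom := by
        apply Over.OverMorphism.ext
        simp [ε, e]
      have h := congrArg (fromBC ψ) (hφ' (toBC ψ (ε.hom ≫ a)))
      rw [fromBC_mul, fromBC_mul, fromBC_inv, fromBC_comp, fromBC_comp_map, fromBC_comp_map, fromBC_toBC, hp] at h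
      refine ⟨ε.inv ≫ fromBC ψ (toBC ψ (ε.hom ≫ a) ≫ φ.hom ≫ r), (cancel_epi ε.hom).1 ?_⟩
      simp only [MonObj.comp_mul, GrpObj.comp_inv, Category.assoc, Iso.hom_inv_id_assoc] at h ⊢
      exact h
    exact exists_etale_point s z
  choose P e he hmem hσ using hpt
  haveI := he
  let f : (∐ P) ⟶ S := Sigma.desc e
  have hf : Etale f := IsZariskiLocalAtSource.sigmaDesc (P := @Etale) he
  have hfs : Surjective f := ⟨fun s => by
    obtain ⟨x, hx⟩ := hmem s
    exact ⟨(Sigma.ι P s).base x, by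
      rw [← Scheme.Hom.comp_apply, Sigma.ι_desc]
      exact hx⟩⟩
  let σ : (Over.map f).obj (𝟙_ (Over (∐ P))) ⟶ X₀ :=
    Over.homMk (Sigma.desc fun s => (hσ s).some.left) (by
      refine Sigma.hom_ext _ _ fun s => ?_
      show Sigma.ι P s ≫ Sigma.desc _ ≫ X₀.hom = Sigma.ι P s ≫ 𝟙 _ ≫ Sigma.desc e
      rw [Category.id_comp, Sigma.ι_desc_assoc, Sigma.ι_desc]
      exact (Over.w (hσ s).some).trans (Category.id_comp _))
  have hcσ := (hX₀ _ (σ ≫ j₀)).1 ⟨σ, rfl⟩
  haveI : PreservesLimitsOfShape WalkingCospan (Over.pullback f) :=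
    (Adjunction.rightAdjoint_preservesLimits (Over.mapPullbackAdj f)).preservesLimitsOfShape
  let i' := (Over.pullback f).map i
  let d := (Over.pullback f).map c
  let g := toBC f (σ ≫ j₀)
  obtain ⟨t, ht⟩ : ∃ t : Red.bc f T ⟶ Red.bc f H, t ≫ d = i' ≫ (inn g).hom := by
    obtain ⟨a, ha⟩ := exists_toBC f (𝟙 (Red.bc f T))
    obtain ⟨b, hb⟩ := hcσ _ ((Over.map f).map (toUnit _)) a
    refine ⟨toBC f b, ?_⟩
    have h := congrArg (toBC f) hb
    rw [toBC_mul, toBC_mul, toBC_inv, toBC_precomp, toBC_comp f i a, toBC_comp f c b, ha, Category.id_comp] at h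
    rw [comp_inn, ← h]
  haveI : IsMonHom t := MTSplit.isMonHom_of_comp_mono t d (i' ≫ (inn g).hom) ht
  haveI : Mono (t ≫ d) := by rw [ht]; exact mono_comp _ _
  haveI : Mono t := mono_of_mono t d
  haveI : IsMonHom (Iso.refl (Red.bc f T)).hom := inferInstanceAs (IsMonHom (𝟙 _))
  have hmax : Red.IsMaximalTorus (t ≫ d) := isMaximalTorus_iso (Iso.refl _) (inn g) i' (t ≫ d)
    (by rw [Iso.refl_hom, Category.id_comp, ht]) (Chev.Borel.isTorus_bc_scheme T f hi.2.2.1)
    (Chev.MaxTorusBC.isMaximalTorus_bc i hi f)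
  exact ⟨∐ P, f, hf, hfs, t, hmax⟩

/-- The fibres are connected if the geometric fibres are. -/
theorem isConnected_fibre_of_geom {H : Over S} (hH : ∀ s : S, ConnectedSpace ↥(Red.geomFibre s H).left) (s : S) :
    _root_.IsConnected (H.hom.base ⁻¹' {s}) := by
  let a := Red.geomPt s
  haveI : ConnectedSpace ↥(pullback H.hom a) := hH s
  have hr : Set.range a = {s} := by
    refine Set.eq_singleton_iff_unique_mem.2 ⟨⟨IsLocalRing.closedPoint _, ?_⟩, ?_⟩
    · show (Spec.map _ ≫ S.fromSpecResidueField s) _ = s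
      rw [Scheme.Hom.comp_apply]; exact S.fromSpecResidueField_apply _ _
    · rintro _ ⟨z, rfl⟩
      show (Spec.map _ ≫ S.fromSpecResidueField s) _ = s
      rw [Scheme.Hom.comp_apply]; exact S.fromSpecResidueField_apply _ _
  have h : Set.range (pullback.fst H.hom a) = H.hom.base ⁻¹' {s} := by
    rw [Scheme.Pullback.range_fst, hr]
  rw [← h]
  exact isConnected_range (pullback.fst H.hom a).continuous

/-- Fibres containing Cartan subgroups contain maximal tori. -/
theorem geomTorusIn_of_cartan {H G : Over S} [GrpObj H] [GrpObj G] [LocallyOfFiniteType G.hom] [QuasiCompact G.hom]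
    (i : H ⟶ G) [IsMonHom i] [Mono i]
    (h : ∀ s : S, ∃ (C' : Over (Spec (CommRingCat.of (AlgebraicClosure (S.residueField s))))) (_ : GrpObj C')
      (c' : C' ⟶ Red.geomFibre s H), SGA3x.IsCartanOver _ (c' ≫ (Over.pullback (Red.geomPt s)).map i)) :
    GeomTorusIn i := fun s => by
  obtain ⟨C', hCg, c', -, -, T, hTg, t, ht, hC⟩ := h s
  haveI := ht.1
  haveI : LocallyOfFiniteType (Red.geomFibre s G).hom :=
    inferInstanceAs (LocallyOfFiniteType (pullback.snd G.hom (Red.geomPt s)))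
  haveI : QuasiCompact (Red.geomFibre s G).hom := inferInstanceAs (QuasiCompact (pullback.snd G.hom (Red.geomPt s)))
  haveI : PreservesLimitsOfShape WalkingCospan (Over.pullback (Red.geomPt s)) :=
    (Adjunction.rightAdjoint_preservesLimits (Over.mapPullbackAdj (Red.geomPt s))).preservesLimitsOfShape
  haveI : Mono ((Over.pullback (Red.geomPt s)).map i) := inferInstance
  obtain ⟨z, hz⟩ := (hC.2.2 T t).2 fun X x a => by
    rw [← MonObj.mul_comp, ← MonObj.mul_comp, RedR1.mul_comm_torus ht.2.2.1]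
  have e : (z ≫ c') ≫ (Over.pullback (Red.geomPt s)).map i = t := by rw [Category.assoc, hz]
  refine ⟨T, hTg, z ≫ c', MTSplit.isMonHom_of_comp_mono _ _ _ e, ?_⟩
  rw [e]
  exact Borel.isMaxTorus_of_isMaximalTorus _ ht

/-- Containing maximal tori on geometric fibres is stable under base change. -/
theorem geomTorusIn_bc {U : Scheme.{u}} {H G : Over S} [GrpObj H] [GrpObj G] [LocallyOfFiniteType G.hom]
    [QuasiCompact G.hom] (i : H ⟶ G) [IsMonHom i] (h : GeomTorusIn i) (f : U ⟶ S) :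
    GeomTorusIn ((Over.pullback f).map i) := fun x => by
  let ψ := Red.geomPt x ≫ f
  obtain ⟨τ, hτ⟩ := exists_lift_geomPt ψ
  obtain ⟨R, hRg, r, hrm, hr⟩ := h _
  haveI := hrm
  let a := Red.geomPt (ψ (IsLocalRing.closedPoint (AlgebraicClosure (U.residueField x))))
  haveI : LocallyOfFiniteType (Red.bc a G).hom := inferInstanceAs (LocallyOfFiniteType (pullback.snd G.hom a))
  haveI : QuasiCompact (Red.bc a G).hom := inferInstanceAs (QuasiCompact (pullback.snd G.hom a))
  haveI : LocallyOfFiniteType (Red.bc τ (Red.bc a G)).hom :=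
    inferInstanceAs (LocallyOfFiniteType (pullback.snd (Red.bc a G).hom τ))
  haveI : QuasiCompact (Red.bc τ (Red.bc a G)).hom :=
    inferInstanceAs (QuasiCompact (pullback.snd (Red.bc a G).hom τ))
  obtain ⟨eH, heH, hH'⟩ := MaxTorusBC.exists_trIso hτ H
  obtain ⟨eG, heG, hG'⟩ := MaxTorusBC.exists_trIso hτ G
  obtain ⟨fH, hfH, hH''⟩ := MaxTorusBC.exists_trIso (show Red.geomPt x ≫ f = ψ from rfl) H
  obtain ⟨fG, hfG, hG''⟩ := MaxTorusBC.exists_trIso (show Red.geomPt x ≫ f = ψ from rfl) G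
  haveI : IsMonHom eH.hom := hH'
  haveI : IsMonHom eG.hom := hG'
  haveI : IsMonHom fH.hom := hH''
  haveI : IsMonHom fG.hom := hG''
  haveI : IsMonHom eH.inv := inferInstance
  haveI : IsMonHom eG.inv := inferInstance
  let e : Red.bc τ (Red.bc a G) ≅ Red.bc (Red.geomPt x) (Red.bc f G) := eG.symm ≪≫ fG
  haveI : IsMonHom e.hom := inferInstanceAs (IsMonHom (eG.inv ≫ fG.hom))
  haveI : IsMonHom (Iso.refl (Red.bc τ R)).hom := inferInstanceAs (IsMonHom (𝟙 (Red.bc τ R)))
  have n1 : (Over.pullback ψ).map i ≫ eG.hom = eH.hom ≫ (Over.pullback τ).map ((Over.pullback a).map i) := by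
    rw [heH, heG, trIso_natural]
  have n2 : (Over.pullback ψ).map i ≫ fG.hom =
      fH.hom ≫ (Over.pullback (Red.geomPt x)).map ((Over.pullback f).map i) := by
    rw [hfH, hfG, trIso_natural]
  have n3 : eH.inv ≫ (Over.pullback ψ).map i = (Over.pullback τ).map ((Over.pullback a).map i) ≫ eG.inv := by
    rw [Iso.inv_comp_eq, ← Category.assoc, Iso.eq_comp_inv, n1]
  refine ⟨_, inferInstance, (Over.pullback τ).map r ≫ eH.inv ≫ fH.hom, inferInstance, ?_⟩
  refine MaxTorusBC.isMaxTorus_of_iso (Iso.refl _) e ((Over.pullback τ).map (r ≫ (Over.pullback a).map i)) _ ?_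
    (Borel.isTorus_bc_scheme R τ hr.2.2.1)
    (Borel.isMaxTorus_of_isMaximalTorus _
      (MaxTorusBC.isMaximalTorus_bc _ (Borel.isMaximalTorus_of_isMaxTorus _ hr) τ))
  show _ ≫ eG.inv ≫ fG.hom = 𝟙 _ ≫ _
  rw [Category.id_comp, Functor.map_comp]
  simp only [Category.assoc]
  rw [← n2, reassoc_of% n3]

end Groth.Agent.MTImage
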