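import Groth.Agent.MTImage.CartanField

/-!
# Families of Cartan subgroups

Invariance of the Cartan property under field extensions and openness of the locus where a smooth subgroup with
connected fibres is a Cartan subgroup.
-/

set_option autoImplicit false
set_option linter.style.haveILetI false
set_option backward.isDefEq.respectTransparency false
set_option maxHeartbeats 1000000
set_option synthInstance.maxHeartbeats 400000

universe u

noncomputable section

open CategoryTheory Limits MonoidalCategory CartesianMonoidalCategory MonObj GrpObj AlgebraicGeometry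
open scoped CategoryTheory.Obj

namespace Groth.Agent.MTImage

open Groth.Agent.MTBridge Groth.Agent.Chev Groth.Agent.Chev.MaxTorusExt

variable {S : Scheme.{u}} {k L : Type u} [Field k] [IsAlgClosed k] [Field L] [IsAlgClosed L]

/-- A nonempty scheme of finite type over an algebraically closed field has a rational point. -/
theorem exists_point_of_nonempty (M : Over (Spec (CommRingCat.of k))) [LocallyOfFiniteType M.hom] (h : Nonempty M.left) :
    Nonempty (𝟙_ (Over (Spec (CommRingCat.of k))) ⟶ M) := by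
  haveI := LocallyOfFiniteType.jacobsonSpace M.hom
  obtain ⟨p, -, hp⟩ := nonempty_inter_closedPoints (Set.univ_nonempty (α := M.left)) isOpen_univ.isLocallyClosed
  obtain ⟨z, -⟩ := SubGen.exists_rpt hp
  exact ⟨z⟩

/-- Cartan subgroups stay Cartan after an extension of fields. -/
theorem isCartanOver_bc {C G : Over (Spec (CommRingCat.of k))} [GrpObj C] [GrpObj G] [LocallyOfFiniteType G.hom]
    [QuasiCompact G.hom] (c : C ⟶ G) (hc : SGA3x.IsCartanOver k c)
    (τ : Spec (CommRingCat.of L) ⟶ Spec (CommRingCat.of k)) :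
    SGA3x.IsCartanOver L ((Over.pullback τ).map c) := by
  obtain ⟨hm, hmono, T, hTg, i, hi, hC⟩ := hc
  haveI := hi.1
  have h := CentBC.isCentralizerOf_bc τ i c hC
  exact ⟨h.1, h.2.1, Red.bc τ T, inferInstance, _, MaxTorusBC.isMaximalTorus_bc i hi τ, h⟩

/-- A conjugation over an extension as a point of the group. -/
theorem exists_geom_conj {U : Scheme.{u}} (ψ : U ⟶ S) {C H G : Over S} [GrpObj G] (c : C ⟶ G) (j : H ⟶ G)
    (g' : 𝟙_ (Over U) ⟶ Red.bc ψ G) (w : Red.bc ψ C ⟶ Red.bc ψ H)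
    (hw : (toUnit _ ≫ g') * (Over.pullback ψ).map c * (toUnit _ ≫ g')⁻¹ = w ≫ (Over.pullback ψ).map j) :
    ∃ g : Over.mk ψ ⟶ G, ∀ (X : Over S) (p : X ⟶ Over.mk ψ) (y : X ⟶ C),
      ∃ h : X ⟶ H, (p ≫ g) * (y ≫ c) * (p ≫ g)⁻¹ = h ≫ j := by
  let e : Over.mk ψ ≅ (Over.map ψ).obj (𝟙_ (Over U)) := Over.isoMk (Iso.refl _) (by simp)
  obtain ⟨g₀, hg₀⟩ := exists_toBC' ψ g'
  refine ⟨e.hom ≫ g₀, fun X p y => ?_⟩
  let ε : (Over.map ψ).obj (Over.mk p.left) ≅ X := Over.isoMk (Iso.refl _) (by simpa using (Over.w p).symm)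
  have hp : (Over.map ψ).map (toUnit (Over.mk p.left)) = ε.hom ≫ p ≫ e.hom := by
    apply Over.OverMorphism.ext
    simp [ε, e]
  obtain ⟨h₀, hh₀⟩ := exists_toBC' ψ (toBC ψ (ε.hom ≫ y) ≫ w)
  have h := congrArg (fun m => toBC ψ (ε.hom ≫ y) ≫ m) hw
  simp only [MonObj.comp_mul, GrpObj.comp_inv, ← Category.assoc, comp_toUnit] at h
  rw [← hh₀, ← hg₀, ← toBC_naturality, ← toBC_comp, ← toBC_comp, ← toBC_inv, ← toBC_mul, ← toBC_mul] at h
  have h' := toBC_inj ψ h
  rw [hp] at h'
  refine ⟨ε.inv ≫ h₀, (cancel_epi ε.hom).1 ?_⟩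
  simp only [MonObj.comp_mul, GrpObj.comp_inv, Category.assoc, Iso.hom_inv_id_assoc] at h' ⊢
  exact h'

/-- **The Cartan property descends along extensions of algebraically closed fields.** -/
theorem isCartanOver_descend {Z G : Over (Spec (CommRingCat.of k))} [GrpObj Z] [GrpObj G] [Smooth G.hom]
    [IsSeparated G.hom] [QuasiCompact G.hom] [ConnectedSpace G.left] [Smooth Z.hom] [QuasiCompact Z.hom]
    (z : Z ⟶ G) [IsMonHom z] [Mono z] (τ : Spec (CommRingCat.of L) ⟶ Spec (CommRingCat.of k))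
    (h : SGA3x.IsCartanOver L ((Over.pullback τ).map z)) : SGA3x.IsCartanOver k z := by
  obtain ⟨T, hTg, i, C, hCg, c, hi, hC, hCs, hCc, hcc, hc⟩ := exists_cartanOver G
  haveI := hc.1; haveI := hc.2.1; haveI := hcc; haveI := hCs; haveI := hCc
  haveI : Mono z.left := inferInstance
  haveI : IsSeparated Z.hom := by rw [← Over.w z]; infer_instance
  haveI : IsSeparated C.hom := by rw [← Over.w c]; infer_instance
  haveI : QuasiCompact C.hom := by rw [← Over.w c]; infer_instance
  haveI : Subsingleton ↥(Spec (CommRingCat.of k)) := inferInstanceAs (Subsingleton (PrimeSpectrum k))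
  have hC1 : ∀ s : Spec (CommRingCat.of k), _root_.IsConnected (C.hom.base ⁻¹' {s}) := fun s => by
    rw [show C.hom.base ⁻¹' {s} = Set.univ from Set.eq_univ_of_forall fun x => Subsingleton.elim _ _]
    exact isConnected_univ
  have hcart : SGA3x.IsCartan c := ⟨inferInstance, inferInstance, hCs, fun s => isCartanOver_bc c hc _⟩
  obtain ⟨M, m, hmc, hms, hM⟩ := exists_transporter_cartan c hcart hC1 z
  haveI := hms
  haveI : LocallyOfFiniteType (Red.bc τ G).hom := inferInstanceAs (LocallyOfFiniteType (pullback.snd G.hom τ))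
  haveI : QuasiCompact (Red.bc τ G).hom := inferInstanceAs (QuasiCompact (pullback.snd G.hom τ))
  haveI : Smooth (Red.bc τ G).hom := inferInstanceAs (Smooth (pullback.snd G.hom τ))
  obtain ⟨g', φ, hφ⟩ := exists_conj_cartan _ (isCartanOver_bc c hc τ) _ h
  obtain ⟨g₁, hg₁⟩ := exists_geom_conj τ c z g' φ.hom hφ
  obtain ⟨p, -⟩ := (hM _ g₁).2 fun X x y => hg₁ X x y
  obtain ⟨q⟩ := exists_point_of_nonempty M ⟨p.left (IsLocalRing.closedPoint L)⟩
  let g := q ≫ m
  obtain ⟨w, hw⟩ := (hM _ g).1 ⟨q, rfl⟩ C (toUnit C) (𝟙 C)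
  rw [Category.id_comp, ← comp_inn] at hw
  let c₁ := c ≫ (inn g).hom
  haveI : IsMonHom (Iso.refl C).hom := inferInstanceAs (IsMonHom (𝟙 C))
  have hc₁ : SGA3x.IsCartanOver k c₁ := isCartanOver_iso (Iso.refl C) (inn g) c c₁
    (by show _ = 𝟙 C ≫ _; rw [Category.id_comp]) hc
  haveI : IsIso ((Over.pullback τ).map w) := isIso_of_cartan_le _ (isCartanOver_bc c₁ hc₁ τ) _ h _ (by
    rw [← Functor.map_comp, ← hw])
  haveI : Subsingleton ↥(Spec (CommRingCat.of L)) := inferInstanceAs (Subsingleton (PrimeSpectrum L))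
  haveI : Surjective τ := ⟨fun x => ⟨IsLocalRing.closedPoint L, Subsingleton.elim _ _⟩⟩
  haveI : Flat τ := by
    obtain ⟨θ, rfl⟩ := Spec.map_surjective τ
    letI : Algebra k L := θ.hom.toAlgebra
    exact Flat.SpecMap_iff.2 (RingHom.flat_algebraMap_iff.2 (inferInstanceAs (Module.Flat k L)))
  haveI : QuasiCompact τ := inferInstance
  haveI : IsIso w := Borel.isIso_of_isIso_pullback τ w
  haveI : IsMonHom c₁ := hc₁.1
  haveI : IsMonHom w := MTSplit.isMonHom_of_comp_mono w z c₁ hw.symm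
  haveI : IsMonHom (asIso w).hom := inferInstanceAs (IsMonHom w)
  haveI : IsMonHom (Iso.refl G).hom := inferInstanceAs (IsMonHom (𝟙 G))
  exact isCartanOver_iso (asIso w) (Iso.refl G) c₁ z (by rw [Iso.refl_hom, Category.comp_id]; exact hw) hc₁

/-- The geometric fibres of a group with connected fibres are connected. -/
theorem connectedSpace_bc_pt (G : Over S) [GrpObj G] [LocallyOfFiniteType G.hom]
    (hconn : ∀ s : S, _root_.IsConnected (G.hom.base ⁻¹' {s})) (ψ : Spec (CommRingCat.of k) ⟶ S) :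
    ConnectedSpace ↥(Red.bc ψ G).left := by
  haveI : GeometricallyIrreducible G.hom := GrpField.geometricallyIrreducible_of_connected_fibres G hconn
  haveI : IrreducibleSpace ↥(pullback G.hom ψ) :=
    GeometricallyIrreducible.geometrically_irreducibleSpace _ _ _ (.of_hasPullback _ _)
  exact inferInstanceAs (ConnectedSpace ↥(pullback G.hom ψ))

/-- The Cartan property at compatible geometric points goes up. -/
theorem isCartanOver_map_of_comp {C G : Over S} [GrpObj C] [GrpObj G] [LocallyOfFiniteType G.hom]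
    [QuasiCompact G.hom] (c : C ⟶ G) [IsMonHom c] {ψ : Spec (CommRingCat.of k) ⟶ S}
    {φ : Spec (CommRingCat.of L) ⟶ S} {τ : Spec (CommRingCat.of L) ⟶ Spec (CommRingCat.of k)} (hτ : τ ≫ ψ = φ)
    (h : SGA3x.IsCartanOver k ((Over.pullback ψ).map c)) : SGA3x.IsCartanOver L ((Over.pullback φ).map c) := by
  haveI : LocallyOfFiniteType (Red.bc ψ G).hom := inferInstanceAs (LocallyOfFiniteType (pullback.snd G.hom ψ))
  haveI : QuasiCompact (Red.bc ψ G).hom := inferInstanceAs (QuasiCompact (pullback.snd G.hom ψ))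
  obtain ⟨eC, heC, hC'⟩ := MaxTorusBC.exists_trIso hτ C
  obtain ⟨eG, heG, hG'⟩ := MaxTorusBC.exists_trIso hτ G
  haveI : IsMonHom eC.hom := hC'
  haveI : IsMonHom eG.hom := hG'
  haveI : IsMonHom eC.symm.hom := inferInstanceAs (IsMonHom eC.inv)
  haveI : IsMonHom eG.symm.hom := inferInstanceAs (IsMonHom eG.inv)
  refine isCartanOver_iso eC.symm eG.symm _ _ ?_ (isCartanOver_bc _ h τ)
  show _ ≫ eG.inv = eC.inv ≫ _
  rw [Iso.eq_inv_comp, ← Category.assoc, Iso.comp_inv_eq, heC, heG, trIso_natural]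

/-- **The Cartan property does not depend on the geometric point.** -/
theorem isCartanOver_map_iff {C G : Over S} [GrpObj C] [GrpObj G] [Smooth G.hom] [IsSeparated G.hom]
    [QuasiCompact G.hom] (hconn : ∀ s : S, _root_.IsConnected (G.hom.base ⁻¹' {s})) [Smooth C.hom]
    [QuasiCompact C.hom] (c : C ⟶ G) [IsMonHom c] [Mono c] {ψ : Spec (CommRingCat.of k) ⟶ S}
    {φ : Spec (CommRingCat.of L) ⟶ S} {τ : Spec (CommRingCat.of L) ⟶ Spec (CommRingCat.of k)} (hτ : τ ≫ ψ = φ) :
    SGA3x.IsCartanOver k ((Over.pullback ψ).map c) ↔ SGA3x.IsCartanOver L ((Over.pullback φ).map c) := by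
  refine ⟨isCartanOver_map_of_comp c hτ, fun h => ?_⟩
  haveI : Smooth (Red.bc ψ G).hom := inferInstanceAs (Smooth (pullback.snd G.hom ψ))
  haveI : IsSeparated (Red.bc ψ G).hom := inferInstanceAs (IsSeparated (pullback.snd G.hom ψ))
  haveI : QuasiCompact (Red.bc ψ G).hom := inferInstanceAs (QuasiCompact (pullback.snd G.hom ψ))
  haveI : Smooth (Red.bc ψ C).hom := inferInstanceAs (Smooth (pullback.snd C.hom ψ))
  haveI : QuasiCompact (Red.bc ψ C).hom := inferInstanceAs (QuasiCompact (pullback.snd C.hom ψ))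
  haveI : ConnectedSpace ↥(Red.bc ψ G).left := connectedSpace_bc_pt G hconn ψ
  haveI : PreservesLimitsOfShape WalkingCospan (Over.pullback ψ) :=
    (Adjunction.rightAdjoint_preservesLimits (Over.mapPullbackAdj ψ)).preservesLimitsOfShape
  haveI : Mono ((Over.pullback ψ).map c) := inferInstance
  obtain ⟨eC, heC, hC'⟩ := MaxTorusBC.exists_trIso hτ C
  obtain ⟨eG, heG, hG'⟩ := MaxTorusBC.exists_trIso hτ G
  haveI : IsMonHom eC.hom := hC'
  haveI : IsMonHom eG.hom := hG'
  exact isCartanOver_descend _ τ (isCartanOver_iso eC eG _ _ (by rw [heC, heG, trIso_natural]) h)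

/-- The Cartan property at any point over `s` is the one at the geometric point. -/
theorem isCartanOver_geomPt_iff {C G : Over S} [GrpObj C] [GrpObj G] [Smooth G.hom] [IsSeparated G.hom]
    [QuasiCompact G.hom] (hconn : ∀ s : S, _root_.IsConnected (G.hom.base ⁻¹' {s})) [Smooth C.hom]
    [QuasiCompact C.hom] (c : C ⟶ G) [IsMonHom c] [Mono c] (φ : Spec (CommRingCat.of L) ⟶ S) {t : S}
    (ht : φ (IsLocalRing.closedPoint L) = t) :
    SGA3x.IsCartanOver _ ((Over.pullback (Red.geomPt t)).map c) ↔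
      SGA3x.IsCartanOver L ((Over.pullback φ).map c) := by
  subst ht
  obtain ⟨τ, hτ⟩ := exists_lift_geomPt φ
  exact isCartanOver_map_iff hconn c hτ

/-- The Cartan property of a base change at a point. -/
theorem isCartanOver_map_map_iff {U : Scheme.{u}} {C G : Over S} [GrpObj C] [GrpObj G] (c : C ⟶ G) (f : U ⟶ S)
    (ψ : Spec (CommRingCat.of k) ⟶ U) :
    SGA3x.IsCartanOver k ((Over.pullback ψ).map ((Over.pullback f).map c)) ↔
      SGA3x.IsCartanOver k ((Over.pullback (ψ ≫ f)).map c) := by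
  obtain ⟨eC, heC, hC'⟩ := MaxTorusBC.exists_trIso (show ψ ≫ f = ψ ≫ f from rfl) C
  obtain ⟨eG, heG, hG''⟩ := MaxTorusBC.exists_trIso (show ψ ≫ f = ψ ≫ f from rfl) G
  haveI : IsMonHom eC.hom := hC'
  haveI : IsMonHom eG.hom := hG''
  haveI : IsMonHom eC.symm.hom := inferInstanceAs (IsMonHom eC.inv)
  haveI : IsMonHom eG.symm.hom := inferInstanceAs (IsMonHom eG.inv)
  have hn : (Over.pullback (ψ ≫ f)).map c ≫ eG.hom = eC.hom ≫ (Over.pullback ψ).map ((Over.pullback f).map c) := by
    rw [heC, heG, trIso_natural]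
  refine ⟨isCartanOver_iso eC.symm eG.symm _ _ ?_, isCartanOver_iso eC eG _ _ hn⟩
  show _ ≫ eG.inv = eC.inv ≫ _
  rw [Iso.eq_inv_comp, ← Category.assoc, Iso.comp_inv_eq, hn]

/-- A subgroup which is Cartan over the image of `f` pulls back to a Cartan subgroup. -/
theorem isCartan_of_pts {U : Scheme.{u}} {C G : Over S} [GrpObj C] [GrpObj G] [Smooth C.hom]
    [LocallyOfFiniteType G.hom] [QuasiCompact G.hom] (c : C ⟶ G) [IsMonHom c] [Mono c] (f : U ⟶ S)
    (h : ∀ u : U, SGA3x.IsCartanOver (AlgebraicClosure (S.residueField (f u)))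
      ((Over.pullback (Red.geomPt (f u))).map c)) : SGA3x.IsCartan ((Over.pullback f).map c) := by
  haveI : PreservesLimitsOfShape WalkingCospan (Over.pullback f) :=
    (Adjunction.rightAdjoint_preservesLimits (Over.mapPullbackAdj f)).preservesLimitsOfShape
  refine ⟨inferInstance, inferInstance, inferInstanceAs (Smooth (pullback.snd C.hom f)), fun u => ?_⟩
  rw [isCartanOver_map_map_iff]
  obtain ⟨τ, hτ⟩ := exists_lift_geomPt (Red.geomPt u ≫ f)
  refine isCartanOver_map_of_comp c hτ ?_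
  have hu : (Red.geomPt u ≫ f) (IsLocalRing.closedPoint (AlgebraicClosure (U.residueField u))) = f u := by
    rw [Scheme.Hom.comp_apply]
    refine congrArg f ?_
    show (Spec.map _ ≫ U.fromSpecResidueField u) _ = u
    rw [Scheme.Hom.comp_apply]
    exact U.fromSpecResidueField_apply _ _
  rw [hu]
  exact h u

/-- A point conjugating into a subgroup gives a map of the families over it. -/
theorem exists_conj_family {C H G X : Over S} [GrpObj C] [GrpObj H] [GrpObj G] (c : C ⟶ G) [IsMonHom c] [Mono c]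
    (j : H ⟶ G) [IsMonHom j] [Mono j] (g : X ⟶ G)
    (h : ∀ (X' : Over S) (x : X' ⟶ X) (y : X' ⟶ C), ∃ b : X' ⟶ H, (x ≫ g) * (y ≫ c) * (x ≫ g)⁻¹ = b ≫ j) :
    ∃ w : Red.bc X.hom C ⟶ Red.bc X.hom H, IsMonHom w ∧ Mono w ∧
      w ≫ (Over.pullback X.hom).map j = (Over.pullback X.hom).map c ≫ (inn (sec g)).hom := by
  let f := X.hom
  haveI : PreservesLimitsOfShape WalkingCospan (Over.pullback f) :=
    (Adjunction.rightAdjoint_preservesLimits (Over.mapPullbackAdj f)).preservesLimitsOfShape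
  obtain ⟨a, ha⟩ := exists_toBC' f (𝟙 (Red.bc f C))
  obtain ⟨w₀, hw₀⟩ := h _ ((Over.map f).map (toUnit (Red.bc f C)) ≫ (secIso X).hom) a
  have hw : toBC f w₀ ≫ (Over.pullback f).map j = (Over.pullback f).map c ≫ (inn (sec g)).hom := by
    rw [comp_inn, ← toBC_comp, ← hw₀, ← Category.id_comp ((Over.pullback f).map c), ← ha, ← toBC_comp, sec,
      ← toBC_naturality, ← toBC_inv, ← toBC_mul, ← toBC_mul, Category.assoc]
  haveI : IsMonHom ((Over.pullback f).map c ≫ (inn (sec g)).hom) := inferInstance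
  haveI : Mono ((Over.pullback f).map c ≫ (inn (sec g)).hom) := mono_comp _ _
  haveI : Mono ((Over.pullback f).map j) := inferInstance
  refine ⟨toBC f w₀, MTSplit.isMonHom_of_comp_mono _ _ _ hw, ?_, hw⟩
  haveI : Mono (toBC f w₀ ≫ (Over.pullback f).map j) := by rw [hw]; infer_instance
  exact mono_of_mono _ ((Over.pullback f).map j)

/-- **Near a Cartan fibre a smooth subgroup with connected fibres is a Cartan subgroup**, if the group has one. -/
theorem exists_nhd_cartan {G C Z : Over S} [GrpObj G] [GrpObj C] [GrpObj Z] [Smooth G.hom] [IsSeparated G.hom]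
    [QuasiCompact G.hom] (hconn : ∀ s : S, _root_.IsConnected (G.hom.base ⁻¹' {s})) (c : C ⟶ G)
    (hc : SGA3x.IsCartan c) [Smooth Z.hom] (hZ : ∀ s : S, _root_.IsConnected (Z.hom.base ⁻¹' {s})) (z : Z ⟶ G)
    [IsMonHom z] [Mono z] (s : S) (hs : SGA3x.IsCartanOver _ ((Over.pullback (Red.geomPt s)).map z)) :
    ∃ U : S.Opens, s ∈ U ∧
      ∀ t ∈ U, SGA3x.IsCartanOver (AlgebraicClosure (S.residueField t)) ((Over.pullback (Red.geomPt t)).map z) := by
  haveI := hc.1; haveI := hc.2.1; haveI : Smooth C.hom := hc.2.2.1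
  have hC : ∀ s : S, _root_.IsConnected (C.hom.base ⁻¹' {s}) := isConnected_fibre_cartan hconn c hc
  haveI : QuasiCompact C.hom := Groth.Agent.S5324.result S C (fun _ =>
    MorphismProperty.pullback_snd _ _ (inferInstanceAs (LocallyOfFiniteType C.hom))) hC
  haveI : QuasiCompact Z.hom := Groth.Agent.S5324.result S Z (fun _ =>
    MorphismProperty.pullback_snd _ _ (inferInstanceAs (LocallyOfFiniteType Z.hom))) hZ
  haveI : Mono c.left := inferInstance
  haveI : Mono z.left := inferInstance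
  haveI : IsSeparated C.hom := by rw [← Over.w c]; infer_instance
  haveI : IsSeparated Z.hom := by rw [← Over.w z]; infer_instance
  obtain ⟨M, m, hmc, hms, hM⟩ := exists_transporter_cartan c hc hC z
  haveI := hms
  let a := Red.geomPt s
  haveI : Smooth (Red.bc a G).hom := inferInstanceAs (Smooth (pullback.snd G.hom a))
  haveI : QuasiCompact (Red.bc a G).hom := inferInstanceAs (QuasiCompact (pullback.snd G.hom a))
  obtain ⟨g', φ, hφ⟩ := exists_conj_cartan _ (hc.2.2.2 s) _ hs
  obtain ⟨g₁, hg₁⟩ := exists_geom_conj a c z g' φ.hom hφ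
  obtain ⟨p, -⟩ := (hM _ g₁).2 fun X x y => hg₁ X x y
  let u₀ : M.left := p.left (IsLocalRing.closedPoint (AlgebraicClosure (S.residueField s)))
  have hu₀ : M.hom u₀ = s := by
    rw [← Scheme.Hom.comp_apply, Over.w p]
    show (Spec.map _ ≫ S.fromSpecResidueField s) _ = s
    rw [Scheme.Hom.comp_apply]
    exact S.fromSpecResidueField_apply _ _
  let f := M.hom
  obtain ⟨w, hwm, hwmono, hw⟩ := exists_conj_family c z m ((hM M m).1 ⟨𝟙 M, Category.id_comp m⟩)
  haveI := hwm; haveI := hwmono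
  haveI : PreservesLimitsOfShape WalkingCospan (Over.pullback f) :=
    (Adjunction.rightAdjoint_preservesLimits (Over.mapPullbackAdj f)).preservesLimitsOfShape
  haveI : Smooth (Red.bc f G).hom := inferInstanceAs (Smooth (pullback.snd G.hom f))
  haveI : IsSeparated (Red.bc f G).hom := inferInstanceAs (IsSeparated (pullback.snd G.hom f))
  haveI : QuasiCompact (Red.bc f G).hom := inferInstanceAs (QuasiCompact (pullback.snd G.hom f))
  haveI : Smooth (Red.bc f C).hom := inferInstanceAs (Smooth (pullback.snd C.hom f))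
  haveI : QuasiCompact (Red.bc f C).hom := inferInstanceAs (QuasiCompact (pullback.snd C.hom f))
  haveI : Smooth (Red.bc f Z).hom := inferInstanceAs (Smooth (pullback.snd Z.hom f))
  haveI : QuasiCompact (Red.bc f Z).hom := inferInstanceAs (QuasiCompact (pullback.snd Z.hom f))
  haveI : IsSeparated (Red.bc f Z).hom := inferInstanceAs (IsSeparated (pullback.snd Z.hom f))
  have hG' := isConnected_fibre_bc G hconn f
  let c' := (Over.pullback f).map c
  let z' := (Over.pullback f).map z
  haveI : IsMonHom z' := inferInstanceAs (IsMonHom ((Over.pullback f).map z))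
  haveI : Mono z' := inferInstanceAs (Mono ((Over.pullback f).map z))
  have hc' : SGA3x.IsCartan c' := isCartan_bc c hc f
  -- the conjugate family is a Cartan subgroup
  have hc₁ : ∀ {K : Type u} [Field K] [IsAlgClosed K] (ψ : Spec (CommRingCat.of K) ⟶ M.left),
      SGA3x.IsCartanOver K ((Over.pullback ψ).map (c' ≫ (inn (sec m)).hom)) := fun {K} _ _ ψ => by
    haveI := hc'.1
    obtain ⟨τ, hτ⟩ := exists_lift_geomPt ψ
    have h1 := isCartanOver_map_of_comp c' hτ (hc'.2.2.2 _)
    haveI : IsMonHom ((Over.pullback ψ).mapIso (inn (sec m))).hom :=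
      inferInstanceAs (IsMonHom ((Over.pullback ψ).map (inn (sec m)).hom))
    haveI : IsMonHom (Iso.refl ((Over.pullback ψ).obj (Red.bc f C))).hom :=
      inferInstanceAs (IsMonHom (𝟙 _))
    exact isCartanOver_iso (Iso.refl _) ((Over.pullback ψ).mapIso (inn (sec m))) _ _
      (by rw [Iso.refl_hom, Category.id_comp, Functor.mapIso_hom, ← Functor.map_comp]) h1
  -- it is all of `Z` at `u₀`
  have hiso : IsIso ((Over.pullback (Red.geomPt u₀)).map w).left := by
    haveI : LocallyOfFiniteType (Red.bc (Red.geomPt u₀) (Red.bc f G)).hom :=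
      inferInstanceAs (LocallyOfFiniteType (pullback.snd (Red.bc f G).hom _))
    haveI : QuasiCompact (Red.bc (Red.geomPt u₀) (Red.bc f G)).hom :=
      inferInstanceAs (QuasiCompact (pullback.snd (Red.bc f G).hom _))
    obtain ⟨τ, hτ⟩ := exists_lift_geomPt (Red.geomPt u₀ ≫ f)
    have hs' : SGA3x.IsCartanOver _ ((Over.pullback (Red.geomPt u₀ ≫ f)).map z) := by
      refine (isCartanOver_geomPt_iff hconn z (Red.geomPt u₀ ≫ f) ?_).1 hs
      rw [Scheme.Hom.comp_apply]
      refine (congrArg f ?_).trans hu₀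
      show (Spec.map _ ≫ M.left.fromSpecResidueField u₀) _ = u₀
      rw [Scheme.Hom.comp_apply]
      exact M.left.fromSpecResidueField_apply _ _
    obtain ⟨eC, heC, hC'⟩ := MaxTorusBC.exists_trIso (show Red.geomPt u₀ ≫ f = Red.geomPt u₀ ≫ f from rfl) Z
    obtain ⟨eG, heG, hG''⟩ := MaxTorusBC.exists_trIso (show Red.geomPt u₀ ≫ f = Red.geomPt u₀ ≫ f from rfl) G
    haveI : IsMonHom eC.hom := hC'
    haveI : IsMonHom eG.hom := hG''
    have hz' : SGA3x.IsCartanOver _ ((Over.pullback (Red.geomPt u₀)).map z') :=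
      isCartanOver_iso eC eG _ _ (by rw [heC, heG, trIso_natural]) hs'
    haveI : IsIso ((Over.pullback (Red.geomPt u₀)).map w) :=
      isIso_of_cartan_le _ (hc₁ (Red.geomPt u₀)) _ hz' _ (by rw [← Functor.map_comp]; exact congrArg _ hw)
    exact ((Over.forget _).mapIso (asIso ((Over.pullback (Red.geomPt u₀)).map w))).isIso_hom
  obtain ⟨U, hu₀U, hU⟩ := exists_nhd_iso_of_geom w (isConnected_fibre_bc C hC f) (isConnected_fibre_bc Z hZ f) u₀ hiso
  haveI := hU
  refine ⟨⟨f '' U, f.isOpenMap _ U.2⟩, ⟨u₀, hu₀U, hu₀⟩, ?_⟩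
  rintro t ⟨u, huU, rfl⟩
  let ψ := Red.geomPt u
  have hψu : ψ (IsLocalRing.closedPoint (AlgebraicClosure (M.left.residueField u))) = u := by
    show (Spec.map _ ≫ M.left.fromSpecResidueField u) _ = u
    rw [Scheme.Hom.comp_apply]
    exact M.left.fromSpecResidueField_apply _ _
  have hr : Set.range ψ ⊆ Set.range U.ι := by
    rintro _ ⟨y, rfl⟩
    rw [U.range_ι, Subsingleton.elim (α := PrimeSpectrum _) y (IsLocalRing.closedPoint _), hψu]
    exact huU
  let ψ' := IsOpenImmersion.lift U.ι ψ hr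
  haveI : IsIso ((Over.pullback ψ).map w) := by
    haveI : IsIso ((Over.pullback ψ).map w).left := by
      rw [isIso_map_iff w (show ψ' ≫ U.ι = ψ from IsOpenImmersion.lift_fac _ _ _)]
      exact ((Over.forget _).mapIso (asIso ((Over.pullback ψ').map ((Over.pullback U.ι).map w)))).isIso_hom
    exact (isIso_iff_of_reflects_iso ((Over.pullback ψ).map w) (Over.forget _)).1 ‹_›
  haveI : IsMonHom (asIso ((Over.pullback ψ).map w)).hom := inferInstanceAs (IsMonHom ((Over.pullback ψ).map w))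
  haveI : IsMonHom (Iso.refl (Red.bc ψ (Red.bc f G))).hom := inferInstanceAs (IsMonHom (𝟙 _))
  have hz' : SGA3x.IsCartanOver _ ((Over.pullback ψ).map z') :=
    isCartanOver_iso (asIso ((Over.pullback ψ).map w)) (Iso.refl _) _ _
      (by rw [Iso.refl_hom, Category.comp_id, asIso_hom, ← Functor.map_comp]; exact congrArg _ hw.symm) (hc₁ ψ)
  refine (isCartanOver_geomPt_iff hconn z (ψ ≫ f) (by rw [Scheme.Hom.comp_apply, hψu])).2 ?_
  obtain ⟨eC, heC, hC'⟩ := MaxTorusBC.exists_trIso (show ψ ≫ f = ψ ≫ f from rfl) Z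
  obtain ⟨eG, heG, hG''⟩ := MaxTorusBC.exists_trIso (show ψ ≫ f = ψ ≫ f from rfl) G
  haveI : IsMonHom eC.hom := hC'
  haveI : IsMonHom eG.hom := hG''
  haveI : IsMonHom eC.symm.hom := inferInstanceAs (IsMonHom eC.inv)
  haveI : IsMonHom eG.symm.hom := inferInstanceAs (IsMonHom eG.inv)
  refine isCartanOver_iso eC.symm eG.symm _ _ ?_ hz'
  show _ ≫ eG.inv = eC.inv ≫ _
  rw [Iso.eq_inv_comp, ← Category.assoc, Iso.comp_inv_eq, heC, heG, trIso_natural]

end Groth.Agent.MTImage
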