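import Groth.Agent.MTImage.TorsionTuple
import Groth.Agent.MTImage.TorsionDense
import Groth.Agent.MTImage.NhdIso
import Groth.Agent.MTImage.EtaleLocal
import Groth.Agent.MTImage.SubTorus
import Groth.Agent.GrpField.Kernel

/-!
# Cartan subgroups as centralizers of torsion points

Smooth locally on the base a Cartan subgroup with connected fibres is the neutral component of the centralizer of
finitely many of its central torsion sections.
-/

set_option autoImplicit false
set_option linter.style.haveILetI false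
set_option backward.isDefEq.respectTransparency false
set_option maxHeartbeats 1000000
set_option synthInstance.maxHeartbeats 400000

universe u

noncomputable section

open CategoryTheory Limits MonoidalCategory CartesianMonoidalCategory MonObj GrpObj AlgebraicGeometry
open scoped CategoryTheory.Obj

namespace Groth.Agent.MTImage

open Groth.Agent.MTBridge Groth.Agent.Chev Groth.Agent.Chev.MaxTorusExt

variable {S : Scheme.{u}}

/-- A homomorphism from a group with connected fibres lands in every open subgroup. -/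
theorem exists_factor_connected {K Z C : Over S} [GrpObj K] [GrpObj Z] [GrpObj C] [LocallyOfFiniteType Z.hom]
    (w : K ⟶ Z) [IsMonHom w] (c₀ : C ⟶ Z) [IsMonHom c₀] [IsOpenImmersion c₀.left]
    (hK : ∀ s : S, _root_.IsConnected (K.hom.base ⁻¹' {s})) : ∃ k₀ : K ⟶ C, k₀ ≫ c₀ = w := by
  have hr : Set.range w.left ⊆ Set.range c₀.left := by
    rintro _ ⟨y, rfl⟩
    let t := K.hom y
    let a := S.fromSpecResidueField t
    haveI : GrpField.PointBase (Spec (S.residueField t)) :=
      inferInstanceAs (GrpField.PointBase (Spec (CommRingCat.of (S.residueField t))))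
    haveI : LocallyOfFiniteType (Red.bc a Z).hom := inferInstanceAs (LocallyOfFiniteType (pullback.snd Z.hom a))
    haveI : IsOpenImmersion ((Over.pullback a).map c₀).left :=
      MorphismProperty.of_isPullback (P := @IsOpenImmersion) (isPullback_map c₀ a) ‹IsOpenImmersion c₀.left›
    let c' := (Over.pullback a).map c₀
    let w' := (Over.pullback a).map w
    haveI : IsMonHom c' := inferInstanceAs (IsMonHom ((Over.pullback a).map c₀))
    haveI : IsMonHom w' := inferInstanceAs (IsMonHom ((Over.pullback a).map w))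
    have hclopen : IsClopen (Set.range c'.left) :=
      ⟨(GrpField.isSubgroupSet_range c').isClosed_of_isOpen c'.left.isOpenEmbedding.isOpen_range,
        c'.left.isOpenEmbedding.isOpen_range⟩
    haveI : ConnectedSpace ↥(Red.bc a K).left := by
      haveI : ConnectedSpace ↥(K.hom ⁻¹' {t}) := isConnected_iff_connectedSpace.1 (hK t)
      exact (K.hom.fiberHomeo t).symm.surjective.connectedSpace (K.hom.fiberHomeo t).symm.continuous
    have hsub : Set.range w'.left ⊆ Set.range c'.left := by
      refine (isPreconnected_range w'.left.continuous).subset_isClopen hclopen ?_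
      refine ⟨η[Red.bc a Z].left (IsLocalRing.closedPoint _), ?_, ?_⟩
      · refine ⟨η[Red.bc a K].left (IsLocalRing.closedPoint _), ?_⟩
        rw [← IsMonHom.one_hom (f := w')]
        rfl
      · refine ⟨η[Red.bc a C].left (IsLocalRing.closedPoint _), ?_⟩
        rw [← IsMonHom.one_hom (f := c')]
        rfl
    obtain ⟨z, hz⟩ := hsub ⟨(K.hom.fiberHomeo t).symm ⟨y, rfl⟩, rfl⟩
    refine ⟨pullback.fst C.hom a z, ?_⟩
    refine (congrArg (fun m => m z) (isPullback_map c₀ a).w).trans ?_
    refine (congrArg (pullback.fst Z.hom a) hz).trans ?_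
    refine (congrArg (fun m => m ((K.hom.fiberHomeo t).symm ⟨y, rfl⟩)) (isPullback_map w a).w).symm.trans ?_
    exact congrArg w.left (congrArg Subtype.val ((K.hom.fiberHomeo t).apply_symm_apply ⟨y, rfl⟩))
  exact ⟨Over.homMk (IsOpenImmersion.lift c₀.left w.left hr) (by
    show _ ≫ C.hom = _
    rw [← Over.w c₀, IsOpenImmersion.lift_fac_assoc, Over.w]),
    Over.OverMorphism.ext (IsOpenImmersion.lift_fac _ _ _)⟩

/-- Isomorphy at a point with values in a field is isomorphy on the geometric fibre. -/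
theorem isIso_geom_of_pt {A B : Over S} (w : A ⟶ B) {K : Type u} [Field K] [IsAlgClosed K]
    (ψ : Spec (CommRingCat.of K) ⟶ S) (h : IsIso ((Over.pullback ψ).map w).left) :
    IsIso ((Over.pullback (Red.geomPt (ψ (IsLocalRing.closedPoint K)))).map w).left := by
  let s := ψ (IsLocalRing.closedPoint K)
  let k := AlgebraicClosure (S.residueField s)
  obtain ⟨τ, hτ⟩ := exists_lift_geomPt ψ
  rw [isIso_map_iff w hτ] at h
  obtain ⟨θ, hθ⟩ := Spec.map_surjective τ
  letI : Algebra k K := θ.hom.toAlgebra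
  have hτ' : τ = Spec.map (CommRingCat.ofHom (algebraMap k K)) := by rw [← hθ]; rfl
  haveI : Surjective τ := ⟨fun y => ⟨IsLocalRing.closedPoint K, Subsingleton.elim (α := PrimeSpectrum k) _ _⟩⟩
  haveI : Flat τ := by
    rw [hτ']
    exact Flat.SpecMap_iff.2 (RingHom.flat_algebraMap_iff.2 (inferInstanceAs (Module.Flat k K)))
  haveI : QuasiCompact τ := inferInstance
  let B' := Red.bc (Red.geomPt s) B
  haveI : Surjective (pullback.fst B'.hom τ) := MorphismProperty.pullback_fst _ _ ‹_›
  haveI : Flat (pullback.fst B'.hom τ) := MorphismProperty.pullback_fst _ _ ‹_›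
  haveI : QuasiCompact (pullback.fst B'.hom τ) := MorphismProperty.pullback_fst _ _ ‹_›
  exact MorphismProperty.of_isPullback_of_descendsAlong (P := MorphismProperty.isomorphisms Scheme.{u})
    (Q := @Surjective ⊓ @Flat ⊓ @QuasiCompact) (isPullback_map ((Over.pullback (Red.geomPt s)).map w) τ).flip
    ⟨⟨inferInstance, inferInstance⟩, inferInstance⟩ h

/-- A section of a subgroup and a central factorization: the property of a central family. -/
def IsCentralFam {P C : Over S} [GrpObj C] (g : P ⟶ C) : Prop :=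
  ∀ (X : Over S) (z : X ⟶ P) (y : X ⟶ C), (z ≫ g) * y = y * (z ≫ g)

theorem isCentralFam_comp {P P' C : Over S} [GrpObj C] {g : P ⟶ C} (h : IsCentralFam g) (f : P' ⟶ P) :
    IsCentralFam (f ≫ g) := fun X z y => by
  rw [← Category.assoc]; exact h X _ y

/-- Central torsion points lift to central torsion sections over a smooth base. -/
theorem exists_central_torsion (l : ℕ) (hl : l = 2 ∨ l = 3) (m : ℕ) {C : Over S} [GrpObj C] [Smooth C.hom]
    [IsSeparated C.hom] [QuasiCompact C.hom] (hu : IsUnit (l : Γ(S, ⊤)))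
    (hC : ∀ s : S, _root_.IsConnected (C.hom.base ⁻¹' {s})) {K : Type u} [Field K] [IsAlgClosed K]
    {x : Spec (CommRingCat.of K) ⟶ S} (a : Over.mk x ⟶ C) (ha : a ^ (l ^ m) = 1)
    (hac : ∀ b : Over.mk x ⟶ C, a * b = b * a) :
    ∃ (P : Over S) (p : Over.mk x ⟶ P) (g : P ⟶ C), Smooth P.hom ∧ g ^ (l ^ m) = 1 ∧ p ≫ g = a ∧
      IsCentralFam g := by
  have hlpos : 0 < l := by rcases hl with rfl | rfl <;> norm_num
  obtain ⟨T, g, hT, hg, huniv⟩ := exists_torsion_scheme l hl m C hu
  haveI := hT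
  obtain ⟨p, hp⟩ := huniv _ a ha
  let CT := Red.bc T.hom C
  haveI : Smooth CT.hom := inferInstanceAs (Smooth (pullback.snd C.hom T.hom))
  haveI : IsSeparated CT.hom := inferInstanceAs (IsSeparated (pullback.snd C.hom T.hom))
  haveI : QuasiCompact CT.hom := inferInstanceAs (QuasiCompact (pullback.snd C.hom T.hom))
  have hCT : ∀ t : T.left, _root_.IsConnected (CT.hom.base ⁻¹' {t}) := fun t => by
    haveI : GeometricallyIrreducible C.hom := GrpField.geometricallyIrreducible_of_connected_fibres C hC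
    haveI : GeometricallyIrreducible CT.hom := inferInstanceAs (GeometricallyIrreducible (pullback.snd C.hom T.hom))
    haveI : ConnectedSpace ↥(CT.hom.fiber t) := inferInstance
    exact isConnected_iff_connectedSpace.2
      ((CT.hom.fiberHomeo t).surjective.connectedSpace (CT.hom.fiberHomeo t).continuous)
  obtain ⟨Z, hZg, i, him, hic, hZs, hZq, hZsep, hZ⟩ := exists_centralizer_section (sec g) (l ^ m)
    (pow_pos hlpos m) (by rw [← sec_pow, hg, sec_one])
    (by rw [Nat.cast_pow]; exact (isUnit_natCast T.hom l hu).pow m)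
  haveI := him; haveI := hic; haveI := hZs; haveI := hZq; haveI := hZsep
  obtain ⟨-, Z₀, hZ₀g, c₀, hc₀m, hc₀o, hc₀r, hZ₀s, hZ₀q⟩ := Groth.Agent.S4098.result T.left Z
    ⟨⊤, by infer_instance, fun _ => trivial⟩
  haveI := hc₀m; haveI := hc₀o; haveI := hZ₀s; haveI := hZ₀q
  haveI : Mono i.left := inferInstance
  haveI : Mono i := Over.mono_of_mono_left i
  haveI : Mono c₀.left := inferInstance
  haveI : Mono c₀ := Over.mono_of_mono_left c₀
  haveI : Mono (c₀ ≫ i) := mono_comp _ _
  let τ : Spec (CommRingCat.of K) ⟶ T.left := p.left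
  have hfib : IsIso ((Over.pullback τ).map (c₀ ≫ i)).left := by
    haveI : PreservesLimitsOfShape WalkingCospan (Over.pullback τ) :=
      (Adjunction.rightAdjoint_preservesLimits (Over.mapPullbackAdj τ)).preservesLimitsOfShape
    haveI : Smooth (Red.bc τ CT).hom := inferInstanceAs (Smooth (pullback.snd CT.hom τ))
    haveI : LocallyOfFiniteType (Red.bc τ Z).hom := inferInstanceAs (LocallyOfFiniteType (pullback.snd Z.hom τ))
    haveI : IsClosedImmersion ((Over.pullback τ).map i).left :=
      MorphismProperty.of_isPullback (P := @IsClosedImmersion) (isPullback_map i τ) hic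
    haveI : IsOpenImmersion ((Over.pullback τ).map c₀).left :=
      MorphismProperty.of_isPullback (P := @IsOpenImmersion) (isPullback_map c₀ τ) hc₀o
    obtain ⟨k, hk⟩ := exists_factor_kpts (𝟙 (Red.bc τ CT)) ((Over.pullback τ).map i) fun z => by
      obtain ⟨b', hb'⟩ := exists_kpt τ z
      obtain ⟨b, rfl⟩ := exists_pt p b'
      obtain ⟨w, hw⟩ := (hZ _ (pt p b)).1 (by rw [toUnit_sec p g, hp, pt_comm_iff]; exact hac b)
      exact ⟨kpt τ w, by rw [Category.comp_id, ← kpt_comp, hw, hb']⟩
    haveI : IsMonHom k := MTSplit.isMonHom_of_comp_mono k ((Over.pullback τ).map i) (𝟙 _) hk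
    obtain ⟨k₀, hk₀⟩ := exists_factor_connected k ((Over.pullback τ).map c₀) fun t => by
      have h : ((Red.bc τ CT).hom.base ⁻¹' {t}) = Set.univ :=
        Set.eq_univ_of_forall fun z => Subsingleton.elim (α := PrimeSpectrum K) _ _
      rw [h]
      haveI : GeometricallyIrreducible C.hom := GrpField.geometricallyIrreducible_of_connected_fibres C hC
      haveI : GeometricallyIrreducible CT.hom := inferInstanceAs (GeometricallyIrreducible (pullback.snd C.hom T.hom))
      haveI : IrreducibleSpace ↥(Red.bc τ CT).left :=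
        GeometricallyIrreducible.geometrically_irreducibleSpace _ _ _ (IsPullback.of_hasPullback CT.hom τ)
      exact isConnected_univ
    haveI : Mono ((Over.pullback τ).map (c₀ ≫ i)) := inferInstance
    haveI : IsSplitEpi ((Over.pullback τ).map (c₀ ≫ i)) :=
      ⟨⟨⟨k₀, by rw [Functor.map_comp, ← Category.assoc, hk₀, hk]⟩⟩⟩
    haveI : IsIso ((Over.pullback τ).map (c₀ ≫ i)) := isIso_of_mono_of_isSplitEpi _
    exact ((Over.forget _).mapIso (asIso ((Over.pullback τ).map (c₀ ≫ i)))).isIso_hom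
  obtain ⟨U, hU, hUiso⟩ := exists_nhd_iso_of_geom (c₀ ≫ i)
    (fun t => by
      haveI : ConnectedSpace ↥(Z₀.hom.fiber t) := connected_fibre_neutral c₀ hc₀r t
      exact isConnected_iff_connectedSpace.2
        ((Z₀.hom.fiberHomeo t).surjective.connectedSpace (Z₀.hom.fiberHomeo t).continuous))
    hCT _ (isIso_geom_of_pt (c₀ ≫ i) τ hfib)
  haveI := hUiso
  let P : Over S := Over.mk (U.ι ≫ T.hom)
  let f : P ⟶ T := Over.homMk U.ι rfl
  have hr : Set.range τ ⊆ Set.range U.ι := by
    rintro _ ⟨y, rfl⟩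
    rw [U.range_ι, Subsingleton.elim (α := PrimeSpectrum K) y (IsLocalRing.closedPoint K)]
    exact hU
  let p' : Over.mk x ⟶ P := Over.homMk (IsOpenImmersion.lift U.ι τ hr) (by
    show _ ≫ U.ι ≫ T.hom = x
    rw [IsOpenImmersion.lift_fac_assoc]; exact Over.w p)
  have hp' : p' ≫ f = p := Over.OverMorphism.ext (IsOpenImmersion.lift_fac _ _ _)
  haveI : Smooth P.hom := inferInstanceAs (Smooth (U.ι ≫ T.hom))
  refine ⟨P, p', f ≫ g, inferInstance, by rw [← MonObj.comp_pow, hg, MonObj.comp_one],
    by rw [← Category.assoc, hp', hp], fun X z y => ?_⟩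
  let q := z ≫ f
  obtain ⟨v₁, hv₁⟩ := exists_toBC' T.hom (gpt q y)
  let ε : (Over.map U.ι).obj (Over.mk z.left) ≅ Over.mk q.left := Over.isoMk (Iso.refl _) (Category.id_comp _)
  obtain ⟨w, hw⟩ : ∃ w : Over.mk q.left ⟶ Z, w ≫ i = gpt q y := by
    let y' := toBC U.ι (ε.hom ≫ gpt q y)
    obtain ⟨a', ha'⟩ := exists_toBC' U.ι (y' ≫ CategoryTheory.inv ((Over.pullback U.ι).map (c₀ ≫ i)))
    refine ⟨ε.inv ≫ a' ≫ c₀, (cancel_epi ε.hom).1 (toBC_inj U.ι ?_)⟩
    rw [Category.assoc, Iso.hom_inv_id_assoc, Category.assoc, toBC_comp, ha', Category.assoc, IsIso.inv_hom_id,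
      Category.comp_id]
  have h := (hZ _ (gpt q y)).2 ⟨w, hw⟩
  rw [toUnit_sec' q g, ← gpt_mul, ← gpt_mul] at h
  rw [← Category.assoc]
  exact gpt_inj q h

/-- Finitely many central torsion points lift simultaneously. -/
theorem exists_central_tuple (l : ℕ) (hl : l = 2 ∨ l = 3) (m : ℕ) {C : Over S} [GrpObj C] [Smooth C.hom]
    [IsSeparated C.hom] [QuasiCompact C.hom] (hu : IsUnit (l : Γ(S, ⊤)))
    (hC : ∀ s : S, _root_.IsConnected (C.hom.base ⁻¹' {s})) {K : Type u} [Field K] [IsAlgClosed K]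
    {x : Spec (CommRingCat.of K) ⟶ S} : ∀ (r : ℕ) (a : Fin r → (Over.mk x ⟶ C)), (∀ j, a j ^ (l ^ m) = 1) →
    (∀ j (b : Over.mk x ⟶ C), a j * b = b * a j) →
    ∃ (P : Over S) (p : Over.mk x ⟶ P) (g : Fin r → (P ⟶ C)), Smooth P.hom ∧ (∀ j, g j ^ (l ^ m) = 1) ∧
      (∀ j, p ≫ g j = a j) ∧ ∀ j, IsCentralFam (g j) := by
  intro r
  induction r with
  | zero =>
    intro a _ _
    exact ⟨𝟙_ (Over S), toUnit _, fun j => j.elim0, inferInstanceAs (Smooth (𝟙 S)), fun j => j.elim0,
      fun j => j.elim0, fun j => j.elim0⟩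
  | succ r ih =>
    intro a ha hac
    obtain ⟨P, p, g, hP, hg, hpg, hgc⟩ := ih (fun j => a j.succ) (fun j => ha _) fun j => hac _
    obtain ⟨P₀, p₀, g₀, hP₀, hg₀, hpg₀, hgc₀⟩ := exists_central_torsion l hl m hu hC (a 0) (ha 0) (hac 0)
    haveI := hP; haveI := hP₀
    refine ⟨P₀ ⊗ P, lift p₀ p, Fin.cons (fst P₀ P ≫ g₀) fun j => snd P₀ P ≫ g j, smooth_tensor _ _, fun j => ?_,
      fun j => ?_, fun j => ?_⟩ <;> refine Fin.cases ?_ (fun j => ?_) j <;>
      simp only [Fin.cons_zero, Fin.cons_succ]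
    · rw [← MonObj.comp_pow, hg₀, MonObj.comp_one]
    · rw [← MonObj.comp_pow, hg, MonObj.comp_one]
    · rw [lift_fst_assoc, hpg₀]
    · rw [lift_snd_assoc, hpg]
    · exact isCentralFam_comp hgc₀ _
    · exact isCentralFam_comp (hgc j) _

/-- Over `P`, the subgroup is the largest connected subgroup centralizing the tuple. -/
def IsTorsionPresentation {C G P : Over S} [GrpObj C] [GrpObj G] (c : C ⟶ G) {r : ℕ} (g : Fin r → (P ⟶ C)) : Prop :=
  ∀ (Y : Over S) (p : Y ⟶ P) (H : Over Y.left) [GrpObj H] (h : H ⟶ Red.bc Y.hom G) [IsMonHom h],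
    (∀ t : Y.left, _root_.IsConnected (H.hom.base ⁻¹' {t})) →
    (∀ j, (toUnit H ≫ sec (p ≫ g j ≫ c)) * h = h * (toUnit H ≫ sec (p ≫ g j ≫ c))) →
    ∃ w : H ⟶ Red.bc Y.hom C, w ≫ (Over.pullback Y.hom).map c = h

/-- **Smooth locally a Cartan subgroup with connected fibres is presented by torsion sections.** -/
theorem exists_torsion_presentation (l : ℕ) (hl : l = 2 ∨ l = 3) {G C : Over S} [GrpObj G] [GrpObj C] [Smooth G.hom]
    [IsSeparated G.hom] [QuasiCompact G.hom] [Smooth C.hom] [IsSeparated C.hom] [QuasiCompact C.hom]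
    (hu : IsUnit (l : Γ(S, ⊤))) (c : C ⟶ G) (hc : SGA3x.IsCartan c)
    (hC : ∀ s : S, _root_.IsConnected (C.hom.base ⁻¹' {s})) (s : S) :
    ∃ (m r : ℕ) (P : Over S) (g : Fin r → (P ⟶ C)), Smooth P.hom ∧ s ∈ Set.range P.hom ∧
      (∀ j, g j ^ (l ^ m) = 1) ∧ (∀ j, IsCentralFam (g j)) ∧ IsTorsionPresentation c g := by
  haveI := hc.1; haveI := hc.2.1
  let x := Red.geomPt s
  let K := AlgebraicClosure (S.residueField s)
  obtain ⟨-, hcmono, T, hTg, i, hi, hCen⟩ := hc.2.2.2 s
  haveI := hi.1; haveI := hi.2.1; haveI := hcmono; haveI := hCen.1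
  haveI : Smooth (Red.bc x G).hom := inferInstanceAs (Smooth (pullback.snd G.hom x))
  haveI : QuasiCompact (Red.bc x G).hom := inferInstanceAs (QuasiCompact (pullback.snd G.hom x))
  have hl1 : 1 < l := by rcases hl with rfl | rfl <;> norm_num
  have hlpos : 0 < l := by omega
  have hlK : (l : K) ≠ 0 := by
    have h := ((hu.map x.appTop.hom).map (Scheme.ΓSpecIso (CommRingCat.of K)).hom.hom)
    rw [map_natCast, map_natCast] at h
    exact h.ne_zero
  obtain ⟨m, L, hL, hcent⟩ := exists_torsion_centralizer l hl1 hlK hi.2.2.1 i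
  obtain ⟨iC, hiC⟩ := (hCen.2.2 T i).2 fun X y h => by
    rw [← MonObj.mul_comp, ← MonObj.mul_comp, RedR1.mul_comm_torus hi.2.2.1]
  haveI : IsMonHom iC := MTSplit.isMonHom_of_comp_mono iC _ _ hiC
  choose F hF using fun t : 𝟙_ (Over (Spec (CommRingCat.of K))) ⟶ T => exists_kpt x (t ≫ iC)
  obtain ⟨P, p, g, hP, hg, hpg, hgc⟩ := exists_central_tuple l hl m hu hC L.length (fun j => F L[j])
    (fun j => kpt_inj x (by
      rw [kpt_pow, hF, ← MTTorus.comp_pow_hom, Fin.getElem_fin, hL _ (List.getElem_mem j.2), MonObj.one_comp,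
        kpt_one]))
    (fun j b => kpt_inj x (by
      rw [kpt_mul, kpt_mul, hF, ← cancel_mono ((Over.pullback x).map c), MonObj.mul_comp, MonObj.mul_comp,
        Category.assoc, hiC]
      have h := (hCen.2.2 _ (kpt x b ≫ (Over.pullback x).map c)).1 ⟨kpt x b, rfl⟩ _ (𝟙 _) L[j]
      rw [Category.id_comp] at h
      exact h.symm))
  haveI := hP
  let GP := Red.bc P.hom G
  haveI : Smooth GP.hom := inferInstanceAs (Smooth (pullback.snd G.hom P.hom))
  haveI : IsSeparated GP.hom := inferInstanceAs (IsSeparated (pullback.snd G.hom P.hom))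
  haveI : QuasiCompact GP.hom := inferInstanceAs (QuasiCompact (pullback.snd G.hom P.hom))
  let CP := Red.bc P.hom C
  let cP : CP ⟶ GP := (Over.pullback P.hom).map c
  haveI : IsMonHom cP := inferInstanceAs (IsMonHom ((Over.pullback P.hom).map c))
  haveI : Smooth CP.hom := inferInstanceAs (Smooth (pullback.snd C.hom P.hom))
  haveI : QuasiCompact CP.hom := inferInstanceAs (QuasiCompact (pullback.snd C.hom P.hom))
  haveI : PreservesLimitsOfShape WalkingCospan (Over.pullback P.hom) :=
    (Adjunction.rightAdjoint_preservesLimits (Over.mapPullbackAdj P.hom)).preservesLimitsOfShape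
  haveI : Mono cP := inferInstanceAs (Mono ((Over.pullback P.hom).map c))
  have hCP : ∀ t : P.left, _root_.IsConnected (CP.hom.base ⁻¹' {t}) := fun t => by
    haveI : GeometricallyIrreducible C.hom := GrpField.geometricallyIrreducible_of_connected_fibres C hC
    haveI : GeometricallyIrreducible CP.hom := inferInstanceAs (GeometricallyIrreducible (pullback.snd C.hom P.hom))
    haveI : ConnectedSpace ↥(CP.hom.fiber t) := inferInstance
    exact isConnected_iff_connectedSpace.2
      ((CP.hom.fiberHomeo t).surjective.connectedSpace (CP.hom.fiberHomeo t).continuous)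
  have hσC : ∀ j, ∀ (X : Over P.left) (y : X ⟶ CP),
      (toUnit X ≫ sec (g j)) * y = y * (toUnit X ≫ sec (g j)) := fun j X y => by
    obtain ⟨y, rfl⟩ := exists_toBC' P.hom y
    rw [sec, ← toBC_naturality, ← toBC_mul, ← toBC_mul, ← Category.assoc ((Over.map P.hom).map (toUnit X))]
    exact congrArg (toBC P.hom) (hgc j _ _ y)
  have hsecc : ∀ j, sec (g j ≫ c) = sec (g j) ≫ cP := fun j => by
    rw [sec, ← Category.assoc, toBC_comp]; rfl
  obtain ⟨Z, hZg, iZ, hiZm, hiZc, hZs, hZq, hZsep, hZ⟩ := exists_tuple_centralizer (l ^ m) (pow_pos hlpos m)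
    (G := GP) (by rw [Nat.cast_pow]; exact (isUnit_natCast P.hom l hu).pow m) (fun j => sec (g j ≫ c))
    (fun j => by rw [hsecc, ← MTTorus.comp_pow_hom, ← sec_pow, hg, sec_one, MonObj.one_comp])
    (fun a b => by
      rw [hsecc, hsecc, ← MonObj.mul_comp, ← MonObj.mul_comp]
      have h := hσC a _ (sec (g b))
      rw [toUnit_unit, Category.id_comp] at h
      rw [h])
  haveI := hiZm; haveI := hiZc; haveI := hZs; haveI := hZq; haveI := hZsep
  haveI : Mono iZ.left := inferInstance
  haveI : Mono iZ := Over.mono_of_mono_left iZ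
  obtain ⟨wZ, hwZ⟩ := (hZ CP cP).2 fun j => by
    rw [hsecc, ← Category.assoc]
    have h := congrArg (fun m => m ≫ cP) (hσC j CP (𝟙 CP))
    simp only [MonObj.mul_comp, Category.id_comp] at h
    exact h
  haveI : IsMonHom wZ := MTSplit.isMonHom_of_comp_mono wZ iZ cP hwZ
  obtain ⟨-, Z₀, hZ₀g, c₀, hc₀m, hc₀o, hc₀r, hZ₀s, hZ₀q⟩ := Groth.Agent.S4098.result P.left Z
    ⟨⊤, by infer_instance, fun _ => trivial⟩
  haveI := hc₀m; haveI := hc₀o; haveI := hZ₀s; haveI := hZ₀q
  haveI : Mono c₀.left := inferInstance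
  haveI : Mono c₀ := Over.mono_of_mono_left c₀
  haveI : IsSeparated Z₀.hom := by rw [← Over.w c₀]; infer_instance
  obtain ⟨w, hw⟩ := exists_factor_connected wZ c₀ hCP
  haveI : IsMonHom w := MTSplit.isMonHom_of_comp_mono w c₀ wZ hw
  haveI : Mono (w ≫ c₀ ≫ iZ) := by rw [← Category.assoc, hw, hwZ]; infer_instance
  haveI : Mono w := mono_of_mono w (c₀ ≫ iZ)
  let q : Spec (CommRingCat.of K) ⟶ P.left := p.left
  have hqx : q ≫ P.hom = x := Over.w p
  have hfib : IsIso ((Over.pullback q).map w).left := by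
    haveI : PreservesLimitsOfShape WalkingCospan (Over.pullback q) :=
      (Adjunction.rightAdjoint_preservesLimits (Over.mapPullbackAdj q)).preservesLimitsOfShape
    obtain ⟨eG, heG, hG'⟩ := MaxTorusBC.exists_trIso hqx G
    obtain ⟨eC, heC, hC'⟩ := MaxTorusBC.exists_trIso hqx C
    haveI : IsMonHom eG.hom := hG'
    have hpts : ∀ b : Over.mk x ⟶ G, kpt x b ≫ eG.hom = kpt q (pt p b) := fun b => by
      rw [heG]; exact kpt_pt p hqx b
    have hn : (Over.pullback x).map c ≫ eG.hom = eC.hom ≫ (Over.pullback q).map cP := by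
      rw [heC, heG, trIso_natural]
    haveI : Smooth (Red.bc q Z₀).hom := inferInstanceAs (Smooth (pullback.snd Z₀.hom q))
    haveI : Smooth T.hom := smooth_torus hi.2.2.1
    haveI : LocallyOfFiniteType (Red.bc q CP).hom := inferInstanceAs (LocallyOfFiniteType (pullback.snd CP.hom q))
    haveI : LocallyOfFiniteType (Red.bc q GP).hom := inferInstanceAs (LocallyOfFiniteType (pullback.snd GP.hom q))
    haveI : IsSeparated (Red.bc q GP).hom := inferInstanceAs (IsSeparated (pullback.snd GP.hom q))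
    haveI : IsSeparated (Red.bc x G).hom := inferInstanceAs (IsSeparated (pullback.snd G.hom x))
    haveI : IsMonHom ((Over.pullback q).map cP) := inferInstance
    haveI : Mono ((Over.pullback q).map cP) := inferInstance
    haveI : QuasiCompact (Red.bc q CP).hom := inferInstanceAs (QuasiCompact (pullback.snd CP.hom q))
    haveI : QuasiCompact (((Over.pullback q).map cP).left ≫ (Red.bc q GP).hom) := by
      rw [Over.w ((Over.pullback q).map cP)]; infer_instance
    haveI : QuasiCompact ((Over.pullback q).map cP).left := QuasiCompact.of_comp _ (Red.bc q GP).hom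
    haveI : IsClosedImmersion ((Over.pullback q).map cP).left :=
      GrpField.isClosedImmersion_of_mono ((Over.pullback q).map cP)
    obtain ⟨k, hk⟩ := exists_factor_kpts ((Over.pullback q).map (c₀ ≫ iZ)) ((Over.pullback q).map cP) fun z => by
      obtain ⟨z', rfl⟩ := exists_kpt q z
      obtain ⟨b, hb⟩ := exists_pt p (z' ≫ c₀ ≫ iZ)
      have hb' : ∀ t ∈ L, (t ≫ i) * kpt x b = kpt x b * (t ≫ i) := fun t ht => by
        obtain ⟨j, hj, rfl⟩ := List.getElem_of_mem ht
        have h := (hZ _ (pt p b)).1 ⟨z' ≫ c₀, by rw [Category.assoc, hb]⟩ ⟨j, hj⟩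
        rw [toUnit_sec p (g ⟨j, hj⟩ ≫ c), ← Category.assoc, hpg, pt_comm_iff] at h
        have h' := congrArg (kpt x) h
        rw [kpt_mul, kpt_mul, kpt_comp, hF, Category.assoc, hiC] at h'
        exact h'
      obtain ⟨y, hy⟩ := (hCen.2.2 _ (kpt x b)).2 fun X y h => by
        suffices hs : i * (toUnit T ≫ kpt x b) = (toUnit T ≫ kpt x b) * i by
          have h2 := congrArg (fun m => h ≫ m) hs
          simp only [MonObj.comp_mul, ← Category.assoc, comp_toUnit] at h2
          rw [toUnit_unique y (toUnit X)]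
          exact h2.symm
        refine hom_ext_kpts fun t => ?_
        simp only [MonObj.comp_mul, ← Category.assoc]
        rw [toUnit_unique (t ≫ toUnit T) (𝟙 _), Category.id_comp]
        exact hcent (kpt x b) hb' t
      exact ⟨y ≫ eC.hom, by rw [Category.assoc, ← hn, reassoc_of% hy, hpts, hb, kpt_comp]⟩
    haveI : IsSplitEpi ((Over.pullback q).map w) := ⟨⟨⟨k, by
      haveI : Mono ((Over.pullback q).map (c₀ ≫ iZ)) := inferInstance
      rw [← cancel_mono ((Over.pullback q).map (c₀ ≫ iZ)), Category.assoc, ← Functor.map_comp,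
        show w ≫ c₀ ≫ iZ = cP by rw [reassoc_of% hw, hwZ], hk, Category.id_comp]⟩⟩⟩
    haveI : IsIso ((Over.pullback q).map w) := isIso_of_mono_of_isSplitEpi _
    exact ((Over.forget _).mapIso (asIso ((Over.pullback q).map w))).isIso_hom
  obtain ⟨U, hU, hUiso⟩ := exists_nhd_iso_of_geom w hCP
    (fun t => by
      haveI : ConnectedSpace ↥(Z₀.hom.fiber t) := connected_fibre_neutral c₀ hc₀r t
      exact isConnected_iff_connectedSpace.2
        ((Z₀.hom.fiberHomeo t).surjective.connectedSpace (Z₀.hom.fiberHomeo t).continuous))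
    _ (isIso_geom_of_pt w q hfib)
  let P' : Over S := Over.mk (U.ι ≫ P.hom)
  let f : P' ⟶ P := Over.homMk U.ι rfl
  haveI : Smooth P'.hom := inferInstanceAs (Smooth (U.ι ≫ P.hom))
  refine ⟨m, L.length, P', fun j => f ≫ g j, inferInstance, ⟨⟨_, hU⟩, ?_⟩,
    fun j => by rw [← MonObj.comp_pow, hg, MonObj.comp_one], fun j => isCentralFam_comp (hgc j) _, ?_⟩
  · show P.hom (q (IsLocalRing.closedPoint K)) = s
    rw [← Scheme.Hom.comp_apply, hqx]
    show (Spec.map _ ≫ S.fromSpecResidueField s) _ = s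
    rw [Scheme.Hom.comp_apply]
    exact S.fromSpecResidueField_apply _ _
  intro Y pY H _ h _ hH hcommj
  let π : Y ⟶ P := pY ≫ f
  have hπ : π.left ≫ P.hom = Y.hom := Over.w π
  obtain ⟨eG, heG, hG'⟩ := MaxTorusBC.exists_trIso hπ G
  obtain ⟨eC, heC, -⟩ := MaxTorusBC.exists_trIso hπ C
  haveI : IsMonHom eG.hom := hG'
  have hn : (Over.pullback Y.hom).map c ≫ eG.hom = eC.hom ≫ (Over.pullback π.left).map cP := by
    rw [heC, heG, trIso_natural]
  have hnat : ∀ b : Y ⟶ G, sec b ≫ eG.hom = toBC π.left ((Over.map π.left).map (toUnit _) ≫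
      (secIso (Over.mk π.left)).hom ≫ gpt π b) := fun b => by
    rw [heG]
    refine (tr_eq_comp hπ (sec b)).symm.trans ((tr_toBC _ _).trans ?_)
    congr 1
  obtain ⟨h₁, hh₁⟩ := exists_toBC' π.left (h ≫ eG.hom)
  obtain ⟨z₁, hz₁⟩ := (hZ _ h₁).2 fun j => toBC_inj π.left (by
    have h2 := congrArg (fun m => m ≫ eG.hom) (hcommj j)
    simp only [MonObj.mul_comp, Category.assoc, hnat] at h2
    rw [toBC_mul, toBC_mul, hh₁]
    have hu' : toBC π.left (toUnit ((Over.map π.left).obj H) ≫ sec (g j ≫ c)) =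
        toUnit H ≫ toBC π.left ((Over.map π.left).map (toUnit _) ≫
          (secIso (Over.mk π.left)).hom ≫ gpt π (pY ≫ (f ≫ g j) ≫ c)) := by
      have e : pY ≫ (f ≫ g j) ≫ c = π ≫ g j ≫ c := by simp only [π, Category.assoc]
      rw [← toBC_naturality, e, ← toUnit_sec' π (g j ≫ c)]
      refine congrArg (toBC π.left) ?_
      rw [← Category.assoc, ← Category.assoc, ← Category.assoc]
      congr 1
    rw [hu']
    exact h2)
  have hz₁' : toBC π.left z₁ ≫ (Over.pullback π.left).map iZ = h ≫ eG.hom := by rw [← toBC_comp, hz₁, hh₁]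
  haveI : LocallyOfFiniteType (Red.bc π.left Z).hom :=
    inferInstanceAs (LocallyOfFiniteType (pullback.snd Z.hom π.left))
  haveI : PreservesLimitsOfShape WalkingCospan (Over.pullback π.left) :=
    (Adjunction.rightAdjoint_preservesLimits (Over.mapPullbackAdj π.left)).preservesLimitsOfShape
  haveI : Mono ((Over.pullback π.left).map iZ) := inferInstance
  haveI : IsMonHom (toBC π.left z₁) := MTSplit.isMonHom_of_comp_mono _ _ _ hz₁'
  haveI : IsOpenImmersion ((Over.pullback π.left).map c₀).left :=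
    MorphismProperty.of_isPullback (P := @IsOpenImmersion) (isPullback_map c₀ π.left) hc₀o
  obtain ⟨h₀, hh₀⟩ := exists_factor_connected (toBC π.left z₁) ((Over.pullback π.left).map c₀) hH
  haveI : IsIso ((Over.pullback π.left).map w) := by
    haveI : IsIso ((Over.pullback pY.left).map ((Over.pullback U.ι).map w)).left :=
      ((Over.forget _).mapIso (asIso ((Over.pullback pY.left).map ((Over.pullback U.ι).map w)))).isIso_hom
    have := (isIso_map_iff w (show pY.left ≫ U.ι = π.left from rfl)).2 ‹_›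
    exact (isIso_iff_of_reflects_iso _ (Over.forget _)).1 this
  refine ⟨(h₀ ≫ CategoryTheory.inv ((Over.pullback π.left).map w)) ≫ eC.inv, ?_⟩
  rw [← cancel_mono eG.hom]
  simp only [Category.assoc]
  rw [hn, Iso.inv_hom_id_assoc, show cP = w ≫ c₀ ≫ iZ by rw [reassoc_of% hw, hwZ], Functor.map_comp, Functor.map_comp,
    IsIso.inv_hom_id_assoc, reassoc_of% hh₀, hz₁']

end Groth.Agent.MTImage
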