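import Groth.Agent.Chev.CentralMT
import Groth.Agent.MTTorus.Basic
import Groth.Agent.S7957

/-!
# Central torsion points lie in maximal tori

In a smooth connected affine group over an algebraically closed field a central point of finite order prime to the
characteristic lies in every maximal torus.
-/

set_option autoImplicit false
set_option linter.style.haveILetI false
set_option backward.isDefEq.respectTransparency false

universe u

open CategoryTheory CategoryTheory.Limits MonoidalCategory CartesianMonoidalCategory MonObj GrpObj AlgebraicGeometry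
open TensorProduct WithConv
open Groth.Agent.Takeuchi (Pt)
open Groth.Agent.MTBridge (specGrp)
open Groth.Agent.Chev (RP)

noncomputable section

namespace Groth.Agent.MTImage

open Groth.Agent.Chev Groth.Agent.Chev.Borel Groth.Agent.Chev.BorelFixed

variable {k : Type u} [Field k] [IsAlgClosed k]

/-- A connected solvable group retracts onto a torus with kernel free of torsion prime to the characteristic. -/
theorem exists_torus_retraction_torsion (G : Over (Spec (CommRingCat.of k))) [GrpObj G] [IsAffine G.left]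
    [Smooth G.hom] [ConnectedSpace G.left] [Group.IsSolvable (RP G)] :
    ∃ (T : Over (Spec (CommRingCat.of k))) (_ : GrpObj T) (iT : T ⟶ G) (π : G ⟶ T),
      IsMonHom iT ∧ IsMonHom π ∧ IsClosedImmersion iT.left ∧ iT ≫ π = 𝟙 T ∧ Red.IsTorus T ∧
      ∀ (z : RP G) (N : ℕ), (N : k) ≠ 0 → z ^ N = 1 → z ≫ π = 1 → z = 1 := by
  obtain ⟨A, hA, e, he⟩ := FinHopf.exists_hopf (R := CommRingCat.of k) G
  haveI := he
  haveI : IsIso e.hom.left := inferInstanceAs (IsIso ((Over.forget _).map e.hom))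
  haveI : Algebra.FiniteType k A := by
    have h0 : LocallyOfFiniteType (e.hom.left ≫ G.hom) := inferInstance
    rw [Over.w e.hom] at h0
    exact RingHom.finiteType_algebraMap.1 ((HasRingHomProperty.Spec_iff (P := @LocallyOfFiniteType)).1 h0)
  haveI : IsDomain A := isDomain_of_smooth_connected e
  haveI : Group.IsSolvable (Pt k A k) :=
    Group.isSolvable_of_surjective (f := (ProjRep.ptsEquiv e).toMonoidHom) (ProjRep.ptsEquiv e).surjective
  have htrig := Groth.Agent.S3266.result k A fun x hx => IsIdempotentElem.iff_eq_zero_or_one.1 hx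
  obtain ⟨B, hBc, hBh, ψ, J, hJh, hψ, hdiag, hJ, hU⟩ := (Groth.Agent.S7967.result k A).1 htrig
  haveI := hJh
  have hB : SGA3b.IsDiag k B := MultT.isDiag_of_span hdiag
  obtain ⟨r, hr⟩ := Groth.Agent.S4128.result k A B hB ψ hψ J hJ hU
  have hrψ : ∀ b, r (ψ b) = b := DFunLike.congr_fun hr
  have hrs : Function.Surjective r := fun b => ⟨ψ b, hrψ b⟩
  haveI : Algebra.FiniteType k B := Algebra.FiniteType.of_surjective (r : A →ₐ[k] B) hrs
  haveI : IsDomain B := hψ.isDomain (ψ : B →ₐ[k] A).toRingHom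
  let T := (Spec (CommRingCat.of B)).asOver (Spec (CommRingCat.of k))
  let rT : T ⟶ (Spec (CommRingCat.of A)).asOver (Spec (CommRingCat.of k)) := Spec.mapMulEquiv (toConv (r : A →ₐ[k] B))
  let pT : (Spec (CommRingCat.of A)).asOver (Spec (CommRingCat.of k)) ⟶ T := Spec.mapMulEquiv (toConv (ψ : B →ₐ[k] A))
  haveI : IsMonHom rT := ((hopfSpec (CommRingCat.of k)).map (CommHopfAlgCat.ofHom (X := A) (Y := B) r).op).hom.isMonHom_hom
  haveI : IsMonHom pT := ((hopfSpec (CommRingCat.of k)).map (CommHopfAlgCat.ofHom (X := B) (Y := A) ψ).op).hom.isMonHom_hom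
  haveI : IsMonHom e.inv := inferInstance
  let iT : T ⟶ G := rT ≫ e.hom
  haveI : IsClosedImmersion rT.left :=
    IsClosedImmersion.spec_of_surjective (CommRingCat.ofHom (r : A →ₐ[k] B).toRingHom) hrs
  haveI : IsClosedImmersion iT.left := inferInstanceAs (IsClosedImmersion (rT.left ≫ e.hom.left))
  have hret : iT ≫ e.inv ≫ pT = 𝟙 T := by
    show (rT ≫ e.hom) ≫ e.inv ≫ pT = 𝟙 T
    rw [Category.assoc, e.hom_inv_id_assoc]
    refine Over.OverMorphism.ext ?_
    show Spec.map _ ≫ Spec.map _ = 𝟙 _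
    rw [← Spec.map_comp, ← Spec.map_id]
    exact congrArg Spec.map (CommRingCat.hom_ext (RingHom.ext hrψ))
  refine ⟨T, inferInstance, iT, e.inv ≫ pT, inferInstance, inferInstance, inferInstance, hret, isTorus_spec hB,
    fun z N hN hzN hzπ => ?_⟩
  haveI : IsMonHom (Iso.refl (specGrp k B).X).hom := inferInstanceAs (IsMonHom (𝟙 _))
  let φ := ProjRep.ptsEquiv e z
  have hφN : φ ^ N = 1 := by rw [← map_pow, hzN, map_one]
  -- the point is trivial on the quotient torus
  have hψφ : ptsComp ψ φ = 1 := by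
    have h := ptsEquiv_comp e (Iso.refl (specGrp k B).X) (e.inv ≫ pT) (ψ : B →ₐ[k] A) (by
      show e.hom.left ≫ e.inv.left ≫ pT.left = _
      rw [← Category.assoc, ← Over.comp_left, e.hom_inv_id]
      show 𝟙 _ ≫ pT.left = _
      rw [Category.id_comp]
      show _ = _ ≫ 𝟙 _
      rw [Category.comp_id]
      rfl) z
    rw [hzπ, map_one] at h
    exact WithConv.ext (AlgHom.ext fun b => by rw [h]; rfl)
  have hker : ∀ a ∈ J, φ a = 0 := by
    intro a ha
    have h0 : J ≤ RingHom.ker φ.ofConv := by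
      rw [hJ]
      refine Ideal.map_le_iff_le_comap.2 fun b hb => ?_
      show φ (ψ b) = 0
      rw [← ptsComp_apply, hψφ, AlgHom.convOne_apply, show Coalgebra.counit (R := k) b = 0 from hb, map_zero]
    exact h0 ha
  let iU := ptsComp (Bialgebra.Quotient.mkBialgHom (R := k) J)
  let φ₀ : Pt k (A ⧸ J) k := toConv (Ideal.Quotient.liftₐ J φ.ofConv hker)
  have hφ₀ : iU φ₀ = φ := WithConv.ext (AlgHom.ext fun a => rfl)
  have hinj : Function.Injective iU := fun x y h => WithConv.ext (AlgHom.ext fun q => by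
    obtain ⟨a, rfl⟩ := Ideal.Quotient.mk_surjective q
    exact congrArg (fun w : Pt k A k => w a) h)
  have h1 : φ₀ ^ N = 1 := hinj (by rw [map_pow, hφ₀, hφN, map_one])
  have hnd : ¬ ringChar k ∣ N := fun h => hN ((ringChar.spec k N).2 h)
  have h2 : φ₀ = 1 := (Groth.Agent.S7957.result k (A ⧸ J) hU N hnd).injective (by
    show φ₀ ^ N = 1 ^ N
    rw [h1, _root_.one_pow])
  apply (ProjRep.ptsEquiv e).injective
  rw [map_one]
  show φ = 1
  rw [← hφ₀, h2, map_one]

/-- **A central point of order prime to the characteristic lies in every maximal torus.** -/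
theorem exists_factor_of_central_torsion {G T : Over (Spec (CommRingCat.of k))} [GrpObj G] [GrpObj T]
    [IsAffine G.left] [Smooth G.hom] [ConnectedSpace G.left] (iT : T ⟶ G) (hT : AGF.IsMaxTorus iT) (z : RP G) (N : ℕ)
    (hN : (N : k) ≠ 0) (hzN : z ^ N = 1) (hz : ∀ g : RP G, z * g = g * z) : ∃ w : RP T, w ≫ iT = z := by
  obtain ⟨him, himono, hTt, -⟩ := id hT
  haveI := him; haveI := himono
  haveI : IsAffineHom G.hom := isAffineHom_of_isAffine _
  obtain ⟨C, hCg, c, hc, -, -⟩ := MTBridge.exists_centralizer T G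
    (MTBridge.locally_of_isMultTypeFT' T (MTBridge.isMultTypeFT_of_isTorus T hTt)) inferInstance inferInstance iT
  obtain ⟨hCs, hCaff, hccl, hCconn, hCsol, -, tc, htc, htmax, hcent⟩ := centralizer_maxTorus iT hT c hc
  haveI := hCs; haveI := hCaff; haveI := hccl; haveI := hCconn; haveI := hCsol
  obtain ⟨hcm, hcmono, hcu⟩ := id hc
  haveI := hcm; haveI := hcmono
  haveI := smooth_of_isTorus hTt
  haveI : IsReduced T.left := SmoothRed.isReduced_of_smooth_scheme T.hom
  obtain ⟨z', hz'⟩ := (hcu _ z).2 fun X' x t => by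
    have huniv : (toUnit T ≫ z) * iT = iT * (toUnit T ≫ z) := by
      refine hom_ext_rp fun p => ?_
      simp only [MonObj.comp_mul, ← Category.assoc]
      rw [toUnit_unique (p ≫ toUnit T) (𝟙 _), Category.id_comp]
      exact hz _
    have h := congrArg (fun m => t ≫ m) huniv
    simp only [MonObj.comp_mul, ← Category.assoc, comp_toUnit] at h
    rw [toUnit_unique x (toUnit X')]
    exact h
  have hcentP : ∀ (X : Over (Spec (CommRingCat.of k))) (g : X ⟶ C) (t : X ⟶ T),
      g * (t ≫ tc) = (t ≫ tc) * g := commute_of_rp tc hTt fun g p => hcent p g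
  haveI := htmax.1; haveI := htmax.2.1
  obtain ⟨T₁, hT₁g, i₁, -, hi₁, -, hi₁c, -, hT₁, huniv, -⟩ := exists_section_torus C
  haveI := hi₁; haveI := hi₁c
  obtain ⟨T₀, hT₀g, i₀, π, hi₀, hπ, hi₀c, hret, hT₀, hkill⟩ := exists_torus_retraction_torsion C
  haveI := hi₀; haveI := hπ; haveI := hi₀c
  haveI : Mono i₀ := GrpField.SchImg.mono_of_isClosedImmersion i₀
  obtain ⟨g₁, f₁, hf₁m, hf₁⟩ := huniv T tc hTt
  have hf₁' : f₁ ≫ i₁ = tc := by
    rw [hf₁]
    show (toUnit T ≫ g₁) * tc * (toUnit T ≫ g₁)⁻¹ = tc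
    have h := hcentP T (toUnit T ≫ g₁) (𝟙 T)
    rw [Category.id_comp] at h
    rw [h, mul_inv_cancel_right]
  haveI : Mono (f₁ ≫ i₁) := by rw [hf₁']; infer_instance
  haveI : Mono f₁ := mono_of_mono f₁ i₁
  haveI : Mono i₁ := GrpField.SchImg.mono_of_isClosedImmersion i₁
  haveI : IsIso f₁ := htmax.2.2.2 T₁ i₁ f₁ hT₁ hf₁'
  obtain ⟨g₀, f₀, hf₀m, hf₀⟩ := huniv T₀ i₀ hT₀
  have hj : ∃ j₀ : T₀ ⟶ T, j₀ ≫ tc = i₀ := by
    refine ⟨f₀ ≫ CategoryTheory.inv f₁, ?_⟩
    have e1 : (f₀ ≫ CategoryTheory.inv f₁) ≫ tc = f₀ ≫ i₁ := by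
      rw [← hf₁', Category.assoc, IsIso.inv_hom_id_assoc]
    rw [e1]
    have h := hcentP T₀ (toUnit T₀ ≫ g₀) (f₀ ≫ CategoryTheory.inv f₁)
    rw [e1, hf₀, AGF.conjBy] at h
    rw [hf₀, AGF.conjBy]
    exact eq_of_commute_conj h
  obtain ⟨j₀, hj₀⟩ := hj
  let t₀ : RP C := (z' ≫ π) ≫ i₀
  have hcomm : z' * t₀ = t₀ * z' := by
    have h := hcent ((z' ≫ π) ≫ j₀) z'
    rwa [Category.assoc, hj₀] at h
  have hz'N : z' ^ N = 1 := by
    rw [← cancel_mono c, MTTorus.comp_pow_hom, hz', hzN, MonObj.one_comp]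
  have ht₀N : t₀ ^ N = 1 := by
    show ((z' ≫ π) ≫ i₀) ^ N = 1
    rw [← MTTorus.comp_pow_hom, ← MTTorus.comp_pow_hom, hz'N, MonObj.one_comp, MonObj.one_comp]
  have h1 : z' * t₀⁻¹ = 1 := hkill _ N hN
    (by rw [(Commute.inv_right hcomm).mul_pow, hz'N, inv_pow, ht₀N, _root_.inv_one, _root_.one_mul])
    (by
      rw [MonObj.mul_comp, GrpObj.inv_comp]
      show (z' ≫ π) * (((z' ≫ π) ≫ i₀) ≫ π)⁻¹ = 1
      rw [Category.assoc _ i₀ π, hret, Category.comp_id, mul_inv_cancel])
  refine ⟨(z' ≫ π) ≫ j₀, ?_⟩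
  rw [← hz', ← htc, ← Category.assoc, Category.assoc _ j₀ tc, hj₀]
  exact congrArg (fun m => m ≫ c) (mul_inv_eq_one.1 h1).symm

end Groth.Agent.MTImage
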