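import Groth.Agent.MTImage.TorsionLift

/-!
# Schemes of commuting torsion tuples and their transporters

For an invertible order `N = l ^ m` (`l = 2, 3`) the commuting `N`-torsion tuples of a smooth group form a smooth
scheme, and so do the sections conjugating one tuple into another.
-/

set_option autoImplicit false
set_option linter.style.haveILetI false
set_option backward.isDefEq.respectTransparency false
set_option maxHeartbeats 1000000
set_option synthInstance.maxHeartbeats 400000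

universe u

noncomputable section

open CategoryTheory Limits MonoidalCategory CartesianMonoidalCategory MonObj GrpObj AlgebraicGeometry
open scoped CategoryTheory.Obj

namespace Groth.Agent.MTImage

open Groth.Agent.MTBridge Groth.Agent.Chev.MaxTorusExt

variable {S : Scheme.{u}}

/-- A point of `P` seen over `P`. -/
def gptIso {P X : Over S} (p : X ⟶ P) : (Over.map P.hom).obj (Over.mk p.left) ≅ X :=
  Over.isoMk (Iso.refl _) (by simpa using (Over.w p).symm)

/-- The value of a point in the base change. -/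
def gpt {P G X : Over S} (p : X ⟶ P) (b : X ⟶ G) : Over.mk p.left ⟶ Red.bc P.hom G :=
  toBC P.hom ((gptIso p).hom ≫ b)

theorem gpt_mul {P G X : Over S} [GrpObj G] (p : X ⟶ P) (a b : X ⟶ G) : gpt p (a * b) = gpt p a * gpt p b := by
  rw [gpt, MonObj.comp_mul, toBC_mul]; rfl

theorem gpt_inv {P G X : Over S} [GrpObj G] (p : X ⟶ P) (a : X ⟶ G) : gpt p a⁻¹ = (gpt p a)⁻¹ := by
  rw [gpt, GrpObj.comp_inv, toBC_inv]; rfl

theorem gpt_pow {P G X : Over S} [GrpObj G] (p : X ⟶ P) (a : X ⟶ G) (n : ℕ) : gpt p (a ^ n) = gpt p a ^ n := by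
  rw [gpt, MonObj.comp_pow, MTTorus.toBC_pow]; rfl

theorem gpt_comp {P G H X : Over S} (p : X ⟶ P) (a : X ⟶ G) (f : G ⟶ H) :
    gpt p (a ≫ f) = gpt p a ≫ (Over.pullback P.hom).map f := by
  rw [gpt, ← Category.assoc, toBC_comp]; rfl

theorem gpt_inj {P G X : Over S} (p : X ⟶ P) {a b : X ⟶ G} (h : gpt p a = gpt p b) : a = b :=
  (cancel_epi (gptIso p).hom).1 (toBC_inj P.hom h)

theorem exists_gpt {P G X : Over S} (p : X ⟶ P) (z : Over.mk p.left ⟶ Red.bc P.hom G) : ∃ a, gpt p a = z := by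
  obtain ⟨a, rfl⟩ := exists_toBC' P.hom z
  exact ⟨(gptIso p).inv ≫ a, by rw [gpt, Iso.hom_inv_id_assoc]⟩

theorem toUnit_sec' {P G X : Over S} (p : X ⟶ P) (g : P ⟶ G) :
    toUnit (Over.mk p.left) ≫ sec g = gpt p (p ≫ g) := by
  have e : (Over.map P.hom).map (toUnit (Over.mk p.left)) ≫ (secIso P).hom = (gptIso p).hom ≫ p := by
    apply Over.OverMorphism.ext
    show p.left ≫ 𝟙 _ = 𝟙 _ ≫ p.left
    simp
  rw [sec, ← toBC_naturality, gpt, ← Category.assoc, e, Category.assoc]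

/-- The `l ^ m`-torsion points of a smooth group form a smooth scheme when `l` is invertible. -/
theorem exists_torsion_scheme (l : ℕ) (hl : l = 2 ∨ l = 3) (m : ℕ) : ∀ {S : Scheme.{u}} (G : Over S) [GrpObj G]
    [Smooth G.hom] [IsSeparated G.hom] [QuasiCompact G.hom], IsUnit (l : Γ(S, ⊤)) →
    ∃ (T : Over S) (g : T ⟶ G), Smooth T.hom ∧ g ^ (l ^ m) = 1 ∧
      ∀ (X : Over S) (t : X ⟶ G), t ^ (l ^ m) = 1 → ∃ p, p ≫ g = t := by
  induction m with
  | zero =>
    intro S G _ _ _ _ hu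
    exact ⟨𝟙_ (Over S), 1, inferInstanceAs (Smooth (𝟙 S)), by rw [_root_.one_pow],
      fun X t ht => ⟨toUnit X, by rw [MonObj.comp_one, ← ht, pow_zero, pow_one]⟩⟩
  | succ m ih =>
    intro S G _ _ _ _ hu
    have hlpos : 0 < l := by rcases hl with rfl | rfl <;> norm_num
    obtain ⟨T, g, hT, hg, huniv⟩ := ih G hu
    haveI := hT
    haveI : Smooth (Red.bc T.hom G).hom := inferInstanceAs (Smooth (pullback.snd G.hom T.hom))
    haveI : IsSeparated (Red.bc T.hom G).hom := inferInstanceAs (IsSeparated (pullback.snd G.hom T.hom))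
    haveI : QuasiCompact (Red.bc T.hom G).hom := inferInstanceAs (QuasiCompact (pullback.snd G.hom T.hom))
    have hu' := isUnit_natCast T.hom l hu
    obtain ⟨Z, hZg, i, him, hic, hZs, hZq, hZsep, hZ⟩ := exists_centralizer_section (sec g) (l ^ m)
      (pow_pos hlpos m) (by rw [← sec_pow, hg, sec_one]) (by rw [Nat.cast_pow]; exact hu'.pow m)
    haveI := him; haveI := hic; haveI := hZs; haveI := hZq; haveI := hZsep
    haveI : Mono i.left := inferInstance
    haveI : Mono i := Over.mono_of_mono_left i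
    obtain ⟨h, hh⟩ := (hZ _ (sec g)).1 (by rw [toUnit_unit, Category.id_comp])
    have hhc : ∀ (X : Over T.left) (z : X ⟶ Z), (toUnit X ≫ h) * z = z * (toUnit X ≫ h) := fun X z => by
      rw [← cancel_mono i, MonObj.mul_comp, MonObj.mul_comp, Category.assoc, hh]
      exact (hZ X _).2 ⟨z, rfl⟩
    obtain ⟨P', r, hP', -, -, hr, hroot⟩ := exists_root_scheme h hhc l hl hu'
    haveI := hP'
    obtain ⟨g', hg'⟩ := exists_toBC' T.hom (r ≫ i)
    haveI : Smooth ((Over.map T.hom).obj P').hom := inferInstanceAs (Smooth (P'.hom ≫ T.hom))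
    refine ⟨(Over.map T.hom).obj P', g', inferInstance, ?_, fun X t ht => ?_⟩
    · refine toBC_inj T.hom ?_
      rw [MTTorus.toBC_pow, MTKernel.toBC_one, hg', ← MTTorus.comp_pow_hom, pow_succ', pow_mul, hr,
        MTTorus.comp_pow_hom, Category.assoc, hh, ← MonObj.comp_pow, ← sec_pow, hg, sec_one, MonObj.comp_one]
    · rw [pow_succ', pow_mul] at ht
      obtain ⟨p, hp⟩ := huniv X (t ^ l) ht
      obtain ⟨z, hz⟩ := (hZ _ (gpt p t)).1 (by
        rw [toUnit_sec' p g, hp, ← gpt_mul, ← gpt_mul, (Commute.self_pow t l).eq])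
      obtain ⟨p', hp'⟩ := hroot _ z (by
        rw [← cancel_mono i, MTTorus.comp_pow_hom, hz, Category.assoc, hh, toUnit_sec' p g, hp, gpt_pow])
      refine ⟨(gptIso p).inv ≫ (Over.map T.hom).map p', gpt_inj p ?_⟩
      rw [gpt, Category.assoc, Iso.hom_inv_id_assoc, toBC_naturality, hg', ← Category.assoc, hp', hz]

/-- Commuting torsion tuples form a smooth scheme. -/
theorem exists_tuple_scheme (l : ℕ) (hl : l = 2 ∨ l = 3) (m : ℕ) (r : ℕ) : ∀ {S : Scheme.{u}} (G : Over S) [GrpObj G]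
    [Smooth G.hom] [IsSeparated G.hom] [QuasiCompact G.hom], IsUnit (l : Γ(S, ⊤)) →
    ∃ (W : Over S) (τ : Fin r → (W ⟶ G)), Smooth W.hom ∧ (∀ j, τ j ^ (l ^ m) = 1) ∧
      (∀ a b, τ a * τ b = τ b * τ a) ∧
      ∀ (X : Over S) (t : Fin r → (X ⟶ G)), (∀ j, t j ^ (l ^ m) = 1) → (∀ a b, t a * t b = t b * t a) →
        ∃ p : X ⟶ W, ∀ j, p ≫ τ j = t j := by
  induction r with
  | zero =>
    intro S G _ _ _ _ hu
    exact ⟨𝟙_ (Over S), fun j => j.elim0, inferInstanceAs (Smooth (𝟙 S)), fun j => j.elim0, fun j => j.elim0,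
      fun X t _ _ => ⟨toUnit X, fun j => j.elim0⟩⟩
  | succ r ih =>
    intro S G _ _ _ _ hu
    have hlpos : 0 < l := by rcases hl with rfl | rfl <;> norm_num
    obtain ⟨T, g, hT, hg, huniv⟩ := exists_torsion_scheme l hl m G hu
    haveI := hT
    haveI : Smooth (Red.bc T.hom G).hom := inferInstanceAs (Smooth (pullback.snd G.hom T.hom))
    haveI : IsSeparated (Red.bc T.hom G).hom := inferInstanceAs (IsSeparated (pullback.snd G.hom T.hom))
    haveI : QuasiCompact (Red.bc T.hom G).hom := inferInstanceAs (QuasiCompact (pullback.snd G.hom T.hom))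
    have hu' := isUnit_natCast T.hom l hu
    obtain ⟨Z, hZg, i, him, hic, hZs, hZq, hZsep, hZ⟩ := exists_centralizer_section (sec g) (l ^ m)
      (pow_pos hlpos m) (by rw [← sec_pow, hg, sec_one]) (by rw [Nat.cast_pow]; exact hu'.pow m)
    haveI := him; haveI := hic; haveI := hZs; haveI := hZq; haveI := hZsep
    haveI : Mono i.left := inferInstance
    haveI : Mono i := Over.mono_of_mono_left i
    obtain ⟨W', τ', hW', hτ', hτc, hW'u⟩ := ih Z hu'
    haveI := hW'
    choose ρ hρ using fun j => exists_toBC' T.hom (τ' j ≫ i)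
    let W : Over S := (Over.map T.hom).obj W'
    haveI : Smooth W.hom := inferInstanceAs (Smooth (W'.hom ≫ T.hom))
    let π : W ⟶ T := Over.homMk W'.hom rfl
    have h0 : toBC T.hom (π ≫ g) = toUnit W' ≫ sec g := by
      rw [sec, ← toBC_naturality, ← Category.assoc]
      congr 2
    refine ⟨W, Fin.cons (π ≫ g) ρ, inferInstance, ?_, ?_, ?_⟩
    · intro j
      refine Fin.cases ?_ (fun j => ?_) j
      · rw [Fin.cons_zero, ← MonObj.comp_pow, hg, MonObj.comp_one]
      · rw [Fin.cons_succ]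
        refine toBC_inj T.hom ?_
        rw [MTTorus.toBC_pow, hρ, ← MTTorus.comp_pow_hom, hτ', MonObj.one_comp, MTKernel.toBC_one]
    · have hc0 : ∀ j, (π ≫ g) * ρ j = ρ j * (π ≫ g) := fun j => toBC_inj T.hom (by
        rw [toBC_mul, toBC_mul, hρ, h0]
        exact (hZ W' _).2 ⟨_, rfl⟩)
      intro a b
      refine Fin.cases ?_ (fun a => ?_) a <;> refine Fin.cases ?_ (fun b => ?_) b
      · rfl
      · rw [Fin.cons_zero, Fin.cons_succ]; exact hc0 b
      · rw [Fin.cons_zero, Fin.cons_succ]; exact (hc0 a).symm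
      · rw [Fin.cons_succ, Fin.cons_succ]
        refine toBC_inj T.hom ?_
        rw [toBC_mul, toBC_mul, hρ, hρ, ← MonObj.mul_comp, ← MonObj.mul_comp, hτc]
    · intro X t ht htc
      obtain ⟨p, hp⟩ := huniv X (t 0) (ht 0)
      choose z hz using fun j : Fin r => (hZ _ (gpt p (t j.succ))).1 (by
        rw [toUnit_sec' p g, hp, ← gpt_mul, ← gpt_mul, htc])
      obtain ⟨p', hp'⟩ := hW'u _ z (fun j => by
          rw [← cancel_mono i, MTTorus.comp_pow_hom, hz, ← gpt_pow, ht, MonObj.one_comp, gpt, MonObj.comp_one,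
            MTKernel.toBC_one])
        (fun a b => by rw [← cancel_mono i, MonObj.mul_comp, MonObj.mul_comp, hz, hz, ← gpt_mul, ← gpt_mul, htc])
      refine ⟨(gptIso p).inv ≫ (Over.map T.hom).map p', fun j => ?_⟩
      refine Fin.cases ?_ (fun j => ?_) j
      · rw [Fin.cons_zero, ← hp, Category.assoc, ← cancel_epi (gptIso p).hom, Iso.hom_inv_id_assoc, ← Category.assoc,
          ← Category.assoc]
        congr 1
        apply Over.OverMorphism.ext
        show p'.left ≫ W'.hom = 𝟙 _ ≫ p.left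
        rw [Category.id_comp]
        exact Over.w p'
      · rw [Fin.cons_succ]
        refine gpt_inj p ?_
        rw [gpt, Category.assoc, Iso.hom_inv_id_assoc, toBC_naturality, hρ, ← Category.assoc, hp', hz]

/-- The scheme of sections carrying one torsion tuple to another is smooth. -/
theorem exists_tuple_transporter (N : ℕ) (hN : 0 < N) {G : Over S} [GrpObj G] [Smooth G.hom] [IsSeparated G.hom]
    [QuasiCompact G.hom] (hu : IsUnit (N : Γ(S, ⊤))) (r : ℕ) : ∀ (σ τ : Fin r → (𝟙_ (Over S) ⟶ G)),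
    (∀ j, σ j ^ N = 1) → (∀ j, τ j ^ N = 1) → (∀ a b, σ a * σ b = σ b * σ a) → (∀ a b, τ a * τ b = τ b * τ a) →
    ∃ (Z : Over S) (i : Z ⟶ G), IsClosedImmersion i.left ∧ Smooth Z.hom ∧ QuasiCompact Z.hom ∧ IsSeparated Z.hom ∧
      ∀ (X : Over S) (t : X ⟶ G), (∃ z, z ≫ i = t) ↔ ∀ j, t * (toUnit X ≫ σ j) = (toUnit X ≫ τ j) * t := by
  induction r with
  | zero =>
    intro σ τ _ _ _ _
    exact ⟨G, 𝟙 G, inferInstanceAs (IsClosedImmersion (𝟙 G.left)), inferInstance, inferInstance, inferInstance,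
      fun X t => ⟨fun _ j => j.elim0, fun _ => ⟨t, Category.comp_id t⟩⟩⟩
  | succ r ih =>
    intro σ τ hσ hτ hσc hτc
    obtain ⟨Z, i, hic, hZs, hZq, hZsep, hZ⟩ := ih (fun j => σ j.succ) (fun j => τ j.succ) (fun j => hσ _)
      (fun j => hτ _) (fun a b => hσc _ _) (fun a b => hτc _ _)
    haveI := hic; haveI := hZs; haveI := hZq; haveI := hZsep
    haveI : Mono i.left := inferInstance
    haveI : Mono i := Over.mono_of_mono_left i
    let f : Z ⟶ G := (toUnit Z ≫ τ 0) * i * (toUnit Z ≫ σ 0)⁻¹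
    let f' : Z ⟶ G := (toUnit Z ≫ τ 0)⁻¹ * i * (toUnit Z ≫ σ 0)
    have hi := (hZ Z i).1 ⟨𝟙 Z, Category.id_comp i⟩
    have hcs : ∀ {X : Over S} (a b : Fin (r + 1)), Commute (toUnit X ≫ σ a) (toUnit X ≫ σ b) := fun {X} a b => by
      show _ * _ = _ * _
      rw [← MonObj.comp_mul, ← MonObj.comp_mul, hσc]
    have hct : ∀ {X : Over S} (a b : Fin (r + 1)), Commute (toUnit X ≫ τ a) (toUnit X ≫ τ b) := fun {X} a b => by
      show _ * _ = _ * _
      rw [← MonObj.comp_mul, ← MonObj.comp_mul, hτc]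
    obtain ⟨a, ha⟩ := (hZ Z f).2 fun j => by
      show (toUnit Z ≫ τ 0) * i * (toUnit Z ≫ σ 0)⁻¹ * (toUnit Z ≫ σ j.succ) =
        (toUnit Z ≫ τ j.succ) * ((toUnit Z ≫ τ 0) * i * (toUnit Z ≫ σ 0)⁻¹)
      calc (toUnit Z ≫ τ 0) * i * (toUnit Z ≫ σ 0)⁻¹ * (toUnit Z ≫ σ j.succ)
          = (toUnit Z ≫ τ 0) * (i * (toUnit Z ≫ σ j.succ)) * (toUnit Z ≫ σ 0)⁻¹ := by
            rw [_root_.mul_assoc ((toUnit Z ≫ τ 0) * i), ((hcs 0 j.succ).inv_left).eq]; group
        _ = (toUnit Z ≫ τ 0) * (toUnit Z ≫ τ j.succ) * i * (toUnit Z ≫ σ 0)⁻¹ := by rw [hi]; group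
        _ = _ := by rw [(hct 0 j.succ).eq]; group
    obtain ⟨a', ha'⟩ := (hZ Z f').2 fun j => by
      show (toUnit Z ≫ τ 0)⁻¹ * i * (toUnit Z ≫ σ 0) * (toUnit Z ≫ σ j.succ) =
        (toUnit Z ≫ τ j.succ) * ((toUnit Z ≫ τ 0)⁻¹ * i * (toUnit Z ≫ σ 0))
      calc (toUnit Z ≫ τ 0)⁻¹ * i * (toUnit Z ≫ σ 0) * (toUnit Z ≫ σ j.succ)
          = (toUnit Z ≫ τ 0)⁻¹ * (i * (toUnit Z ≫ σ j.succ)) * (toUnit Z ≫ σ 0) := by
            rw [_root_.mul_assoc ((toUnit Z ≫ τ 0)⁻¹ * i), (hcs 0 j.succ).eq]; group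
        _ = (toUnit Z ≫ τ 0)⁻¹ * (toUnit Z ≫ τ j.succ) * i * (toUnit Z ≫ σ 0) := by rw [hi]; group
        _ = _ := by rw [((hct 0 j.succ).inv_left).eq]; group
    have hcomp : ∀ {X : Over S} (x : X ⟶ Z),
        x ≫ f = (toUnit X ≫ τ 0) * (x ≫ i) * (toUnit X ≫ σ 0)⁻¹ := fun x => by
      simp only [f, MonObj.comp_mul, GrpObj.comp_inv, ← Category.assoc, comp_toUnit]
    have hcomp' : ∀ {X : Over S} (x : X ⟶ Z),
        x ≫ f' = (toUnit X ≫ τ 0)⁻¹ * (x ≫ i) * (toUnit X ≫ σ 0) := fun x => by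
      simp only [f', MonObj.comp_mul, GrpObj.comp_inv, ← Category.assoc, comp_toUnit]
    let α : Aut Z := ⟨a, a', by
        rw [← cancel_mono i, Category.assoc, ha', hcomp', ha, Category.id_comp]; simp only [f]; group,
      by rw [← cancel_mono i, Category.assoc, ha, hcomp, ha', Category.id_comp]; simp only [f']; group⟩
    have hpow : ∀ k : ℕ, ∀ {X : Over S} (x : X ⟶ Z),
        (x ≫ (α ^ k).hom) ≫ i = (toUnit X ≫ τ 0) ^ k * (x ≫ i) * ((toUnit X ≫ σ 0) ^ k)⁻¹ := by
      intro k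
      induction k with
      | zero =>
        intro X x
        simp only [pow_zero, _root_.one_mul, _root_.inv_one, _root_.mul_one]
        show (x ≫ 𝟙 Z) ≫ i = _
        rw [Category.comp_id]
      | succ k ihk =>
        intro X x
        rw [pow_succ α, show (α ^ k * α).hom = a ≫ (α ^ k).hom from rfl, ← Category.assoc x a, ihk,
          Category.assoc x a, ha, hcomp, pow_succ, pow_succ]
        group
    have hα : α ^ N = 1 := by
      refine Iso.ext ((cancel_mono i).1 ?_)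
      have h := hpow N (𝟙 Z)
      rw [← MonObj.comp_pow, ← MonObj.comp_pow, hσ, hτ, MonObj.comp_one, _root_.one_mul, _root_.inv_one,
        _root_.mul_one, Category.id_comp] at h
      exact h
    obtain ⟨Z', i', hic', hZs', hZq', hZsep', hZ'⟩ := exists_fixed_scheme Z α N hN hα hu
    haveI := hic'
    refine ⟨Z', i' ≫ i, inferInstanceAs (IsClosedImmersion (i'.left ≫ i.left)), hZs', hZq', hZsep', fun X t => ?_⟩
    have key : ∀ z : X ⟶ Z, z ≫ α.hom = z ↔ (z ≫ i) * (toUnit X ≫ σ 0) = (toUnit X ≫ τ 0) * (z ≫ i) := fun z => by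
      rw [← cancel_mono i, Category.assoc, show α.hom ≫ i = f from ha, hcomp, mul_inv_eq_iff_eq_mul, eq_comm]
    constructor
    · rintro ⟨z, rfl⟩ j
      refine Fin.cases ?_ (fun j => ?_) j
      · rw [← Category.assoc]; exact (key _).1 ((hZ' X _).2 ⟨z, rfl⟩)
      · rw [← Category.assoc]; exact (hZ X _).1 ⟨_, rfl⟩ j
    · intro h
      obtain ⟨z, hz⟩ := (hZ X t).2 fun j => h j.succ
      obtain ⟨z', hz'⟩ := (hZ' X z).1 ((key z).2 (by rw [hz]; exact h 0))
      exact ⟨z', by rw [reassoc_of% hz', hz]⟩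

/-- The common centralizer of a commuting torsion tuple is a smooth closed subgroup. -/
theorem exists_tuple_centralizer (N : ℕ) (hN : 0 < N) {G : Over S} [GrpObj G] [Smooth G.hom] [IsSeparated G.hom]
    [QuasiCompact G.hom] (hu : IsUnit (N : Γ(S, ⊤))) {r : ℕ} (σ : Fin r → (𝟙_ (Over S) ⟶ G))
    (hσ : ∀ j, σ j ^ N = 1) (hc : ∀ a b, σ a * σ b = σ b * σ a) :
    ∃ (Z : Over S) (_ : GrpObj Z) (i : Z ⟶ G), IsMonHom i ∧ IsClosedImmersion i.left ∧ Smooth Z.hom ∧
      QuasiCompact Z.hom ∧ IsSeparated Z.hom ∧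
      ∀ (X : Over S) (t : X ⟶ G), (∃ z, z ≫ i = t) ↔ ∀ j, (toUnit X ≫ σ j) * t = t * (toUnit X ≫ σ j) := by
  obtain ⟨Z, i, hic, hZs, hZq, hZsep, hZ⟩ := exists_tuple_transporter N hN hu r σ σ hσ hσ hc hc
  haveI := hic
  haveI : Mono i.left := inferInstance
  haveI : Mono i := Over.mono_of_mono_left i
  obtain ⟨hZg, him⟩ := Groth.Agent.MTBridge.exists_grpObj_of_div i
    (by
      refine (hZ _ η[G]).2 fun j => ?_
      rw [show η[G] = (1 : 𝟙_ _ ⟶ G) by rw [Hom.one_def, toUnit_unit, Category.id_comp], _root_.mul_one,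
        _root_.one_mul])
    fun T a b => by
      refine (hZ T _).2 fun j => ?_
      have ha : Commute (a ≫ i) (toUnit T ≫ σ j) := (hZ T (a ≫ i)).1 ⟨a, rfl⟩ j
      have hb : Commute (b ≫ i) (toUnit T ≫ σ j) := (hZ T (b ≫ i)).1 ⟨b, rfl⟩ j
      exact (ha.inv_left).mul_left hb
  exact ⟨Z, hZg, i, him, hic, hZs, hZq, hZsep, fun X t => (hZ X t).trans
    ⟨fun h j => (h j).symm, fun h j => (h j).symm⟩⟩

end Groth.Agent.MTImage
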