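import Groth.Agent.MTImage.CartanInSub

/-!
# Torsion tuples whose centralizers lie in a subgroup

Smooth locally, a subgroup containing Cartan subgroups on geometric fibres contains, near a given fibre, whatever
centralizes a suitable torsion tuple.
-/

set_option autoImplicit false
set_option linter.style.haveILetI false
set_option backward.isDefEq.respectTransparency false
set_option maxHeartbeats 1000000
set_option synthInstance.maxHeartbeats 400000

universe u

noncomputable section

open CategoryTheory Limits MonoidalCategory CartesianMonoidalCategory MonObj GrpObj AlgebraicGeometry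
open scoped CategoryTheory.Obj

namespace Groth.Agent.MTImage

open Groth.Agent.MTBridge Groth.Agent.Chev Groth.Agent.Chev.MaxTorusExt

variable {S : Scheme.{u}}

/-- A monomorphism with a section over an open flat surjection near a point is an isomorphism near it. -/
theorem exists_iso_nhd_of_section {Q Z U : Scheme.{u}} (j : Q ⟶ Z) [Mono j] (π : U ⟶ Z) [Flat π]
    (hπ : IsOpenMap π.base) (h : U ⟶ Q) (hh : h ≫ j = π) (u : U) :
    ∃ A : Z.Opens, π u ∈ A ∧ IsIso (j ∣_ A) := by
  obtain ⟨_, ⟨A', hA', rfl⟩, huA, hAr⟩ := Z.isBasis_affineOpens.exists_subset_of_mem_open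
    (show π u ∈ Set.range π.base from ⟨u, rfl⟩) hπ.isOpen_range
  let A : Z.Opens := A'
  have hA : IsAffineOpen A := hA'
  obtain ⟨B, hB, hBA⟩ := exists_compact_lift_open π hπ A hA.isCompact hAr
  have hr : Set.range (B.ι ≫ π) ⊆ Set.range A.ι := by
    rintro _ ⟨b, rfl⟩
    rw [A.range_ι]
    exact hBA.le ⟨B.ι b, b.2, rfl⟩
  let g : (B : Scheme.{u}) ⟶ (A : Scheme.{u}) := IsOpenImmersion.lift A.ι (B.ι ≫ π) hr
  have hg : g ≫ A.ι = B.ι ≫ π := IsOpenImmersion.lift_fac _ _ _
  haveI : Surjective g := ⟨fun v => by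
    obtain ⟨b, hb, hbv⟩ := hBA.ge v.2
    refine ⟨⟨b, hb⟩, A.ι.isOpenEmbedding.injective ?_⟩
    rw [← Scheme.Hom.comp_apply, hg]
    exact hbv⟩
  haveI : Flat g := by
    haveI : Flat (g ≫ A.ι) := by rw [hg]; infer_instance
    have hsq : IsPullback g (𝟙 _) A.ι (g ≫ A.ι) :=
      ⟨⟨(Category.id_comp _).symm⟩, ⟨PullbackCone.IsLimit.mk _ (fun s => s.snd)
        (fun s => by rw [← cancel_mono A.ι, Category.assoc, ← s.condition]) (fun s => Category.comp_id _)
        (fun s m _ hm => by simpa using hm)⟩⟩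
    exact MorphismProperty.of_isPullback (P := @Flat) hsq.flip ‹Flat (g ≫ A.ι)›
  haveI : IsAffine (A : Scheme.{u}) := hA
  haveI : CompactSpace ↥(B : Scheme.{u}) := isCompact_iff_compactSpace.1 hB
  haveI : QuasiCompact (g ≫ terminal.from (A : Scheme.{u})) := (quasiCompact_iff_compactSpace _).2 inferInstance
  haveI : QuasiCompact g := QuasiCompact.of_comp g (terminal.from (A : Scheme.{u}))
  refine ⟨A, huA, ?_⟩
  haveI : Mono (j ∣_ A) := (MorphismProperty.monomorphisms Scheme.{u}).of_isPullback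
    (isPullback_morphismRestrict j A).flip (‹Mono j›)
  have hfac : (B.ι ≫ h) ≫ j = g ≫ A.ι := by rw [Category.assoc, hh, hg]
  let σ : (B : Scheme.{u}) ⟶ (j ⁻¹ᵁ A : Scheme.{u}) := (isPullback_morphismRestrict j A).lift (g) (B.ι ≫ h) hfac.symm
  have hσ : σ ≫ (j ∣_ A) = g := (isPullback_morphismRestrict j A).lift_fst _ _ _
  haveI : IsSplitEpi (pullback.snd (j ∣_ A) g) :=
    ⟨⟨⟨pullback.lift σ (𝟙 _) (by rw [hσ, Category.id_comp]), pullback.lift_snd _ _ _⟩⟩⟩
  haveI : IsIso (pullback.snd (j ∣_ A) g) := isIso_of_mono_of_isSplitEpi _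
  exact MorphismProperty.of_isPullback_of_descendsAlong (P := MorphismProperty.isomorphisms Scheme.{u})
    (Q := @Surjective ⊓ @Flat ⊓ @QuasiCompact) (IsPullback.of_hasPullback (j ∣_ A) g).flip
    ⟨⟨inferInstance, inferInstance⟩, inferInstance⟩ ‹_›

/-- **Smooth locally, the centralizer of a suitable torsion tuple lies in the subgroup near the given fibre.** -/
theorem exists_tuple_in_sub {H G : Over S} [GrpObj H] [GrpObj G] [Smooth G.hom] [IsSeparated G.hom]
    [QuasiCompact G.hom] (hconn : ∀ s : S, _root_.IsConnected (G.hom.base ⁻¹' {s})) [Smooth H.hom]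
    [QuasiCompact H.hom] [IsSeparated H.hom] (i : H ⟶ G) [IsMonHom i] [Mono i] (hH : CartanIn i) (s : S) :
    ∃ (N r : ℕ) (P : Over S) (p₀ : P.left) (τ : Fin r → (P ⟶ H)), 0 < N ∧ IsUnit (N : Γ(P.left, ⊤)) ∧
      Smooth P.hom ∧ P.hom p₀ = s ∧ (∀ j, τ j ^ N = 1) ∧ (∀ a b, τ a * τ b = τ b * τ a) ∧
      ∀ (X : Over S) (p : X ⟶ P) (t : X ⟶ G), (∀ j, (p ≫ τ j ≫ i) * t = t * (p ≫ τ j ≫ i)) →
        ∀ x : X.left, p.left x = p₀ → ∃ U : X.left.Opens, x ∈ U ∧
          ∃ h : (U : Scheme.{u}) ⟶ H.left, h ≫ i.left = U.ι ≫ t.left := by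
  obtain ⟨l, hl, D, hsD, hu⟩ := exists_prime_invertible s
  let a := Red.geomPt s
  let K := AlgebraicClosure (S.residueField s)
  have has : a (IsLocalRing.closedPoint K) = s := by
    show (Spec.map _ ≫ S.fromSpecResidueField s) _ = s
    rw [Scheme.Hom.comp_apply]
    exact S.fromSpecResidueField_apply _ _
  have hrD : Set.range a ⊆ Set.range D.ι := by
    rintro _ ⟨y, rfl⟩
    rw [D.range_ι, Subsingleton.elim (α := PrimeSpectrum K) y (IsLocalRing.closedPoint K), has]
    exact hsD
  let xD : Spec (CommRingCat.of K) ⟶ (D : Scheme.{u}) := IsOpenImmersion.lift D.ι a hrD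
  have hxD : xD ≫ D.ι = a := IsOpenImmersion.lift_fac _ _ _
  haveI : Smooth (Red.bc a G).hom := inferInstanceAs (Smooth (pullback.snd G.hom a))
  haveI : IsSeparated (Red.bc a G).hom := inferInstanceAs (IsSeparated (pullback.snd G.hom a))
  haveI : QuasiCompact (Red.bc a G).hom := inferInstanceAs (QuasiCompact (pullback.snd G.hom a))
  haveI : Smooth (Red.bc a H).hom := inferInstanceAs (Smooth (pullback.snd H.hom a))
  haveI : ConnectedSpace ↥(Red.bc a G).left := connectedSpace_bc_pt G hconn a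
  haveI : PreservesLimitsOfShape WalkingCospan (Over.pullback a) :=
    (Adjunction.rightAdjoint_preservesLimits (Over.mapPullbackAdj a)).preservesLimitsOfShape
  haveI : Mono ((Over.pullback a).map i) := inferInstance
  obtain ⟨C', hC'g, c', hm', hmono', T, hTg, iT, hiT, hC⟩ := hH s
  haveI := hm'; haveI := hmono'; haveI := hiT.1; haveI := hiT.2.1
  obtain ⟨hCs, hCc⟩ := Groth.Agent.S8407.result _ _ T iT hiT.2.2.1 _ _ hC
  haveI := hCs
  haveI : Smooth T.hom := smooth_torus hiT.2.2.1
  obtain ⟨t', ht', -⟩ := exists_torus_in_cartan iT hiT _ hC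
  have hr : (t' ≫ c') ≫ (Over.pullback a).map i = iT := by rw [Category.assoc]; exact ht'
  have hl1 : 1 < l := by rcases hl with rfl | rfl <;> norm_num
  have hlpos : 0 < l := by omega
  have hlK : (l : K) ≠ 0 := by
    have h := ((hu.map xD.appTop.hom).map (Scheme.ΓSpecIso (CommRingCat.of K)).hom.hom)
    rw [map_natCast, map_natCast] at h
    exact h.ne_zero
  obtain ⟨m, L, hL, hcent⟩ := exists_torsion_centralizer l hl1 hlK hiT.2.2.1 iT
  choose F hF using fun t : 𝟙_ (Over (Spec (CommRingCat.of K))) ⟶ T => exists_kpt a (t ≫ t' ≫ c')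
  haveI : IsMonHom (t' ≫ c') := MTSplit.isMonHom_of_comp_mono _ ((Over.pullback a).map i) iT hr
  have hFtor : ∀ j : Fin L.length, F L[j] ^ (l ^ m) = 1 := fun j => kpt_inj a (by
    rw [kpt_pow, hF, ← MTTorus.comp_pow_hom, Fin.getElem_fin, hL _ (List.getElem_mem j.2), MonObj.one_comp, kpt_one])
  have hFcomm : ∀ a' b' : Fin L.length, F L[a'] * F L[b'] = F L[b'] * F L[a'] := fun a' b' => kpt_inj a (by
    rw [kpt_mul, kpt_mul, hF, hF, ← MonObj.mul_comp, ← MonObj.mul_comp, RedR1.mul_comm_torus hiT.2.2.1])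
  -- the tuple scheme over `D`
  let e : (Over.map D.ι).obj (Over.mk xD) ≅ Over.mk a := Over.isoMk (Iso.refl _) (by
    show 𝟙 _ ≫ a = xD ≫ D.ι
    rw [Category.id_comp, hxD])
  let HD := Red.bc D.ι H
  haveI : Smooth HD.hom := inferInstanceAs (Smooth (pullback.snd H.hom D.ι))
  haveI : IsSeparated HD.hom := inferInstanceAs (IsSeparated (pullback.snd H.hom D.ι))
  haveI : QuasiCompact HD.hom := inferInstanceAs (QuasiCompact (pullback.snd H.hom D.ι))
  obtain ⟨W₀, τ₀, hW₀, hτ₀, hτ₀c, huniv⟩ := exists_tuple_scheme l hl m L.length HD hu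
  haveI := hW₀
  obtain ⟨pD, hpD⟩ := huniv _ (fun j => toBC D.ι (e.hom ≫ F L[j]))
    (fun j => by rw [← MTTorus.toBC_pow, ← MonObj.comp_pow, hFtor, MonObj.comp_one, MTKernel.toBC_one])
    (fun a' b' => by rw [← toBC_mul, ← toBC_mul, ← MonObj.comp_mul, ← MonObj.comp_mul, hFcomm])
  let W : Over S := (Over.map D.ι).obj W₀
  haveI : Smooth W.hom := inferInstanceAs (Smooth (W₀.hom ≫ D.ι))
  choose τ hτ' using fun j => exists_toBC' D.ι (τ₀ j)
  have hτ : ∀ j, τ j ^ (l ^ m) = 1 := fun j => toBC_inj D.ι (by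
    rw [MTTorus.toBC_pow, MTKernel.toBC_one, hτ', hτ₀])
  have hτc : ∀ a' b', τ a' * τ b' = τ b' * τ a' := fun a' b' => toBC_inj D.ι (by
    rw [toBC_mul, toBC_mul, hτ', hτ', hτ₀c])
  let p : Over.mk a ⟶ W := e.inv ≫ (Over.map D.ι).map pD
  have hp : ∀ j, p ≫ τ j = F L[j] := fun j => by
    rw [Category.assoc, Iso.inv_comp_eq]
    refine toBC_inj D.ι ?_
    rw [toBC_naturality, hτ']
    exact hpD j
  have huW : IsUnit ((l ^ m : ℕ) : Γ(W.left, ⊤)) := by
    rw [Nat.cast_pow]
    exact (isUnit_natCast W₀.hom l hu).pow m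
  -- centralizers in the two groups
  let GW := Red.bc W.hom G
  let HW := Red.bc W.hom H
  let iW : HW ⟶ GW := (Over.pullback W.hom).map i
  haveI : Smooth GW.hom := inferInstanceAs (Smooth (pullback.snd G.hom W.hom))
  haveI : IsSeparated GW.hom := inferInstanceAs (IsSeparated (pullback.snd G.hom W.hom))
  haveI : QuasiCompact GW.hom := inferInstanceAs (QuasiCompact (pullback.snd G.hom W.hom))
  haveI : Smooth HW.hom := inferInstanceAs (Smooth (pullback.snd H.hom W.hom))
  haveI : IsSeparated HW.hom := inferInstanceAs (IsSeparated (pullback.snd H.hom W.hom))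
  haveI : QuasiCompact HW.hom := inferInstanceAs (QuasiCompact (pullback.snd H.hom W.hom))
  haveI : PreservesLimitsOfShape WalkingCospan (Over.pullback W.hom) :=
    (Adjunction.rightAdjoint_preservesLimits (Over.mapPullbackAdj W.hom)).preservesLimitsOfShape
  haveI : IsMonHom iW := inferInstanceAs (IsMonHom ((Over.pullback W.hom).map i))
  haveI : Mono iW := inferInstanceAs (Mono ((Over.pullback W.hom).map i))
  have hsec : ∀ j, sec (τ j ≫ i) = sec (τ j) ≫ iW := fun j => by
    rw [sec, ← Category.assoc, toBC_comp]; rfl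
  obtain ⟨ZG, hZGg, iG, hiGm, hiGc, hZGs, hZGq, hZGsep, hZG⟩ := exists_tuple_centralizer (l ^ m) (pow_pos hlpos m)
    (G := GW) huW (fun j => sec (τ j ≫ i))
    (fun j => by rw [hsec, ← MTTorus.comp_pow_hom, ← sec_pow, hτ, sec_one, MonObj.one_comp])
    (fun a' b' => by
      rw [hsec, hsec, ← MonObj.mul_comp, ← MonObj.mul_comp]
      show (toBC W.hom _ * toBC W.hom _) ≫ _ = (toBC W.hom _ * toBC W.hom _) ≫ _
      rw [← toBC_mul, ← toBC_mul, ← MonObj.comp_mul, ← MonObj.comp_mul, hτc])
  obtain ⟨ZH, hZHg, iH, hiHm, hiHc, hZHs, hZHq, hZHsep, hZH⟩ := exists_tuple_centralizer (l ^ m) (pow_pos hlpos m)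
    (G := HW) huW (fun j => sec (τ j)) (fun j => by rw [← sec_pow, hτ, sec_one])
    (fun a' b' => by
      show toBC W.hom _ * toBC W.hom _ = toBC W.hom _ * toBC W.hom _
      rw [← toBC_mul, ← toBC_mul, ← MonObj.comp_mul, ← MonObj.comp_mul, hτc])
  haveI := hiGm; haveI := hiGc; haveI := hZGs; haveI := hZGq; haveI := hZGsep
  haveI := hiHm; haveI := hiHc; haveI := hZHs; haveI := hZHq; haveI := hZHsep
  haveI : Mono iG.left := inferInstance
  haveI : Mono iG := Over.mono_of_mono_left iG
  haveI : Mono iH.left := inferInstance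
  haveI : Mono iH := Over.mono_of_mono_left iH
  obtain ⟨wZ, hwZ⟩ := (hZG ZH (iH ≫ iW)).2 fun j => by
    have h := congrArg (fun v => v ≫ iW) ((hZH ZH iH).1 ⟨𝟙 _, Category.id_comp _⟩ j)
    simp only [MonObj.mul_comp, Category.assoc] at h
    rw [hsec]
    exact h
  haveI : IsMonHom wZ := MTSplit.isMonHom_of_comp_mono wZ iG (iH ≫ iW) hwZ
  haveI : Mono (wZ ≫ iG) := by rw [hwZ]; exact mono_comp _ _
  haveI : Mono wZ := mono_of_mono wZ iG
  obtain ⟨-, G₀, hG₀g, cG, hcGm, hcGo, hcGr, hG₀s, hG₀q⟩ := Groth.Agent.S4098.result W.left ZG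
    ⟨⊤, by infer_instance, fun _ => trivial⟩
  obtain ⟨-, H₀, hH₀g, cH, hcHm, hcHo, hcHr, hH₀s, hH₀q⟩ := Groth.Agent.S4098.result W.left ZH
    ⟨⊤, by infer_instance, fun _ => trivial⟩
  haveI := hcGm; haveI := hcGo; haveI := hG₀s; haveI := hG₀q
  haveI := hcHm; haveI := hcHo; haveI := hH₀s; haveI := hH₀q
  haveI : Mono cG.left := inferInstance
  haveI : Mono cG := Over.mono_of_mono_left cG
  haveI : Mono cH.left := inferInstance
  haveI : Mono cH := Over.mono_of_mono_left cH
  have hG₀c : ∀ t : W.left, _root_.IsConnected (G₀.hom.base ⁻¹' {t}) := fun t => by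
    haveI : ConnectedSpace ↥(G₀.hom.fiber t) := connected_fibre_neutral cG hcGr t
    exact isConnected_iff_connectedSpace.2
      ((G₀.hom.fiberHomeo t).surjective.connectedSpace (G₀.hom.fiberHomeo t).continuous)
  have hH₀c : ∀ t : W.left, _root_.IsConnected (H₀.hom.base ⁻¹' {t}) := fun t => by
    haveI : ConnectedSpace ↥(H₀.hom.fiber t) := connected_fibre_neutral cH hcHr t
    exact isConnected_iff_connectedSpace.2
      ((H₀.hom.fiberHomeo t).surjective.connectedSpace (H₀.hom.fiberHomeo t).continuous)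
  obtain ⟨w₀, hw₀⟩ := exists_factor_connected (cH ≫ wZ) cG hH₀c
  haveI : IsMonHom w₀ := MTSplit.isMonHom_of_comp_mono w₀ cG (cH ≫ wZ) hw₀
  haveI : Mono (w₀ ≫ cG) := by rw [hw₀]; exact mono_comp _ _
  haveI : Mono w₀ := mono_of_mono w₀ cG
  haveI : IsSeparated G₀.hom := by rw [← Over.w cG]; infer_instance
  let q : Spec (CommRingCat.of K) ⟶ W.left := p.left
  have hqa : q ≫ W.hom = a := Over.w p
  let w₁ : W.left := q (IsLocalRing.closedPoint K)
  haveI : PreservesLimitsOfShape WalkingCospan (Over.pullback q) :=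
    (Adjunction.rightAdjoint_preservesLimits (Over.mapPullbackAdj q)).preservesLimitsOfShape
  haveI : Subsingleton ↥(Spec (CommRingCat.of K)) := inferInstanceAs (Subsingleton (PrimeSpectrum K))
  haveI : LocallyOfFiniteType (Red.bc q ZG).hom := inferInstanceAs (LocallyOfFiniteType (pullback.snd ZG.hom q))
  haveI : IsClosedImmersion ((Over.pullback q).map iG).left :=
    MorphismProperty.of_isPullback (P := @IsClosedImmersion) (isPullback_map iG q) hiGc
  obtain ⟨eG, heG, hG'⟩ := MaxTorusBC.exists_trIso hqa G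
  obtain ⟨eH, heH, hH'⟩ := MaxTorusBC.exists_trIso hqa H
  haveI : IsMonHom eG.hom := hG'
  haveI : IsMonHom eH.hom := hH'
  have hnat : (Over.pullback a).map i ≫ eG.hom = eH.hom ≫ (Over.pullback q).map iW := by
    rw [heH, heG, trIso_natural]
  have hptsG : ∀ b : Over.mk a ⟶ G, kpt a b ≫ eG.hom = kpt q (pt p b) := fun b => by
    rw [heG]; exact kpt_pt p hqa b
  have hptsH : ∀ b : Over.mk a ⟶ H, kpt a b ≫ eH.hom = kpt q (pt p b) := fun b => by
    rw [heH]; exact kpt_pt p hqa b
  -- at `q` the two centralizers are the Cartan subgroup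
  obtain ⟨u, hu'⟩ : ∃ u : C' ⟶ Red.bc q ZH, u ≫ (Over.pullback q).map iH = c' ≫ eH.hom := by
    haveI : IsClosedImmersion ((Over.pullback q).map iH).left :=
      MorphismProperty.of_isPullback (P := @IsClosedImmersion) (isPullback_map iH q) hiHc
    refine exists_factor_kpts _ _ fun v => ?_
    obtain ⟨b, hb⟩ := exists_kpt a (v ≫ c')
    obtain ⟨z, hz⟩ := (hZH _ (pt p b)).2 fun j => by
      rw [toUnit_sec p (τ j), hp, pt_comm_iff]
      refine kpt_inj a ?_
      rw [kpt_mul, kpt_mul, hF, hb, ← cancel_mono ((Over.pullback a).map i), MonObj.mul_comp, MonObj.mul_comp,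
        Category.assoc, Category.assoc, Category.assoc, ht']
      have h := (hC.2.2 _ (v ≫ c' ≫ (Over.pullback a).map i)).1 ⟨v, rfl⟩ _ (𝟙 _) L[j]
      rw [Category.id_comp] at h
      exact h.symm
    exact ⟨kpt q z, by rw [← kpt_comp, hz, ← hptsH, hb, Category.assoc]⟩
  let wq := (Over.pullback q).map wZ
  have huw : u ≫ wq ≫ (Over.pullback q).map iG = c' ≫ (Over.pullback a).map i ≫ eG.hom := by
    rw [← Functor.map_comp, hwZ, Functor.map_comp, ← Category.assoc, hu', Category.assoc, hnat]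
  haveI : Smooth (Red.bc q ZG).hom := inferInstanceAs (Smooth (pullback.snd ZG.hom q))
  haveI : Mono (c' ≫ (Over.pullback a).map i ≫ eG.hom) := by rw [← Category.assoc]; exact mono_comp _ _
  haveI : LocallyOfFiniteType C'.hom := inferInstance
  obtain ⟨v, hv⟩ : ∃ v : Red.bc q ZG ⟶ C',
      v ≫ c' ≫ (Over.pullback a).map i ≫ eG.hom = (Over.pullback q).map iG := by
    haveI : IsIso eG.hom.left := ((Over.forget _).mapIso eG).isIso_hom
    haveI : IsClosedImmersion (c' ≫ (Over.pullback a).map i).left := by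
      haveI : QuasiCompact ((c' ≫ (Over.pullback a).map i).left ≫ (Red.bc a G).hom) := by
        rw [Over.w (c' ≫ (Over.pullback a).map i)]
        haveI := hCc
        exact Groth.Agent.S5324.result _ C' (fun _ =>
          MorphismProperty.pullback_snd _ _ (inferInstanceAs (LocallyOfFiniteType C'.hom))) fun t => by
            rw [show C'.hom.base ⁻¹' {t} = Set.univ from Set.eq_univ_of_forall fun z => Subsingleton.elim _ _]
            exact isConnected_univ
      haveI : QuasiCompact (c' ≫ (Over.pullback a).map i).left := QuasiCompact.of_comp _ (Red.bc a G).hom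
      haveI : GrpField.PointBase (Spec (CommRingCat.of K)) := inferInstance
      exact GrpField.isClosedImmersion_of_mono (c' ≫ (Over.pullback a).map i)
    haveI : IsClosedImmersion ((c' ≫ (Over.pullback a).map i) ≫ eG.hom).left :=
      inferInstanceAs (IsClosedImmersion ((c' ≫ (Over.pullback a).map i).left ≫ eG.hom.left))
    obtain ⟨v, hv⟩ := exists_factor_kpts ((Over.pullback q).map iG) ((c' ≫ (Over.pullback a).map i) ≫ eG.hom)
      fun z => by
        obtain ⟨z', rfl⟩ := exists_kpt q z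
        obtain ⟨b, hb⟩ := exists_pt p (z' ≫ iG)
        have hb' : ∀ t ∈ L, (t ≫ iT) * kpt a b = kpt a b * (t ≫ iT) := fun t ht => by
          obtain ⟨j, hj, rfl⟩ := List.getElem_of_mem ht
          have h := (hZG _ (pt p b)).1 ⟨z', hb.symm⟩ ⟨j, hj⟩
          rw [toUnit_sec p (τ ⟨j, hj⟩ ≫ i), ← Category.assoc, hp, pt_comm_iff] at h
          have h' := congrArg (kpt a) h
          rw [kpt_mul, kpt_mul, kpt_comp, hF, Category.assoc, Category.assoc, ht'] at h'
          exact h'
        obtain ⟨y, hy⟩ := (hC.2.2 _ (kpt a b)).2 fun X y h => by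
          suffices hs : iT * (toUnit T ≫ kpt a b) = (toUnit T ≫ kpt a b) * iT by
            have h2 := congrArg (fun m => h ≫ m) hs
            simp only [MonObj.comp_mul, ← Category.assoc, comp_toUnit] at h2
            rw [toUnit_unique y (toUnit X)]
            exact h2.symm
          refine hom_ext_kpts fun t => ?_
          simp only [MonObj.comp_mul, ← Category.assoc]
          rw [toUnit_unique (t ≫ toUnit T) (𝟙 _), Category.id_comp]
          exact hcent (kpt a b) hb' t
        exact ⟨y, ((Category.assoc _ _ _).symm.trans (congrArg (· ≫ eG.hom) hy)).trans (by rw [hptsG, hb, kpt_comp])⟩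
    exact ⟨v, by rw [← hv]; simp only [Category.assoc]⟩
  haveI : Mono ((Over.pullback q).map iG) := inferInstance
  haveI : Mono ((Over.pullback q).map wZ) := inferInstance
  haveI : IsSplitEpi ((Over.pullback q).map wZ) := ⟨⟨⟨v ≫ u, by
    rw [← cancel_mono ((Over.pullback q).map iG), Category.assoc, Category.assoc, huw, hv, Category.id_comp]⟩⟩⟩
  haveI : IsIso ((Over.pullback q).map wZ) := isIso_of_mono_of_isSplitEpi _
  -- the centralizer in `G` has connected fibre at `q`
  haveI : ConnectedSpace ↥(Red.bc q ZG).left := by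
    haveI := hCc
    have hvs : Function.Surjective (u ≫ wq).left := fun z => by
      refine ⟨v.left z, ?_⟩
      rw [← Scheme.Hom.comp_apply, ← Over.comp_left]
      have h1 : v ≫ u ≫ wq = 𝟙 _ := by
        rw [← cancel_mono ((Over.pullback q).map iG), Category.assoc, Category.assoc, huw, hv, Category.id_comp]
      rw [h1]
      rfl
    exact hvs.connectedSpace (u ≫ wq).left.continuous
  have hfull : ZG.hom.base ⁻¹' {w₁} ⊆ Set.range cG.left := fun z hz => by
    have hq : Set.range q = {w₁} := by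
      refine Set.eq_singleton_iff_unique_mem.2 ⟨⟨_, rfl⟩, ?_⟩
      rintro _ ⟨y, rfl⟩
      exact congrArg q (Subsingleton.elim _ _)
    have hconn₁ : _root_.IsConnected (ZG.hom.base ⁻¹' {w₁}) := by
      rw [show ZG.hom.base ⁻¹' {w₁} = Set.range (pullback.fst ZG.hom q) by rw [Scheme.Pullback.range_fst, hq]]
      haveI : ConnectedSpace ↥(pullback ZG.hom q) := ‹ConnectedSpace ↥(Red.bc q ZG).left›
      exact isConnected_range (pullback.fst ZG.hom q).continuous
    have hz' : ZG.hom z = w₁ := hz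
    show z ∈ Set.range cG.left.base
    rw [hcGr, GrpDim.neutralSet_iff]
    show z ∈ connectedComponentIn _ _
    rw [hz']
    exact (hconn₁.isPreconnected.subset_connectedComponentIn (GrpDim.hom_section ZG w₁) subset_rfl) hz'
  have hiso₀ : IsIso ((Over.pullback q).map w₀).left := by
    haveI : Smooth (Red.bc q H₀).hom := inferInstanceAs (Smooth (pullback.snd H₀.hom q))
    haveI : Mono ((Over.pullback q).map cG) := inferInstance
    haveI : IsOpenImmersion ((Over.pullback q).map cH).left :=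
      MorphismProperty.of_isPullback (P := @IsOpenImmersion) (isPullback_map cH q) hcHo
    haveI : LocallyOfFiniteType (Red.bc q ZH).hom := inferInstanceAs (LocallyOfFiniteType (pullback.snd ZH.hom q))
    haveI : IsMonHom (CategoryTheory.inv ((Over.pullback q).map wZ)) :=
      inferInstanceAs (IsMonHom (asIso ((Over.pullback q).map wZ)).inv)
    obtain ⟨k, hk⟩ := exists_factor_connected ((Over.pullback q).map cG ≫ CategoryTheory.inv ((Over.pullback q).map wZ))
      ((Over.pullback q).map cH) (isConnected_fibre_bc G₀ hG₀c q)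
    haveI : Mono ((Over.pullback q).map w₀) := inferInstance
    haveI : IsSplitEpi ((Over.pullback q).map w₀) := ⟨⟨⟨k, by
      rw [← cancel_mono ((Over.pullback q).map cG), Category.assoc, ← Functor.map_comp, hw₀, Functor.map_comp,
        reassoc_of% hk, IsIso.inv_hom_id, Category.comp_id, Category.id_comp]⟩⟩⟩
    haveI : IsIso ((Over.pullback q).map w₀) := isIso_of_mono_of_isSplitEpi _
    exact ((Over.forget _).mapIso (asIso ((Over.pullback q).map w₀))).isIso_hom
  obtain ⟨O, hwO, hO⟩ := exists_nhd_iso_of_geom w₀ hH₀c hG₀c _ (isIso_geom_of_pt w₀ q hiso₀)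
  haveI := hO
  refine ⟨l ^ m, L.length, W, w₁, τ, pow_pos hlpos m, huW, inferInstance, ?_, hτ, hτc, fun X pX t hcomm x hx => ?_⟩
  · show W.hom (q (IsLocalRing.closedPoint K)) = s
    rw [← Scheme.Hom.comp_apply, hqa, has]
  obtain ⟨z, hz⟩ := (hZG _ (gpt pX t)).2 fun j => by
    rw [toUnit_sec', ← gpt_mul, ← gpt_mul, hcomm]
  let U : X.left.Opens := z.left ⁻¹ᵁ cG.left.opensRange ⊓ pX.left ⁻¹ᵁ O
  have hxU : x ∈ U := by
    refine ⟨hfull ?_, ?_⟩
    · show ZG.hom (z.left x) = w₁
      rw [← Scheme.Hom.comp_apply, Over.w z]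
      exact hx
    · show pX.left x ∈ O
      rw [hx]
      exact hwO
  refine ⟨U, hxU, ?_⟩
  have hrO : Set.range (U.ι ≫ pX.left) ⊆ Set.range O.ι := by
    rintro _ ⟨y, rfl⟩
    rw [O.range_ι]
    exact y.2.2
  let π := IsOpenImmersion.lift O.ι (U.ι ≫ pX.left) hrO
  have hπ : π ≫ O.ι = U.ι ≫ pX.left := IsOpenImmersion.lift_fac _ _ _
  have hrG : Set.range (U.ι ≫ z.left) ⊆ Set.range cG.left := by
    rintro _ ⟨y, rfl⟩
    exact y.2.1
  let zU : (Over.map O.ι).obj (Over.mk π) ⟶ G₀ := Over.homMk (IsOpenImmersion.lift cG.left (U.ι ≫ z.left) hrG) (by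
    show _ ≫ G₀.hom = π ≫ O.ι
    rw [← Over.w cG, IsOpenImmersion.lift_fac_assoc]
    exact (Category.assoc _ _ _).trans ((congrArg (U.ι ≫ ·) (Over.w z)).trans hπ.symm))
  obtain ⟨y, hy⟩ := exists_toBC' O.ι (toBC O.ι zU ≫ CategoryTheory.inv ((Over.pullback O.ι).map w₀))
  have hyz : y ≫ w₀ = zU := toBC_inj O.ι (by
    rw [toBC_comp, hy, Category.assoc, IsIso.inv_hom_id, Category.comp_id])
  refine ⟨y.left ≫ cH.left ≫ iH.left ≫ pullback.fst H.hom W.hom, ?_⟩
  have hfst : pullback.fst H.hom W.hom ≫ i.left = iW.left ≫ pullback.fst G.hom W.hom := (isPullback_map i W.hom).w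
  have h1 : y.left ≫ cH.left ≫ iH.left ≫ iW.left = U.ι ≫ (gpt pX t).left := by
    have e1 : wZ.left ≫ iG.left = iH.left ≫ iW.left := congrArg (fun m => m.left) hwZ
    have e2 : w₀.left ≫ cG.left = cH.left ≫ wZ.left := congrArg (fun m => m.left) hw₀
    have e3 : y.left ≫ w₀.left = IsOpenImmersion.lift cG.left (U.ι ≫ z.left) hrG := congrArg (fun m => m.left) hyz
    have e4 : z.left ≫ iG.left = (gpt pX t).left := congrArg (fun m => m.left) hz
    rw [← e1, ← reassoc_of% e2, ← Category.assoc, e3, IsOpenImmersion.lift_fac_assoc, Category.assoc, e4]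
  rw [Category.assoc, Category.assoc, Category.assoc, hfst, reassoc_of% h1]
  refine congrArg (fun m => U.ι ≫ m) ?_
  simp [gpt, gptIso, toBC, Over.mapPullbackAdj]

end Groth.Agent.MTImage
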